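import Cfsg.Agent.Lib.MaxClassEssential.Action
import Cfsg.Agent.Lib.HallHigmanB.Main
import Cfsg.Agent.Lib.Coprime
import Mathlib.RingTheory.Flat.FaithfullyFlat.Basic
import Mathlib.FieldTheory.IsAlgClosed.AlgebraicClosure

/-!
An element acting with small nilpotency degree commutes with every invariant group of coprime order.
-/

set_option autoImplicit false
set_option linter.style.haveILetI false

namespace CfsgLib.MaxClassResidual

open Subgroup
open scoped TensorProduct

variable {p : ℕ} [hpf : Fact p.Prime]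

/-- Hall and Higman: degree at most `p - 2` forces commutation with invariant `p'`-groups. -/
theorem commute_of_sub_one_pow {G : Type*} [Group G] [Finite G] (hp : 5 ≤ p) {V : Type*} [AddCommGroup V]
    [Module (ZMod p) V] [Finite V] (σ : G →* Module.End (ZMod p) V) (hσ : Function.Injective σ)
    {K : Subgroup G} (hK : ¬ p ∣ Nat.card K) {x : G} (hx : x ∈ normalizer (K : Set G))
    (h : (σ x - 1) ^ (p - 2) = 0) : ∀ k ∈ K, x * k = k * x := by
  classical
  have hpp : p.Prime := hpf.out
  have hxp : x ^ p = 1 := hσ (by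
    rw [map_pow, map_one]; exact MaxClassEssential.pow_prime_eq_one p (d := p - 2) (by omega) h)
  rcases (Nat.dvd_prime hpp).mp (orderOf_dvd_of_pow_eq_one hxp) with h1 | hxo
  · intro k _; rw [orderOf_eq_one_iff.mp h1, one_mul, mul_one]
  set F := AlgebraicClosure (ZMod p) with hF
  haveI : CharP F p := charP_of_injective_algebraMap (algebraMap (ZMod p) F).injective p
  haveI : Module.Finite (ZMod p) V := Module.Finite.of_finite
  let ρ : G →* Module.End F (F ⊗[ZMod p] V) :=
    (Module.End.baseChangeHom (ZMod p) F V).toMonoidHom.comp σ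
  have hmk : Function.Injective (TensorProduct.mk (ZMod p) F V 1) :=
    Module.FaithfullyFlat.tensorProduct_mk_injective V
  have hρ : Function.Injective ρ := fun a b hab => hσ (LinearMap.ext fun v => hmk (by
    have := LinearMap.congr_fun hab ((1 : F) ⊗ₜ[ZMod p] v)
    exact this))
  have hρx : (ρ x - 1) ^ (p - 2) = 0 := by
    have e : ρ x - 1 = Module.End.baseChangeHom (ZMod p) F V (σ x - 1) := by
      rw [map_sub, map_one]; rfl
    rw [e, ← map_pow, h, map_zero]
  have hA : zpowers x ≤ normalizer (K : Set G) := zpowers_le.mpr hx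
  have hcop : (Nat.card (zpowers x)).Coprime (Nat.card K) := by
    rw [Nat.card_zpowers, hxo]; exact hpp.coprime_iff_not_dvd.mpr hK
  have hsol : Group.IsSolvable (zpowers x) ∨ Group.IsSolvable K :=
    Or.inl (Group.isSolvable_of_comm fun a b => mul_comm' a b)
  set C : Subgroup G := K ⊓ centralizer ({x} : Set G) with hC
  have hdvd : Nat.card K ∣ Nat.card C := by
    rw [← Nat.factorization_prime_le_iff_dvd Nat.card_pos.ne' Nat.card_pos.ne']
    intro q hq
    haveI : Fact q.Prime := ⟨hq⟩
    obtain ⟨P, hP⟩ := CfsgLib.coprime_exists_invariant_sylow hA hcop hsol q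
    set Q : Subgroup G := (P : Subgroup K).map K.subtype with hQ
    have hQP : IsPGroup q Q := P.2.map _
    have hQK : Q ≤ K := map_subtype_le _
    by_cases hcen : x ∈ centralizer (Q : Set G)
    · have hQC : Q ≤ C := le_inf hQK fun u hu =>
        mem_centralizer_singleton_iff.mpr (mem_centralizer_iff.mp hcen u hu)
      have h1 : Nat.card Q = Nat.card (P : Subgroup K) := card_subtype _ _
      rw [Sylow.card_eq_multiplicity] at h1
      refine (Nat.Prime.pow_dvd_iff_le_factorization hq Nat.card_pos.ne').mp ?_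
      rw [← h1]; exact card_dvd_of_le hQC
    · by_cases hpq : p = q
      · subst hpq
        rw [Nat.factorization_eq_zero_of_not_dvd hK]; exact Nat.zero_le _
      exfalso
      have hxQ : x ∈ normalizer (Q : Set G) := hP (mem_zpowers x)
      rcases CfsgLib.HallHigmanB.bound_of_invariant hpq ρ hρ Q hQP hxQ (n := 1) le_rfl
        (by rw [pow_one]; exact hxo) (by rwa [Nat.sub_self, pow_zero, pow_one]) (p - 2) hρx with
        h2 | ⟨-, k, b, hk, -, hb, hle, -⟩
      · rw [pow_one] at h2; omega
      · obtain rfl : k = 0 := by omega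
        simp only [pow_zero, one_mul, Nat.sub_zero, pow_one] at hb hle
        omega
  have hCK : C = K := eq_of_le_of_card_ge inf_le_left (Nat.le_of_dvd Nat.card_pos hdvd)
  intro k hk
  exact (mem_centralizer_singleton_iff.mp (hCK.ge hk).2).symm

/-- The group version on the Frattini quotient. -/
theorem aut_commute_of_sub_one_pow {E : Type*} [Group E] [Finite E] [hE : Fact (IsPGroup p E)] (hp : 5 ≤ p)
    {K : Subgroup (MulAut E)} (hK : ¬ p ∣ Nat.card K) {x : MulAut E} (hx : x ∈ normalizer (K : Set (MulAut E)))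
    (h : ((MaxClassEssential.lin x : Module.End (ZMod p) (MaxClassEssential.Vec p E)) - 1) ^ (p - 2) = 0) :
    ∀ k ∈ K, x * k = k * x := by
  haveI : Finite (MulAut E) := Finite.of_injective (fun f => (f : E → E)) DFunLike.coe_injective
  let L : MulAut E →* (Module.End (ZMod p) (MaxClassEssential.Vec p E))ˣ := MaxClassEssential.lin.toHomUnits
  have hL : ∀ a, ((L a : (Module.End (ZMod p) (MaxClassEssential.Vec p E))ˣ) :
      Module.End (ZMod p) (MaxClassEssential.Vec p E)) = MaxClassEssential.lin a := fun a => rfl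
  haveI : Finite (Module.End (ZMod p) (MaxClassEssential.Vec p E)) :=
    Finite.of_injective (fun f => (f : MaxClassEssential.Vec p E → MaxClassEssential.Vec p E)) DFunLike.coe_injective
  have hKL : ¬ p ∣ Nat.card (K.map L) := fun hd => hK (hd.trans (card_map_dvd _ _))
  have hxL : L x ∈ normalizer (K.map L : Set (Module.End (ZMod p) (MaxClassEssential.Vec p E))ˣ) :=
    le_normalizer_map L (mem_map_of_mem L hx)
  have hcomm := commute_of_sub_one_pow (p := p) hp (Units.coeHom (Module.End (ZMod p) (MaxClassEssential.Vec p E)))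
    Units.val_injective hKL hxL (by rw [Units.coeHom_apply, hL]; exact h)
  intro k hk
  have h1 := hcomm (L k) (mem_map_of_mem L hk)
  have hmem : x * k * x⁻¹ * k⁻¹ ∈ K := mul_mem ((mem_normalizer_iff.mp hx k).mp hk) (inv_mem hk)
  have hker : x * k * x⁻¹ * k⁻¹ ∈ (MaxClassEssential.lin : MulAut E →*
      Module.End (ZMod p) (MaxClassEssential.Vec p E)).ker := by
    rw [MonoidHom.mem_ker, ← hL, map_mul, map_mul, map_mul, map_inv, map_inv, h1, mul_assoc (L k),
      mul_inv_cancel, mul_one, mul_inv_cancel, Units.val_one]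
  obtain ⟨a, ha⟩ := (MaxClassEssential.isPGroup_ker_lin (p := p) (E := E)) ⟨_, hker⟩
  have ha' : (x * k * x⁻¹ * k⁻¹) ^ p ^ a = 1 := congrArg Subtype.val ha
  have h2 : orderOf (x * k * x⁻¹ * k⁻¹) ∣ Nat.card K := Subgroup.orderOf_dvd_natCard K hmem
  have h3 := Nat.eq_one_of_dvd_coprimes ((hpf.out.coprime_iff_not_dvd.mpr hK).pow_left a)
    (orderOf_dvd_of_pow_eq_one ha') h2
  rw [orderOf_eq_one_iff, mul_inv_eq_one, mul_inv_eq_iff_eq_mul] at h3
  exact h3

end CfsgLib.MaxClassResidual
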