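import Cfsg.Agent.Lib.MaxClassResidual.HH
import Cfsg.Agent.Lib.MaxClassEssential.Cyc
import Mathlib.Algebra.CharP.Lemmas

/-!
A group whose elements of order `p` act with one Jordan block: two-dimensional sections, and idempotents
with nilpotent commutator.
-/

set_option autoImplicit false
set_option linter.unusedSectionVars false
set_option linter.style.haveILetI false

namespace CfsgLib.MaxClassResidual

open Subgroup

section block

variable {K : Type*} [Field K] {V : Type*} [AddCommGroup V] [Module K V]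

/-- In one Jordan block every vector is a multiple of the generator up to the image. -/
theorem block_decomp {M : Module.End K V} {d : ℕ} (hd : 1 ≤ d) (hM : M ^ d = 0) (hdim : Module.finrank K V = d)
    {e₀ : V} (he₀ : (M ^ (d - 1)) e₀ ≠ 0) (v : V) : ∃ (r : K) (y : V), v = r • e₀ + M y := by
  haveI : FiniteDimensional K V := Module.finite_of_finrank_pos (by omega)
  let Φ : (Fin d → K) →ₗ[K] V := ∑ k : Fin d, LinearMap.smulRight (LinearMap.proj k) ((M ^ (k : ℕ)) e₀)
  have hΦ : ∀ c, Φ c = ∑ k : Fin d, c k • (M ^ (k : ℕ)) e₀ := fun c => by simp [Φ]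
  have hinj : Function.Injective Φ := by
    rw [← LinearMap.ker_eq_bot, eq_bot_iff]
    intro c hc
    rw [LinearMap.mem_ker, hΦ] at hc
    by_contra hne
    have hne' : ∃ k, c k ≠ 0 := by
      by_contra h; push Not at h; exact hne (by rw [Submodule.mem_bot]; exact funext h)
    classical
    set S := Finset.univ.filter fun k => c k ≠ 0
    have hS : S.Nonempty := by obtain ⟨k, hk⟩ := hne'; exact ⟨k, by simp [S, hk]⟩
    set k₀ := S.min' hS
    have hk₀ : c k₀ ≠ 0 := (Finset.mem_filter.mp (S.min'_mem hS)).2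
    have h1 := congrArg (M ^ (d - 1 - (k₀ : ℕ))) hc
    rw [map_zero, map_sum, Finset.sum_eq_single k₀ ?_ (by simp)] at h1
    · rw [map_smul, ← Module.End.mul_apply, ← pow_add, show d - 1 - (k₀ : ℕ) + (k₀ : ℕ) = d - 1 by
        have := k₀.isLt; omega] at h1
      exact (smul_eq_zero.mp h1).elim hk₀ he₀
    · intro k _ hk
      rcases lt_or_gt_of_ne hk with h | h
      · have : c k = 0 := by
          by_contra hck
          exact not_lt.mpr (S.min'_le k (by simp [S, hck])) h
        rw [this, zero_smul, map_zero]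
      · rw [map_smul, ← Module.End.mul_apply, ← pow_add,
          pow_eq_zero_of_le (show d ≤ d - 1 - (k₀ : ℕ) + (k : ℕ) by omega) hM, LinearMap.zero_apply, smul_zero]
  have hsurj : Function.Surjective Φ :=
    (LinearMap.injective_iff_surjective_of_finrank_eq_finrank (by rw [Module.finrank_fin_fun, hdim])).mp hinj
  obtain ⟨c, rfl⟩ := hsurj v
  obtain ⟨d, rfl⟩ : ∃ m, d = m + 1 := ⟨d - 1, by omega⟩
  refine ⟨c 0, ∑ k : Fin d, c k.succ • (M ^ (k : ℕ)) e₀, ?_⟩
  rw [hΦ, Fin.sum_univ_succ, map_sum]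
  simp [pow_succ']

/-- What commutes with one Jordan block has one eigenvalue. -/
theorem block_eigen {M f : Module.End K V} {d : ℕ} (hd : 1 ≤ d) (hM : M ^ d = 0)
    (hdim : Module.finrank K V = d) {e₀ : V} (he₀ : (M ^ (d - 1)) e₀ ≠ 0) (hf : f * M = M * f) :
    ∃ ε : K, (f - ε • 1) ^ d = 0 := by
  obtain ⟨ε, y, hy⟩ := block_decomp hd hM hdim he₀ (f e₀)
  refine ⟨ε, ?_⟩
  set g := f - ε • (1 : Module.End K V) with hg
  have hgM : g * M = M * g := by rw [hg, sub_mul, mul_sub, hf]; simp
  have hrange : ∀ v, ∃ y, g v = M y := by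
    intro v
    obtain ⟨r, z, rfl⟩ := block_decomp hd hM hdim he₀ v
    refine ⟨r • y + g z, ?_⟩
    have h1 : g e₀ = M y := by simp [hg, hy]
    rw [map_add, map_smul, h1, ← Module.End.mul_apply, hgM, Module.End.mul_apply, map_add, map_smul]
  have key : ∀ k v, ∃ z, (g ^ k) v = (M ^ k) z := by
    intro k
    induction k with
    | zero => exact fun v => ⟨v, rfl⟩
    | succ k ih =>
      intro v
      obtain ⟨z, hz⟩ := ih v
      obtain ⟨y, hy⟩ := hrange z
      refine ⟨y, ?_⟩
      rw [pow_succ' g, Module.End.mul_apply, hz, ← Module.End.mul_apply, (Commute.pow_right hgM k).eq,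
        Module.End.mul_apply, hy, pow_succ M, Module.End.mul_apply]
  refine LinearMap.ext fun v => ?_
  obtain ⟨z, hz⟩ := key d v
  rw [hz, hM, LinearMap.zero_apply, LinearMap.zero_apply]

end block

variable {p : ℕ} [hpf : Fact p.Prime]

/-- A semisimple operator with one eigenvalue in the prime field is scalar. -/
theorem eq_smul_of_nilpotent {V : Type*} [AddCommGroup V] [Module (ZMod p) V] [Nontrivial V]
    {f : Module.End (ZMod p) V} {ε : ZMod p} {m d : ℕ} (hm : m.Coprime p) (hm0 : 1 < m)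
    (hf : f ^ m = 1) (h : (f - ε • 1) ^ d = 0) : f = ε • 1 := by
  haveI : CharP (Module.End (ZMod p) V) p :=
    charP_of_injective_algebraMap (FaithfulSMul.algebraMap_injective (ZMod p) (Module.End (ZMod p) V)) p
  have hε : ∀ k, ε ^ p ^ k = ε := fun k => by
    induction k with
    | zero => simp
    | succ k ih => rw [pow_succ, pow_mul, ih, ZMod.pow_card]
  obtain ⟨k, hk⟩ : ∃ k, d ≤ p ^ k := ⟨d, (Nat.lt_pow_self hpf.out.one_lt).le⟩
  have hpk : f ^ p ^ k = ε • 1 := by
    have := pow_eq_zero_of_le hk h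
    rw [sub_pow_char_pow_of_commute p k (Commute.smul_right (Commute.one_right f) ε), smul_pow, one_pow, hε,
      sub_eq_zero] at this
    exact this
  obtain ⟨a, -, ha⟩ := Nat.exists_mul_mod_eq_one_of_coprime (Nat.Coprime.pow_left k hm.symm) hm0
  have hfa : f = ε ^ a • (1 : Module.End (ZMod p) V) := by
    have h1 : (f ^ p ^ k) ^ a = f := by
      rw [← pow_mul, ← Nat.div_add_mod (p ^ k * a) m, ha, pow_add, pow_mul, hf, one_pow, one_mul, pow_one]
    rw [← h1, hpk, smul_pow, one_pow]
  rw [hfa, ← sub_smul, smul_pow, one_pow, smul_eq_zero] at h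
  rcases h with h | h
  · rw [hfa, show ε ^ a = ε from sub_eq_zero.mp (pow_eq_zero_iff'.mp h).1]
  · exact absurd h one_ne_zero

section plane

variable {K : Type*} [Field K] {W : Type*} [AddCommGroup W] [Module K W]

/-- Two operators of square zero on a plane with different kernels give minus the identity. -/
theorem exists_sq_eq_neg (hW : Module.finrank K W = 2) {u w : Module.End K W} (hu : u * u = 0) (hw : w * w = 0)
    {e : W} (hue : u e ≠ 0) (hwu : w (u e) ≠ 0) :
    ∃ a b : K, ((1 + a • u) * (1 + b • w) * (1 + a • u)) * ((1 + a • u) * (1 + b • w) * (1 + a • u)) = -1 := by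
  haveI : FiniteDimensional K W := Module.finite_of_finrank_pos (by omega)
  set f₁ := u e with hf₁
  set f₂ := w f₁ with hf₂
  have hu1 : u f₁ = 0 := by rw [hf₁, ← Module.End.mul_apply, hu, LinearMap.zero_apply]
  have hw2 : w f₂ = 0 := by rw [hf₂, ← Module.End.mul_apply, hw, LinearMap.zero_apply]
  have hli : LinearIndependent K ![f₁, f₂] := by
    rw [LinearIndependent.pair_iff]
    intro s t hst
    have h1 := congrArg w hst
    rw [map_add, map_smul, map_smul, hw2, smul_zero, add_zero, map_zero, ← hf₂] at h1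
    have hs : s = 0 := (smul_eq_zero.mp h1).resolve_right hwu
    rw [hs, zero_smul, zero_add] at hst
    exact ⟨hs, (smul_eq_zero.mp hst).resolve_right hwu⟩
  let B := basisOfLinearIndependentOfCardEqFinrank hli (by simp [hW])
  have hB : ⇑B = ![f₁, f₂] := coe_basisOfLinearIndependentOfCardEqFinrank hli _
  have hdec : ∀ x, x = B.repr x 0 • f₁ + B.repr x 1 • f₂ := fun x => by
    conv_lhs => rw [← B.sum_repr x, Fin.sum_univ_two, hB]
    simp
  set a₀ := B.repr (u f₂) 0
  set b₀ := B.repr (u f₂) 1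
  have hu2 : u f₂ = a₀ • f₁ + b₀ • f₂ := hdec _
  have hne : u f₂ ≠ 0 := fun h0 => hue (by
    rw [hf₁, hdec e, map_add, map_smul, map_smul, hu1, h0, smul_zero, smul_zero, add_zero])
  have hb0 : b₀ = 0 := by
    have h1 : u (u f₂) = 0 := by rw [← Module.End.mul_apply, hu, LinearMap.zero_apply]
    rw [hu2, map_add, map_smul, map_smul, hu1, smul_zero, zero_add] at h1
    exact (smul_eq_zero.mp h1).resolve_right hne
  rw [hb0, zero_smul, add_zero] at hu2
  have ha0 : a₀ ≠ 0 := fun h0 => hne (by rw [hu2, h0, zero_smul])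
  refine ⟨a₀⁻¹, -1, B.ext fun i => ?_⟩
  set P := (1 + a₀⁻¹ • u) * (1 + (-1 : K) • w) * (1 + a₀⁻¹ • u) with hP
  have hP1 : P f₁ = -f₂ := by
    simp [hP, hu1, ← hf₂, hu2, smul_smul, ha0]
  have hP2 : P f₂ = f₁ := by
    simp [hP, hu1, ← hf₂, hu2, hw2, smul_smul, ha0]
  rw [hB]
  fin_cases i <;> simp [hP1, hP2]

/-- An operator of square zero killing the image of another is a multiple of it. -/
theorem eq_smul_of_kernel (hW : Module.finrank K W = 2) {u w : Module.End K W} (hu : u * u = 0) (hw : w * w = 0)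
    {e : W} (hue : u e ≠ 0) (hwu : w (u e) = 0) : ∃ t : K, w = t • u := by
  haveI : FiniteDimensional K W := Module.finite_of_finrank_pos (by omega)
  have hu1 : u (u e) = 0 := by rw [← Module.End.mul_apply, hu, LinearMap.zero_apply]
  have hli : LinearIndependent K ![u e, e] := by
    rw [LinearIndependent.pair_iff]
    intro s t hst
    have h1 := congrArg u hst
    rw [map_add, map_smul, map_smul, hu1, smul_zero, zero_add, map_zero] at h1
    have ht : t = 0 := (smul_eq_zero.mp h1).resolve_right hue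
    rw [ht, zero_smul, add_zero] at hst
    exact ⟨(smul_eq_zero.mp hst).resolve_right hue, ht⟩
  let B := basisOfLinearIndependentOfCardEqFinrank hli (by simp [hW])
  have hB : ⇑B = ![u e, e] := coe_basisOfLinearIndependentOfCardEqFinrank hli _
  set a₀ := B.repr (w e) 0
  set b₀ := B.repr (w e) 1
  have hwe : w e = a₀ • u e + b₀ • e := by
    conv_lhs => rw [← B.sum_repr (w e), Fin.sum_univ_two, hB]
    simp [a₀, b₀]
  refine ⟨a₀, B.ext fun i => ?_⟩
  have hb0 : b₀ • w e = 0 := by
    have h1 : w (a₀ • u e + b₀ • e) = 0 := by rw [← hwe, ← Module.End.mul_apply, hw, LinearMap.zero_apply]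
    rwa [map_add, map_smul, map_smul, hwu, smul_zero, zero_add] at h1
  rw [hB]
  fin_cases i
  · simp [hwu, hu1]
  · rcases smul_eq_zero.mp hb0 with h | h
    · simp [hwe, h]
    · simp only [LinearMap.smul_apply]
      have := congrArg (fun x => B.repr x 0) h
      simp only [map_zero, Finsupp.zero_apply] at this
      simp [h, show a₀ = 0 from this]

end plane

section oneblock

variable {V : Type*} [AddCommGroup V] [Module (ZMod p) V] [Finite V] {X : Type*} [Group X] [Finite X]

/-- A faithful representation in which every element of `p`-power order is conjugate to a power of `x`,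
which acts with one Jordan block, and in which no element acts as minus the identity. -/
structure OneBlock (σ : X →* Module.End (ZMod p) V) (x : X) (d : ℕ) : Prop where
  hp : 5 ≤ p
  inj : Function.Injective σ
  two_le : 2 ≤ d
  le : d ≤ p - 2
  nil : (σ x - 1) ^ d = 0
  dim : Module.finrank (ZMod p) V = d
  top : ∃ e₀, ((σ x - 1) ^ (d - 1)) e₀ ≠ 0
  syl : ∀ Q : Subgroup X, IsPGroup p Q → ∃ h : X, Q ≤ (zpowers x).map (MulAut.conj h).toMonoidHom
  neg : ∀ s : X, σ s ≠ -1

namespace OneBlock

variable {σ : X →* Module.End (ZMod p) V} {x : X} {d : ℕ}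

theorem x_pow (O : OneBlock σ x d) : x ^ p = 1 := O.inj (by
  rw [map_pow, map_one]
  exact MaxClassEssential.pow_prime_eq_one p (d := d) (by have := O.le; omega) O.nil)

/-- Elements of `p`-power order are conjugate to powers of the block. -/
theorem syl' (O : OneBlock σ x d) (g : X) (hg : ∃ k : ℕ, g ^ p ^ k = 1) :
    ∃ (h : X) (l : ℕ), g = h * x ^ l * h⁻¹ := by
  obtain ⟨k, hk⟩ := hg
  obtain ⟨h, hh⟩ := O.syl (zpowers g) (IsPGroup.of_card_dvd_pow (n := k)
    (by rw [Nat.card_zpowers]; exact orderOf_dvd_of_pow_eq_one hk))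
  obtain ⟨y, hy, e⟩ := hh (mem_zpowers g)
  obtain ⟨l, rfl⟩ := (mem_powers_iff_mem_zpowers.mpr hy : y ∈ Submonoid.powers x)
  exact ⟨h, l, e.symm⟩

theorem nontriv (O : OneBlock σ x d) : Nontrivial V := by
  obtain ⟨e, he⟩ := O.top
  exact ⟨⟨_, 0, he⟩⟩

/-- Elements of order prime to `p` commuting with the block are scalar. -/
theorem scalar_of_commute (O : OneBlock σ x d) {k : X} (hk : (orderOf k).Coprime p) (hc : x * k = k * x) :
    ∃ ε : ZMod p, σ k = ε • 1 := by
  obtain ⟨e, he⟩ := O.top
  haveI := O.nontriv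
  by_cases h1 : orderOf k = 1
  · exact ⟨1, by rw [orderOf_eq_one_iff.mp h1, map_one, one_smul]⟩
  obtain ⟨ε, hε⟩ := block_eigen (f := σ k) (by have := O.two_le; omega) O.nil O.dim he (by
    rw [mul_sub, sub_mul, ← map_mul, ← map_mul, hc, mul_one, one_mul])
  exact ⟨ε, eq_smul_of_nilpotent hk (by have := orderOf_pos k; omega)
    (by rw [← map_pow, pow_orderOf_eq_one, map_one]) hε⟩

/-- Hall and Higman for the block. -/
theorem commute_of_normalized (O : OneBlock σ x d) {K : Subgroup X} (hK : ¬ p ∣ Nat.card K)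
    (hx : x ∈ normalizer (K : Set X)) : ∀ k ∈ K, x * k = k * x :=
  commute_of_sub_one_pow O.hp σ O.inj hK hx (pow_eq_zero_of_le O.le O.nil)

/-- A two-dimensional section forces every conjugate of the block to lie in its group. -/
theorem section_two (O : OneBlock σ x d) {W : Type*} [AddCommGroup W] [Module (ZMod p) W]
    (hW : Module.finrank (ZMod p) W = 2) (ψ : X →* Module.End (ZMod p) W)
    (hψs : ∀ g (ε : ZMod p), σ g = ε • 1 → ψ g = ε • 1) (hψx : ψ x ≠ 1) (g : X) :
    ∃ a : ℕ, g * x * g⁻¹ = x ^ a := by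
  have hp5 := O.hp
  haveI : Nontrivial W := Module.nontrivial_of_finrank_pos (R := ZMod p) (by omega)
  haveI : FiniteDimensional (ZMod p) W := Module.finite_of_finrank_pos (by omega)
  haveI : Nontrivial (Module.End (ZMod p) W) := inferInstance
  have hker : ¬ p ∣ Nat.card ψ.ker := by
    intro hd
    obtain ⟨⟨k, hk⟩, hko⟩ := exists_prime_orderOf_dvd_card' p hd
    rw [Subgroup.orderOf_mk] at hko
    obtain ⟨h, l, rfl⟩ := O.syl' k ⟨1, by rw [pow_one, ← hko]; exact pow_orderOf_eq_one k⟩
    have hl : ¬ p ∣ l := fun ⟨c, hc⟩ => by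
      rw [hc, pow_mul, O.x_pow, one_pow, mul_one, mul_inv_cancel, orderOf_one] at hko
      exact hpf.out.one_lt.ne hko
    have hxl : ψ x ^ l = 1 := by
      have h1 : ψ (h * x ^ l * h⁻¹) = 1 := hk
      rw [map_mul, map_mul] at h1
      calc ψ x ^ l = ψ h⁻¹ * (ψ h * ψ (x ^ l) * ψ h⁻¹) * ψ h := by
            rw [← map_mul ψ h (x ^ l), ← map_mul, ← map_mul, ← map_mul, ← map_pow]; group
        _ = 1 := by rw [h1, mul_one, ← map_mul, inv_mul_cancel, map_one]
    refine hψx ?_
    rw [← orderOf_eq_one_iff]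
    exact Nat.eq_one_of_dvd_coprimes ((hpf.out.coprime_iff_not_dvd.mpr hl).symm)
      (orderOf_dvd_of_pow_eq_one hxl) (orderOf_dvd_of_pow_eq_one (by rw [← map_pow, O.x_pow, map_one]))
  have hψinj : ∀ k, ψ k = 1 → k = 1 := by
    intro k hk
    have hxn : x ∈ normalizer (ψ.ker : Set X) := by rw [normalizer_eq_top]; trivial
    obtain ⟨ε, hε⟩ := O.scalar_of_commute (((hpf.out.coprime_iff_not_dvd.mpr hker).symm).coprime_dvd_left
      (Subgroup.orderOf_dvd_natCard ψ.ker hk)) (O.commute_of_normalized hker hxn k hk)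
    have h1 := hψs k ε hε
    rw [hk] at h1
    have hε1 : ε = 1 := by
      by_contra hne
      have h2 : (1 - ε) • (1 : Module.End (ZMod p) W) = 0 := by rw [sub_smul, one_smul, ← h1, sub_self]
      exact hne (sub_eq_zero.mp ((smul_eq_zero.mp h2).resolve_right one_ne_zero)).symm
    exact O.inj (by rw [hε, hε1, one_smul, map_one])
  have hinj : ∀ a b, ψ a = ψ b → a = b := fun a b h =>
    mul_inv_eq_one.mp (hψinj _ (by rw [map_mul, h, ← map_mul, mul_inv_cancel, map_one]))
  have hsq : ∀ y : X, y ^ p = 1 → (ψ y - 1) * (ψ y - 1) = 0 := by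
    intro y hy
    haveI : CharP (Module.End (ZMod p) W) p :=
      charP_of_injective_algebraMap (FaithfulSMul.algebraMap_injective (ZMod p) (Module.End (ZMod p) W)) p
    have hnil : IsNilpotent (ψ y - 1) := ⟨p, by
      rw [sub_pow_char_of_commute p (Commute.one_right _), one_pow, ← map_pow, hy, map_one, sub_self]⟩
    obtain ⟨m, hm⟩ := hnil
    have h2 : (ψ y - 1) ^ 2 = 0 := LinearMap.ext fun v => by
      have h3 := Module.End.ker_pow_le_ker_pow_finrank (ψ y - 1) m
        (show ((ψ y - 1) ^ m) v = 0 by rw [hm, LinearMap.zero_apply])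
      rw [hW] at h3
      exact h3
    rwa [pow_two] at h2
  set u := ψ x - 1 with hu
  set y := g * x * g⁻¹ with hy
  have hyp : y ^ p = 1 := by rw [hy, conj_pow, O.x_pow, mul_one, mul_inv_cancel]
  set w := ψ y - 1 with hw
  obtain ⟨e, he⟩ : ∃ e, u e ≠ 0 := by
    by_contra h
    push Not at h
    exact hψx (sub_eq_zero.mp (LinearMap.ext h))
  have hpow : ∀ (z : X) (_ : (ψ z - 1) * (ψ z - 1) = 0) (a : ZMod p), ψ (z ^ a.val) = 1 + a • (ψ z - 1) := by
    intro z hz a
    rw [MaxClassEssential.apply_pow (σ := ψ) hz, ← Nat.cast_smul_eq_nsmul (ZMod p), ZMod.natCast_zmod_val]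
  by_cases hwu : w (u e) = 0
  · obtain ⟨t, ht⟩ := eq_smul_of_kernel hW (hsq x O.x_pow) (hsq y hyp) he hwu
    refine ⟨t.val, hinj _ _ ?_⟩
    rw [hpow x (hsq x O.x_pow), ← hu, ← ht]
    simp [hw]
  · obtain ⟨a, b, hab⟩ := exists_sq_eq_neg hW (hsq x O.x_pow) (hsq y hyp) he hwu
    set q := x ^ a.val * y ^ b.val * x ^ a.val with hq
    have hs : ψ (q * q) = -1 := by
      rw [map_mul, hq, map_mul, map_mul, hpow x (hsq x O.x_pow), hpow y (hsq y hyp)]
      exact hab
    have hsx : x * (q * q) = q * q * x := hinj _ _ (by rw [map_mul ψ, map_mul ψ _ x, hs]; simp)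
    have hs2 : (q * q) ^ 2 = 1 := hψinj _ (by rw [map_pow, hs]; simp)
    have hco : (orderOf (q * q)).Coprime p := Nat.Coprime.coprime_dvd_left (orderOf_dvd_of_pow_eq_one hs2)
      ((Nat.coprime_primes Nat.prime_two hpf.out).mpr (by omega))
    obtain ⟨ε, hε⟩ := O.scalar_of_commute hco hsx
    have h1 := hψs _ ε hε
    rw [hs] at h1
    refine absurd ?_ (O.neg (q * q))
    have h2 : (ε + 1) • (1 : Module.End (ZMod p) W) = 0 := by rw [add_smul, ← h1, one_smul, neg_add_cancel]
    rw [hε, show ε = -1 from eq_neg_of_add_eq_zero_left ((smul_eq_zero.mp h2).resolve_right one_ne_zero)]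
    simp

/-- Commuting conjugates of an element of order prime to `p` commute with the block. -/
theorem commute_of_conjugates (O : OneBlock σ x d) {t : X} {m : ℕ} (htm : t ^ m = 1) (hm : ¬ p ∣ m)
    (h : ∀ j : ℕ, t * (x ^ j * t * (x ^ j)⁻¹) = x ^ j * t * (x ^ j)⁻¹ * t) : x * t = t * x := by
  classical
  set T : Set X := Set.range fun j : ℕ => x ^ j * t * (x ^ j)⁻¹ with hT
  have hlt : ∀ i j : ℕ, i ≤ j → Commute (x ^ i * t * (x ^ i)⁻¹) (x ^ j * t * (x ^ j)⁻¹) := by
    intro i j hij
    obtain ⟨k, rfl⟩ := Nat.exists_eq_add_of_le hij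
    have h1 := (show Commute t _ from h k).map (MulAut.conj (x ^ i)).toMonoidHom
    simp only [MulEquiv.coe_toMonoidHom, MulAut.conj_apply] at h1
    convert h1 using 1
    rw [pow_add]; group
  have hcomm : ∀ a ∈ T, ∀ b ∈ T, a * b = b * a := by
    rintro _ ⟨i, rfl⟩ _ ⟨j, rfl⟩
    rcases le_total i j with h' | h'
    · exact hlt i j h'
    · exact (hlt j i h').symm
  have hab : IsMulCommutative (closure T) := isMulCommutative_closure hcomm
  have hpow : ∀ k ∈ closure T, k ^ m = 1 := by
    intro k hk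
    induction hk using closure_induction with
    | mem a ha => obtain ⟨j, rfl⟩ := ha; rw [conj_pow, htm, mul_one, mul_inv_cancel]
    | one => exact one_pow m
    | mul a b ha hb iha ihb =>
      rw [Commute.mul_pow (congrArg Subtype.val (hab.is_comm.comm ⟨a, ha⟩ ⟨b, hb⟩) :), iha, ihb, one_mul]
    | inv a _ iha => rw [inv_pow, iha, inv_one]
  have hK : ¬ p ∣ Nat.card (closure T) := by
    intro hd
    obtain ⟨⟨k, hk⟩, hko⟩ := exists_prime_orderOf_dvd_card' p hd
    rw [Subgroup.orderOf_mk] at hko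
    exact hm (hko ▸ orderOf_dvd_of_pow_eq_one (hpow k hk))
  refine O.commute_of_normalized hK ?_ t (subset_closure ⟨0, by simp⟩)
  have key : ∀ i : ℕ, ∀ k ∈ closure T, x ^ i * k * (x ^ i)⁻¹ ∈ closure T := by
    intro i k hk
    have hle : (closure T).map (MulAut.conj (x ^ i)).toMonoidHom ≤ closure T := by
      rw [MonoidHom.map_closure, closure_le]
      rintro _ ⟨_, ⟨j, rfl⟩, rfl⟩
      exact subset_closure ⟨i + j, by simp only [MulEquiv.coe_toMonoidHom, MulAut.conj_apply, pow_add]; group⟩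
    exact hle ⟨k, hk, rfl⟩
  refine mem_normalizer_iff.mpr fun k => ⟨fun hk => by simpa using key 1 k hk, fun hk => ?_⟩
  have hinv : x ^ (p - 1) = x⁻¹ := eq_inv_of_mul_eq_one_left (by
    rw [← pow_succ, show p - 1 + 1 = p by have := hpf.out.one_le; omega, O.x_pow])
  have := key (p - 1) _ hk
  simpa [hinv, mul_assoc] using this

end OneBlock

end oneblock

end CfsgLib.MaxClassResidual
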