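import Cfsg.Agent.Lib.MaxClassResidual.Opposite
import Cfsg.Agent.Lib.MaxClassEssential.Quad
import Mathlib.Algebra.Exact.Basic

/-!
A pair of conjugate quadratic elements satisfying the braid relation.
-/

set_option autoImplicit false
set_option linter.unusedSectionVars false
set_option linter.style.haveILetI false
set_option maxHeartbeats 400000

namespace CfsgLib.MaxClassResidual

open Matrix
open CfsgLib.Dickson (up lo mul_entry exists_eigen_ne_zero coord_unique trace_of_pow ext_entries)

/-- The plane spanned by an eigenvector of the product of two square-zero operators. -/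
theorem exists_plane {G : Type*} [Group G] {n : Type*} [Fintype n] [DecidableEq n]
    {p : ℕ} [Fact p.Prime] (ρ : G →* Matrix n n (ZMod p)) {x y : G}
    (hx : (ρ x - 1) * (ρ x - 1) = 0) (hy : (ρ y - 1) * (ρ y - 1) = 0)
    (hn : ¬ IsNilpotent ((ρ x - 1) * (ρ y - 1))) :
    ∃ (P : Matrix n (Fin 2) (AlgebraicClosure (ZMod p)))
      (Φ : Subgroup.closure ({x, y} : Set G) →* Matrix.SpecialLinearGroup (Fin 2) (AlgebraicClosure (ZMod p))),
      Function.Injective P.mulVec ∧
      (∀ g : Subgroup.closure ({x, y} : Set G), (algebraMap (ZMod p) (AlgebraicClosure (ZMod p))).mapMatrix (ρ (g : G)) * P = P * (Φ g).1) ∧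
      Φ ⟨x, Subgroup.subset_closure (by simp)⟩ = up 1 ∧
      ∃ c, c ≠ 0 ∧ Φ ⟨y, Subgroup.subset_closure (by simp)⟩ = lo c := by
  classical
  set E := ρ x - 1 with hE
  set F := ρ y - 1 with hF
  let K := AlgebraicClosure (ZMod p)
  haveI : CharP K p := charP_of_injective_algebraMap (algebraMap (ZMod p) K).injective p
  let ι := (algebraMap (ZMod p) K).mapMatrix (m := n)
  have hιinj : Function.Injective ι := fun A B h => Matrix.ext fun i j =>
    (algebraMap (ZMod p) K).injective (congrFun (congrFun h i) j)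
  obtain ⟨lam, v₀, hlam, hv₀, hev⟩ := exists_eigen_ne_zero (M := ι E * ι F) (by
    rintro ⟨m, hm⟩
    rw [← map_mul, ← map_pow] at hm
    exact hn ⟨m, hιinj (hm.trans (map_zero ι).symm)⟩)
  set b := ι F *ᵥ v₀ with hb
  set v := lam • v₀ with hv
  have hv0 : v ≠ 0 := smul_ne_zero hlam hv₀
  have hEv₀ : ι E *ᵥ v₀ = 0 := by
    have h1 : ι E *ᵥ v = 0 := by
      rw [← hev, Matrix.mulVec_mulVec, ← mul_assoc, ← map_mul, hx, map_zero, zero_mul, Matrix.zero_mulVec]
    rw [hv, Matrix.mulVec_smul] at h1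
    exact (smul_eq_zero.1 h1).resolve_left hlam
  have hEv : ι E *ᵥ v = 0 := by rw [hv, Matrix.mulVec_smul, hEv₀, smul_zero]
  have hFv : ι F *ᵥ v = lam • b := by rw [hv, Matrix.mulVec_smul]
  have hFb : ι F *ᵥ b = 0 := by
    rw [hb, Matrix.mulVec_mulVec, ← map_mul, hy, map_zero, Matrix.zero_mulVec]
  have hEb : ι E *ᵥ b = v := by rw [hb, Matrix.mulVec_mulVec, hv]; exact hev
  let P : Matrix n (Fin 2) K := Matrix.of fun i j => ![v i, b i] j
  have hP : Function.Injective P.mulVec := by
    suffices ∀ c : Fin 2 → K, P *ᵥ c = 0 → c = 0 by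
      intro c d h
      exact sub_eq_zero.1 (this _ (by rw [Matrix.mulVec_sub, h, sub_self]))
    intro c hc
    have hc' : c 0 • v + c 1 • b = 0 := by
      rw [← hc]; funext i
      simp [P, Matrix.mulVec, dotProduct, Fin.sum_univ_two, mul_comm]
    have h1 : c 1 • v = 0 := by
      have := congrArg (fun w => ι E *ᵥ w) hc'
      simp only [Matrix.mulVec_add, Matrix.mulVec_smul, hEv, hEb, smul_zero, zero_add, Matrix.mulVec_zero] at this
      exact this
    have hc1 : c 1 = 0 := (smul_eq_zero.1 h1).resolve_right hv0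
    rw [hc1, zero_smul, add_zero, smul_eq_zero] at hc'
    funext j
    fin_cases j
    · exact hc'.resolve_right hv0
    · exact hc1
  let H₀ : Subgroup G :=
    { carrier := {g | ∃ T : Matrix.SpecialLinearGroup (Fin 2) K, ι (ρ g) * P = P * T.1}
      one_mem' := ⟨1, by simp⟩
      mul_mem' := by
        rintro g h ⟨T, hT⟩ ⟨U, hU⟩
        exact ⟨T * U, by rw [map_mul, map_mul, Matrix.mul_assoc, hU, ← Matrix.mul_assoc, hT,
          Matrix.mul_assoc, Matrix.SpecialLinearGroup.coe_mul]⟩
      inv_mem' := by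
        rintro g ⟨T, hT⟩
        refine ⟨T⁻¹, ?_⟩
        have h1 : ι (ρ g⁻¹) * ι (ρ g) = 1 := by rw [← map_mul, ← map_mul, inv_mul_cancel, map_one, map_one]
        calc ι (ρ g⁻¹) * P = ι (ρ g⁻¹) * (P * (T.1 * (T⁻¹).1)) := by
              rw [← Matrix.SpecialLinearGroup.coe_mul, mul_inv_cancel, Matrix.SpecialLinearGroup.coe_one, Matrix.mul_one]
          _ = P * (T⁻¹).1 := by
              rw [← Matrix.mul_assoc P, ← hT, ← Matrix.mul_assoc, ← Matrix.mul_assoc, h1, Matrix.one_mul] }
  have hentry : ∀ (M : Matrix n n K) (T : Matrix (Fin 2) (Fin 2) K),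
      M *ᵥ v = T 0 0 • v + T 1 0 • b → M *ᵥ b = T 0 1 • v + T 1 1 • b → M * P = P * T := by
    intro M T h0 h1
    refine Matrix.ext fun i j => ?_
    fin_cases j
    · have := congrFun h0 i
      simp [Matrix.mulVec, dotProduct, P, Matrix.mul_apply, Fin.sum_univ_two] at this ⊢
      linear_combination this
    · have := congrFun h1 i
      simp [Matrix.mulVec, dotProduct, P, Matrix.mul_apply, Fin.sum_univ_two] at this ⊢
      linear_combination this
  have hxe : ι (ρ x) = 1 + ι E := by rw [hE, map_sub, map_one, add_sub_cancel]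
  have hye : ι (ρ y) = 1 + ι F := by rw [hF, map_sub, map_one, add_sub_cancel]
  have hxT : ι (ρ x) * P = P * (up (1 : K)).1 := by
    refine hentry _ _ ?_ ?_
    · simp [hxe, Matrix.add_mulVec, hEv]
    · simp [hxe, Matrix.add_mulVec, hEb, add_comm]
  have hyT : ι (ρ y) * P = P * (lo lam).1 := by
    refine hentry _ _ ?_ ?_
    · simp [hye, Matrix.add_mulVec, hFv]
    · simp [hye, Matrix.add_mulVec, hFb]
  have hle : Subgroup.closure ({x, y} : Set G) ≤ H₀ := by
    rw [Subgroup.closure_le]
    rintro z (rfl | rfl)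
    · exact ⟨up 1, hxT⟩
    · exact ⟨lo lam, hyT⟩
  choose φ hφ using fun g : Subgroup.closure ({x, y} : Set G) => hle g.2
  let Φ : Subgroup.closure ({x, y} : Set G) →* Matrix.SpecialLinearGroup (Fin 2) K :=
    MonoidHom.mk' φ fun g h => Subtype.ext (coord_unique hP (by
      rw [← hφ, Subgroup.coe_mul, map_mul, map_mul, Matrix.mul_assoc, hφ, ← Matrix.mul_assoc, hφ,
        Matrix.mul_assoc, Matrix.SpecialLinearGroup.coe_mul]))
  exact ⟨P, Φ, hP, hφ, Subtype.ext (coord_unique hP ((hφ _).symm.trans hxT)), lam, hlam,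
    Subtype.ext (coord_unique hP ((hφ _).symm.trans hyT))⟩

variable {p : ℕ} [hpf : Fact p.Prime] {V : Type*} [AddCommGroup V] [Module (ZMod p) V] {X : Type*} [Group X]

/-- A conjugate pair with the braid relation and a nonzero anticommutator. -/
theorem exists_braid_pair [Finite X] [FiniteDimensional (ZMod p) V] (hp : 5 ≤ p)
    (σ : Representation (ZMod p) X V) (hinj : Function.Injective σ) {z g : X}
    (hq : (σ z - 1) * (σ z - 1) = 0)
    (hK : ¬ IsPGroup p (Subgroup.closure ({z, g * z * g⁻¹} : Set X)))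
    (hclosed : ∀ Q : Subgroup X, IsPGroup p Q → Q ≠ ⊥ → ∃ U : Subgroup X, IsPGroup p U ∧
      ∀ u ∈ Subgroup.normalizer (Q : Set X), (∃ a : ℕ, u ^ p ^ a = 1) → u ∈ U) :
    ∃ k : X, (σ z * σ (k * z * k⁻¹) * σ z) * (σ z - 1) =
        (σ (k * z * k⁻¹) - 1) * (σ z * σ (k * z * k⁻¹) * σ z) ∧
      (σ z - 1) * (σ (k * z * k⁻¹) - 1) + (σ (k * z * k⁻¹) - 1) * (σ z - 1) ≠ 0 := by
  classical
  have hpp : p.Prime := hpf.out
  set φ := LinearMap.toMatrixAlgEquiv (Module.finBasis (ZMod p) V) with hφ
  let ρ : X →* Matrix (Fin (Module.finrank (ZMod p) V)) (Fin (Module.finrank (ZMod p) V)) (ZMod p) :=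
    φ.toAlgHom.toRingHom.toMonoidHom.comp σ
  have hρ : ∀ h, ρ h - 1 = φ (σ h - 1) := fun h => by rw [map_sub, map_one]; rfl
  have hconj : ∀ h : X, (σ (h * z * h⁻¹) - 1) * (σ (h * z * h⁻¹) - 1) = 0 := by
    intro h
    have e : σ (h * z * h⁻¹) - 1 = σ h * (σ z - 1) * σ h⁻¹ := by
      rw [map_mul, map_mul, mul_sub, sub_mul, mul_one, ← map_mul σ h h⁻¹, mul_inv_cancel, map_one]
    rw [e, mul_assoc (σ h * (σ z - 1)), ← mul_assoc (σ h⁻¹), ← mul_assoc (σ h⁻¹), ← map_mul σ h⁻¹,
      inv_mul_cancel, map_one, one_mul, mul_assoc, ← mul_assoc (σ z - 1) (σ z - 1), hq, zero_mul, mul_zero]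
  have hpow : ∀ h : X, (σ h - 1) * (σ h - 1) = 0 → h ^ p = 1 := fun h hh => hinj (by
    rw [map_pow, map_one]
    exact MaxClassEssential.pow_prime_eq_one p (d := 2) (by omega) (by rw [pow_two]; exact hh))
  set y := g * z * g⁻¹ with hy
  set C := Subgroup.closure ({z, y} : Set X) with hC
  obtain ⟨P, Φ, hP, hΦ, hΦz, c, hc, hΦy⟩ := exists_plane ρ (x := z) (y := y)
    (by rw [hρ, ← map_mul, hq, map_zero]) (by rw [hρ, ← map_mul, hconj g, map_zero]) (fun h => hK
      (MaxClassEssential.isPGroup_of_mul_nilpotent hinj hq (hconj g) (by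
        rw [hρ, hρ, ← map_mul] at h
        have := h.map φ.symm
        rwa [AlgEquiv.symm_apply_apply] at this)))
  let K := AlgebraicClosure (ZMod p)
  haveI : CharP K p := charP_of_injective_algebraMap (algebraMap (ZMod p) K).injective p
  haveI : Finite Φ.range := Finite.of_surjective _ Φ.rangeRestrict_surjective
  obtain ⟨k, hk⟩ := lo_neg_one_mem p hp Φ.range ⟨_, hΦz⟩ hc ⟨_, hΦy⟩
  set zC : C := ⟨z, Subgroup.subset_closure (by simp)⟩ with hzC
  set sC : C := zC * k * zC with hsC
  have hw : Φ (sC * zC * sC⁻¹) = lo (-1) := by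
    rw [map_mul, map_mul, map_inv, mul_inv_eq_iff_eq_mul, hsC, map_mul, map_mul, hΦz, hk]
    apply ext_entries <;> simp [mul_entry]
  set w : X := (sC : X) * z * (sC : X)⁻¹ with hwdef
  have hwC : w ∈ C := C.mul_mem (C.mul_mem sC.2 zC.2) (C.inv_mem sC.2)
  set C' := Subgroup.closure ({z, w} : Set X) with hC'
  have hle : C' ≤ C := by
    rw [hC', Subgroup.closure_le]
    rintro u (rfl | rfl)
    exacts [zC.2, hwC]
  set Ψ := Φ.comp (Subgroup.inclusion hle) with hΨ
  set z' : C' := ⟨z, Subgroup.subset_closure (by simp)⟩ with hz'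
  set w' : C' := ⟨w, Subgroup.subset_closure (by simp)⟩ with hw'
  have hΨz : Ψ z' = up 1 := hΦz
  have hΨw : Ψ w' = lo (-1) := by rw [← hw]; rfl
  have hzp : z ^ p = 1 := hpow z hq
  have hwp : w ^ p = 1 := hpow w (hconj _)
  -- the kernel has order prime to `p`
  have hNp : ¬ p ∣ Nat.card Ψ.ker := by
    intro hd
    obtain ⟨Q⟩ : Nonempty (Sylow p Ψ.ker) := inferInstance
    set Qx : Subgroup C' := (Q : Subgroup Ψ.ker).map Ψ.ker.subtype with hQx
    have hQne : (Qx.map C'.subtype) ≠ ⊥ := by
      intro h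
      have h1 := Q.dvd_card_of_dvd_card hd
      rw [← Subgroup.card_map_of_injective Ψ.ker.subtype_injective,
        ← Subgroup.card_map_of_injective C'.subtype_injective, ← hQx, h, Subgroup.card_bot, Nat.dvd_one] at h1
      exact hpp.ne_one h1
    obtain ⟨U, hU, hUmem⟩ := hclosed _ ((Q.2.map _).map _) hQne
    have htop := Sylow.normalizer_sup_eq_top (N := Ψ.ker) Q
    have hmemU : ∀ u : C', (u : X) ^ p = 1 → ∃ m : C', Ψ m = Ψ u ∧ ∃ r, (m : X) ^ r ∈ U ∧ Ψ (m ^ r) = Ψ u := by
      intro u hu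
      have hsup := htop.ge (Subgroup.mem_top u)
      obtain ⟨m, hm, e, he, rfl⟩ := Subgroup.mem_sup_of_normal_right.mp hsup
      have hΨm : Ψ m = Ψ (m * e) := by rw [map_mul, MonoidHom.mem_ker.mp he, mul_one]
      -- the `p`-part of `m`
      obtain ⟨a, r, hr, hord⟩ := Nat.exists_eq_pow_mul_and_not_dvd (orderOf_pos m).ne' p hpp.ne_one
      obtain ⟨i, hi⟩ := Nat.exists_mul_mod_eq_one_of_coprime (hpp.coprime_iff_not_dvd.mpr hr).symm hpp.one_lt
      have hΨp : Ψ m ^ p = 1 := by rw [hΨm, ← map_pow, show (m * e) ^ p = 1 from Subtype.ext hu, map_one]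
      refine ⟨m, hΨm, r * i, ?_, ?_⟩
      · refine hUmem _ ?_ ⟨a, ?_⟩
        · refine Subgroup.pow_mem _ ?_ _
          refine (Subgroup.le_normalizer_map C'.subtype) (Subgroup.mem_map_of_mem C'.subtype ?_)
          exact hm
        · rw [← pow_mul, show r * i * p ^ a = (p ^ a * r) * i by ring, pow_mul, ← SubmonoidClass.coe_pow, ← hord,
            pow_orderOf_eq_one, Subgroup.coe_one, one_pow]
      · rw [map_pow, ← hΨm]
        conv_lhs => rw [← Nat.div_add_mod (r * i) p]
        rw [pow_add, pow_mul, hΨp, one_pow, one_mul, hi.2, pow_one]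
    obtain ⟨m₁, -, r₁, h1U, h1e⟩ := hmemU z' hzp
    obtain ⟨m₂, -, r₂, h2U, h2e⟩ := hmemU w' hwp
    set u : C' := m₁ ^ r₁ * m₂ ^ r₂ with hu
    obtain ⟨j, hj⟩ := hU ⟨(u : X), by rw [hu]; push_cast; exact U.mul_mem h1U h2U⟩
    have h1 : Ψ u ^ p ^ j = 1 := by
      rw [← map_pow, show u ^ p ^ j = 1 from Subtype.ext (congrArg Subtype.val hj :), map_one]
    have h2 := trace_of_pow p h1
    rw [hu, map_mul, h1e, h2e, hΨz, hΨw] at h2
    simp [Matrix.trace_fin_two] at h2
    exact one_ne_zero (α := K) (by linear_combination -h2)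
  -- the generators centralise it
  have hcent : ∀ v : C', (σ (v : X) - 1) * (σ (v : X) - 1) = 0 → ∀ e ∈ Ψ.ker, v * e = e * v := by
    intro v hv e he
    refine Subtype.ext (MaxClassEssential.commute_of_quadratic hp σ hinj (H := Ψ.ker.map C'.subtype) ?_ (hpow _ hv)
      ((Subgroup.le_normalizer_map C'.subtype) (Subgroup.mem_map_of_mem C'.subtype
        (by rw [Subgroup.normalizer_eq_top]; exact Subgroup.mem_top v))) hv (e : X) ⟨e, he, rfl⟩)
    rwa [Subgroup.card_map_of_injective C'.subtype_injective]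
  set s0 : C' := z' * w' * z' with hs0
  have ht : Ψ (s0 * z' * s0⁻¹) = Ψ w' := by
    rw [map_mul, map_mul, map_inv, mul_inv_eq_iff_eq_mul, hs0, map_mul, map_mul, hΨz, hΨw]
    apply ext_entries <;> simp [mul_entry]
  set t : C' := s0 * z' * s0⁻¹ with htdef
  have hn : t * w'⁻¹ ∈ Ψ.ker := by rw [MonoidHom.mem_ker, map_mul, map_inv, ht, mul_inv_cancel]
  have hone : t * w'⁻¹ = 1 := by
    have hc : Commute (t * w'⁻¹) w' := (hcent w' (hconj _) _ hn).symm
    have htp : t ^ p = 1 := by
      rw [htdef, conj_pow, show z' ^ p = 1 from Subtype.ext hzp, mul_one, mul_inv_cancel]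
    have h1 : (t * w'⁻¹) ^ p = 1 := by
      have h2 := hc.mul_pow p
      rw [inv_mul_cancel_right, htp, show w' ^ p = 1 from Subtype.ext hwp, mul_one] at h2
      exact h2.symm
    rcases (Nat.dvd_prime hpp).mp (orderOf_dvd_of_pow_eq_one h1) with h | h
    · exact orderOf_eq_one_iff.mp h
    · refine absurd ?_ hNp
      have := Subgroup.orderOf_dvd_natCard _ hn
      rwa [h] at this
  refine ⟨(sC : X), ?_, ?_⟩
  · have hrel : s0 * z' = w' * s0 := mul_inv_eq_iff_eq_mul.mp (mul_inv_eq_one.mp hone)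
    have h1 := congrArg (fun v : C' => σ (v : X)) hrel
    simp only [hs0, Subgroup.coe_mul, hz', hw', map_mul] at h1
    rw [← hwdef, mul_sub, sub_mul, mul_one, one_mul, h1]
  · intro h0
    rw [← hwdef] at h0
    have ea : (algebraMap (ZMod p) K).mapMatrix (φ (σ z - 1)) * P = P * ((up (1 : K)).1 - 1) := by
      rw [← hρ, map_sub, map_one, Matrix.sub_mul, Matrix.one_mul, Matrix.mul_sub, Matrix.mul_one]
      have := hΦ zC
      rw [hΦz] at this
      rw [this]
    have eb : (algebraMap (ZMod p) K).mapMatrix (φ (σ w - 1)) * P = P * ((lo (-1 : K)).1 - 1) := by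
      rw [← hρ, map_sub, map_one, Matrix.sub_mul, Matrix.one_mul, Matrix.mul_sub, Matrix.mul_one]
      have := hΦ (sC * zC * sC⁻¹)
      rw [hw] at this
      rw [← this]
      rfl
    have h1 := congrArg (fun M => (algebraMap (ZMod p) K).mapMatrix (φ M) * P) h0
    simp only [map_add, map_mul, map_zero, Matrix.add_mul, Matrix.zero_mul, Matrix.mul_assoc, ea, eb] at h1
    simp only [← Matrix.mul_assoc, ea, eb] at h1
    simp only [Matrix.mul_assoc, ← Matrix.mul_add] at h1
    have h2 := coord_unique hP (h1.trans (Matrix.mul_zero P).symm)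
    have h3 := congrFun (congrFun h2 0) 0
    simp [Matrix.mul_apply, Fin.sum_univ_two] at h3

section Ring

variable {R : Type*} [Ring R] {a b : R}

/-- The algebra of the braid relation. -/
theorem braid_algebra (ha : a * a = 0) (hb : b * b = 0)
    (h : (1 + a) * (1 + b) * (1 + a) * a = b * ((1 + a) * (1 + b) * (1 + a))) :
    (a * b + b * a) * (a * b + b * a) = -(a * b + b * a) ∧
      a * (1 + (a * b + b * a)) = b * (1 + (a * b + b * a)) := by
  have hab : a + a * b * a = b + b * a + b * a * b + b * a * b * a := by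
    have e1 : (1 + a) * (1 + b) * (1 + a) * a =
        (a + b * a + a * b * a) + a * a + a * (a * a) + b * (a * a) + a * b * (a * a) + (a * a) := by
      noncomm_ring
    have e2 : b * ((1 + a) * (1 + b) * (1 + a)) =
        (b + b * a + b * a + b * a * b + b * a * b * a) + b * b + b * b * a + b * (a * a) := by
      noncomm_ring
    rw [e1, e2, ha, hb] at h
    simp only [mul_zero, zero_mul, add_zero] at h
    have := congrArg (fun x => x - b * a) h
    calc a + a * b * a = a + b * a + a * b * a - b * a := by abel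
      _ = b + b * a + b * a + b * a * b + b * a * b * a - b * a := this
      _ = _ := by abel
  set c := a * b + b * a with hc
  have haba : a * b * a = c * a := by rw [hc, add_mul, mul_assoc b, ha, mul_zero, add_zero]
  have hbab : b * a * b = c * b := by rw [hc, add_mul, mul_assoc a, hb, mul_zero, zero_add]
  have hca : c * a = a * c := by
    rw [hc, add_mul, mul_add, mul_assoc b, ha, mul_zero, add_zero, ← mul_assoc a a, ha, zero_mul, zero_add,
      mul_assoc]
  have hcb : c * b = b * c := by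
    rw [hc, add_mul, mul_add, mul_assoc a, hb, mul_zero, zero_add, ← mul_assoc b b, hb, zero_mul, add_zero,
      mul_assoc]
  -- multiply the relation on the two sides
  have hba : (1 + c) * (b * a) = 0 := by
    have := congrArg (b * ·) hab
    simp only [mul_add, ← mul_assoc, hb, zero_mul, add_zero] at this
    rw [add_mul, one_mul, ← mul_assoc]
    rw [show c * b * a = b * a * b * a by rw [← hbab]]
    exact this
  have hab1 : (1 + c) * (a * b + c * a) = 0 := by
    have := congrArg (a * ·) hab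
    simp only [mul_add, ← mul_assoc, ha, zero_mul, zero_add] at this
    have e1 : a * b * a * b = c * (a * b) := by rw [haba, mul_assoc]
    have e2 : a * b * a * b * a = c * (c * a) := by rw [e1, mul_assoc, haba]
    rw [e2, e1] at this
    rw [add_mul, one_mul, mul_add]
    calc a * b + c * a + (c * (a * b) + c * (c * a)) = a * b + a * b * a + c * (a * b) + c * (c * a) := by
          rw [haba]; abel
      _ = 0 := this.symm
  have hca1 : (1 + c) * (c * a) = 0 := by
    have := congrArg (· * a) hab1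
    rwa [zero_mul, mul_assoc (1 + c), add_mul (a * b) (c * a) a, mul_assoc c a a, ha, mul_zero, add_zero, haba] at this
  have hab2 : (1 + c) * (a * b) = 0 := by rw [mul_add, hca1, add_zero] at hab1; exact hab1
  have hsq : (1 + c) * c = 0 := by rw [hc, mul_add, hab2, hba, add_zero]
  refine ⟨eq_neg_of_add_eq_zero_right ?_, ?_⟩
  · rw [add_mul, one_mul] at hsq; exact hsq
  · have e : ∀ {d : R}, c * d = d * c → d * (1 + c) = (1 + c) * d := fun h => by
      rw [mul_add, add_mul, mul_one, one_mul, h]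
    rw [e hca, e hcb]
    have := congrArg ((1 + c) * ·) hab
    simp only [mul_add] at this
    rw [haba, hca1, hbab, hba, mul_assoc c b a] at this
    have hcc : (1 + c) * (c * (b * a)) = 0 := by rw [← mul_assoc, hsq, zero_mul]
    have hcb1 : (1 + c) * (c * b) = 0 := by rw [← mul_assoc, hsq, zero_mul]
    rw [hcc, hcb1] at this
    simpa using this

end Ring

end CfsgLib.MaxClassResidual
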