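import Cfsg.Agent.Lib.Fusion.Alperin
import Cfsg.Agent.Lib.Fusion.OrderPFive.Ext

/-!
Alperin's theorem when the essential subgroups above a given order lie in prescribed subgroups:
the maps on the remaining subgroups come from automorphisms of `S`.
-/

set_option autoImplicit false
set_option linter.unusedSectionVars false
set_option linter.style.haveILetI false
set_option linter.unusedVariables false

namespace CfsgLib.MaxClassResidual

open Cfsg Cfsg.FusionSystem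

variable {Ω : Type*} [Group Ω] {S : Subgroup Ω} [Finite S] {p : ℕ} [Fact p.Prime] {F : FusionSystem S}

/-- A map agrees on its source with an element of `Aut_F(T)`. -/
def MapExt (F : FusionSystem S) (T : Subgroup Ω) {P : Subgroup Ω} (φ : P →* Ω) : Prop :=
  ∃ β ∈ F.autGroup T, ∀ (x : P) (hx : (x : Ω) ∈ T), ((β ⟨x, hx⟩ : T) : Ω) = φ x

theorem MapExt.apply_mem {T : Subgroup Ω} {P : Subgroup Ω} {φ : P →* Ω} (h : MapExt F T φ) (x : P)
    (hx : (x : Ω) ∈ T) : φ x ∈ T := by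
  obtain ⟨β, -, hb⟩ := h
  exact hb x hx ▸ (β ⟨x, hx⟩).2

theorem MapExt.range_le {T : Subgroup Ω} {P : Subgroup Ω} {φ : P →* Ω} (h : MapExt F T φ) (hPT : P ≤ T) :
    φ.range ≤ T := by
  rintro _ ⟨x, rfl⟩
  exact h.apply_mem x (hPT x.2)

theorem MapExt.trans {T : Subgroup Ω} {P Q : Subgroup Ω} {φ : P →* Ω} {ψ : Q →* Ω} (h : MapExt F T φ)
    (h' : MapExt F T ψ) (hPT : P ≤ T) (hq : ∀ x : P, φ x ∈ Q) : MapExt F T (ψ.comp (φ.codRestrict Q hq)) := by
  obtain ⟨a, ha, hae⟩ := h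
  obtain ⟨b, hb, hbe⟩ := h'
  refine ⟨b * a, (F.autGroup T).mul_mem hb ha, fun x hx => ?_⟩
  rw [MulAut.mul_apply]
  have hφT : φ x ∈ T := MapExt.apply_mem ⟨a, ha, hae⟩ x hx
  have e : a ⟨x, hx⟩ = ⟨φ x, hφT⟩ := Subtype.ext (hae x hx)
  rw [e]
  exact hbe ⟨φ x, hq x⟩ hφT

theorem MapExt.inv {T : Subgroup Ω} {P : Subgroup Ω} {φ : P →* Ω} (h : MapExt F T φ) (hPT : P ≤ T)
    {ψ : φ.range →* Ω} (hψ : ∀ x : P, ψ ⟨φ x, ⟨x, rfl⟩⟩ = (x : Ω)) : MapExt F T ψ := by
  obtain ⟨a, ha, hae⟩ := h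
  refine ⟨a⁻¹, (F.autGroup T).inv_mem ha, fun y hy => ?_⟩
  obtain ⟨_, x, rfl⟩ := y
  rw [hψ x]
  have e : (⟨φ x, hy⟩ : T) = a ⟨x, hPT x.2⟩ := Subtype.ext (hae x (hPT x.2)).symm
  show ((a⁻¹ ⟨φ x, hy⟩ : T) : Ω) = _
  rw [e, MulAut.inv_apply_self]

theorem mapExt_conj {T P : Subgroup Ω} (hTS : T ≤ S) {g : Ω} (hg : g ∈ S)
    (hgT : g ∈ Subgroup.normalizer (T : Set Ω)) : MapExt F T (conjHom P g) :=
  ⟨T.normalizerMonoidHom ⟨g, hgT⟩,
    autInducedBy_le_autGroup hTS (mem_autInducedBy_iff.mpr ⟨g, hg, hgT, fun _ => rfl⟩), fun _ _ => rfl⟩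

/-- A subgroup invariant under `Aut_F(S)`. -/
def CharIn (F : FusionSystem S) (T : Subgroup Ω) : Prop :=
  T ≤ S ∧ ∀ β ∈ F.autGroup S, ∀ x : S, (x : Ω) ∈ T → ((β x : S) : Ω) ∈ T

theorem charIn_normalizer {T : Subgroup Ω} (hT : CharIn F T) {g : Ω} (hg : g ∈ S) :
    g ∈ Subgroup.normalizer (T : Set Ω) := by
  have key : ∀ g ∈ S, ∀ x ∈ T, g * x * g⁻¹ ∈ T := by
    intro g hg x hx
    have hgS : g ∈ Subgroup.normalizer (S : Set Ω) := Subgroup.le_normalizer hg
    exact hT.2 (S.normalizerMonoidHom ⟨g, hgS⟩)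
      (autInducedBy_le_autGroup le_rfl (mem_autInducedBy_iff.mpr ⟨g, hg, hgS, fun _ => rfl⟩)) ⟨x, hT.1 hx⟩ hx
  refine Subgroup.mem_normalizer_iff.mpr fun x => ⟨key g hg x, fun hx => ?_⟩
  have := key g⁻¹ (S.inv_mem hg) _ hx
  simpa [mul_assoc] using this

theorem charIn_restrict {T : Subgroup Ω} (hT : CharIn F T) {β : MulAut S} (hβ : β ∈ F.autGroup S) :
    ∃ α ∈ F.autGroup T, ∀ (x : T), ((α x : T) : Ω) = ((β ⟨x, hT.1 x.2⟩ : S) : Ω) := by
  haveI : Finite T := finite_of_le hT.1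
  obtain ⟨φ, hφ, -, hφe⟩ := exists_map_of_mem_autGroup le_rfl hβ
  have hψ := F.restrict_mem hφ hT.1
  have hle : (φ.comp (Subgroup.inclusion hT.1)).range ≤ T := by
    rintro _ ⟨x, rfl⟩
    show φ _ ∈ T
    rw [hφe]
    exact hT.2 β hβ _ x.2
  have hr := Subgroup.eq_of_le_of_card_ge hle
    (le_of_eq (Nat.card_congr (MonoidHom.ofInjective (F.injective_of_mem hψ)).toEquiv))
  exact ⟨F.isoOf hψ hr, F.isoOf_mem_autGroup hψ hr, fun x => hφe _⟩

theorem MapExt.restrict {T : Subgroup Ω} (hT : CharIn F T) {P : Subgroup Ω} {φ : P →* Ω} (h : MapExt F S φ) :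
    MapExt F T φ := by
  obtain ⟨β, hβ, hb⟩ := h
  obtain ⟨α, hα, ha⟩ := charIn_restrict hT hβ
  exact ⟨α, hα, fun x hx => (ha _).trans (hb x (hT.1 hx))⟩

theorem MapExt.mem_iff {T : Subgroup Ω} (hT : CharIn F T) {P : Subgroup Ω} {φ : P →* Ω} (hPS : P ≤ S)
    (h : MapExt F S φ) (x : P) : φ x ∈ T ↔ (x : Ω) ∈ T := by
  obtain ⟨β, hβ, hb⟩ := h
  rw [← hb x (hPS x.2)]
  refine ⟨fun hx => ?_, hT.2 β hβ ⟨x, hPS x.2⟩⟩
  have := hT.2 β⁻¹ ((F.autGroup S).inv_mem hβ) _ hx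
  rwa [MulAut.inv_apply_self] at this

theorem MapExt.le_of_range {T : Subgroup Ω} (hT : CharIn F T) {P : Subgroup Ω} {φ : P →* Ω} (hPS : P ≤ S)
    (h : MapExt F S φ) {R : Subgroup Ω} (hr : ∀ x : P, φ x ∈ R) (hRT : R ≤ T) : P ≤ T :=
  fun x hx => (h.mem_iff hT hPS ⟨x, hx⟩).mp (hRT (hr _))

theorem card_le_of_map {P Q : Subgroup Ω} {φ : P →* Ω} (hφ : φ ∈ F.Hom P) {ψ : Q →* Ω} (hψ : ψ ∈ F.Hom Q)
    (hq : ∀ x : P, φ x ∈ Q) : Nat.card P ≤ Nat.card Q := by
  haveI := finite_of_le (F.source_le hψ)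
  exact Nat.card_le_card_of_injective (φ.codRestrict Q hq) fun a b e => F.injective_of_mem hφ (congrArg Subtype.val e)

theorem card_range {P : Subgroup Ω} {φ : P →* Ω} (hφ : φ ∈ F.Hom P) : Nat.card φ.range = Nat.card P :=
  (Nat.card_congr (MonoidHom.ofInjective (F.injective_of_mem hφ)).toEquiv).symm

/-- If the essential subgroups of order above `m` lie in members of `𝒯`, a map on a subgroup of order
above `m` in no member of `𝒯` comes from an automorphism of `S`. -/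
theorem extends_outside (hS : IsPGroup p S) (hF : F.IsSaturated p) (m : ℕ) (𝒯 : Set (Subgroup Ω))
    (h𝒯 : ∀ T ∈ 𝒯, CharIn F T) (hess : ∀ R, F.IsEssential p R → m < Nat.card R → ∃ T ∈ 𝒯, R ≤ T)
    {P : Subgroup Ω} {φ : P →* Ω} (hφ : φ ∈ F.Hom P) (hm : m < Nat.card P) (hP : ∀ T ∈ 𝒯, ¬ P ≤ T) :
    MapExt F S φ := by
  let G : FusionSystem S :=
    { Hom := fun P => {φ | φ ∈ F.Hom P ∧ (m < Nat.card P →
        ((∀ T ∈ 𝒯, ¬ P ≤ T) → MapExt F S φ) ∧ ((∃ T ∈ 𝒯, P ≤ T) → ∃ T ∈ 𝒯, φ.range ≤ T))}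
      le_of_mem := fun h => F.le_of_mem h.1
      injective_of_mem := fun h => F.injective_of_mem h.1
      conj_mem := fun {P g} hPS hg => by
        refine ⟨F.conj_mem hPS hg, fun _ => ⟨fun _ => mapExt_conj le_rfl hg (Subgroup.le_normalizer hg), ?_⟩⟩
        rintro ⟨T, hT, hPT⟩
        exact ⟨T, hT, (mapExt_conj (F := F) (h𝒯 T hT).1 hg (charIn_normalizer (h𝒯 T hT) hg)).range_le hPT⟩
      comp_mem := fun {P Q φ ψ} h1 h2 hq => by
        refine ⟨F.comp_mem h1.1 h2.1 hq, fun hm => ?_⟩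
        obtain ⟨a1, b1⟩ := h1.2 hm
        obtain ⟨a2, b2⟩ := h2.2 (hm.trans_le (card_le_of_map h1.1 h2.1 hq))
        have hPS := F.source_le h1.1
        constructor
        · intro hbig
          have hQ : ∀ T ∈ 𝒯, ¬ Q ≤ T := fun T hT hQT =>
            hbig T hT ((a1 hbig).le_of_range (h𝒯 T hT) hPS hq hQT)
          exact (a1 hbig).trans (a2 hQ) hPS hq
        · intro hsm
          obtain ⟨T, hT, hr⟩ := b1 hsm
          by_cases hQ : ∃ T ∈ 𝒯, Q ≤ T
          · obtain ⟨T', hT', hr'⟩ := b2 hQ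
            refine ⟨T', hT', ?_⟩
            rintro _ ⟨x, rfl⟩
            exact hr' ⟨_, rfl⟩
          · refine ⟨T, hT, ?_⟩
            rintro _ ⟨x, rfl⟩
            exact ((a2 fun T hT h => hQ ⟨T, hT, h⟩).mem_iff (h𝒯 T hT) (F.source_le h2.1) _).mpr (hr ⟨x, rfl⟩)
      inv_mem := fun {P φ} h1 => by
        obtain ⟨ψ, hψ, hinv⟩ := F.inv_mem h1.1
        refine ⟨ψ, ⟨hψ, fun hm => ?_⟩, hinv⟩
        rw [card_range h1.1] at hm
        obtain ⟨a1, b1⟩ := h1.2 hm
        constructor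
        · intro hbig
          have hP : ∀ T ∈ 𝒯, ¬ P ≤ T := fun T hT hPT => by
            obtain ⟨T', hT', hr⟩ := b1 ⟨T, hT, hPT⟩
            exact hbig T' hT' hr
          exact (a1 hP).inv (F.source_le h1.1) hinv
        · rintro ⟨T, hT, hr⟩
          have hP : ∃ T ∈ 𝒯, P ≤ T := by
            by_contra hP
            push Not at hP
            exact hP T hT ((a1 hP).le_of_range (h𝒯 T hT) (F.source_le h1.1) (R := φ.range) (fun x => ⟨x, rfl⟩) hr)
          obtain ⟨T', hT', hPT'⟩ := hP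
          refine ⟨T', hT', ?_⟩
          rintro _ ⟨⟨_, x, rfl⟩, rfl⟩
          rw [hinv x]
          exact hPT' x.2 }
  have hle : F ≤ G := by
    refine hF.le_of_autGroup_le hS G fun R hR => ?_
    have hRS : R ≤ S := by rcases hR with rfl | h; exacts [le_rfl, h.1.1]
    intro α hα
    obtain ⟨χ, hχ, hr, he⟩ := exists_map_of_mem_autGroup hRS hα
    refine G.mem_autGroup_of_map (φ := χ) ⟨hχ, fun hm => ⟨fun hbig => ?_, ?_⟩⟩ fun x => (he x).symm
    · rcases hR with rfl | h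
      · exact ⟨α, hα, fun x hx => (he x).symm⟩
      · obtain ⟨T, hT, hRT⟩ := hess R h hm
        exact absurd hRT (hbig T hT)
    · rintro ⟨T, hT, hRT⟩
      exact ⟨T, hT, hr.trans_le hRT⟩
  exact ((hle P hφ).2 hm).1 hP

/-- If the essential subgroups of order above `m` all equal `T`, the maps on the subgroups of `T` of
order above `m` come from automorphisms of `T`. -/
theorem extends_inside (hS : IsPGroup p S) (hF : F.IsSaturated p) (m : ℕ) {T : Subgroup Ω}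
    (hT : CharIn F T) (hess : ∀ R, F.IsEssential p R → m < Nat.card R → R = T)
    {P : Subgroup Ω} {φ : P →* Ω} (hφ : φ ∈ F.Hom P) (hm : m < Nat.card P) (hP : P ≤ T) :
    MapExt F T φ := by
  let G : FusionSystem S :=
    { Hom := fun P => {φ | φ ∈ F.Hom P ∧ (m < Nat.card P →
        (P ≤ T → MapExt F T φ) ∧ (¬ P ≤ T → MapExt F S φ))}
      le_of_mem := fun h => F.le_of_mem h.1
      injective_of_mem := fun h => F.injective_of_mem h.1
      conj_mem := fun {P g} hPS hg => ⟨F.conj_mem hPS hg,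
        fun _ => ⟨fun _ => mapExt_conj hT.1 hg (charIn_normalizer hT hg),
          fun _ => mapExt_conj le_rfl hg (Subgroup.le_normalizer hg)⟩⟩
      comp_mem := fun {P Q φ ψ} h1 h2 hq => by
        refine ⟨F.comp_mem h1.1 h2.1 hq, fun hm => ?_⟩
        obtain ⟨a1, b1⟩ := h1.2 hm
        obtain ⟨a2, b2⟩ := h2.2 (hm.trans_le (card_le_of_map h1.1 h2.1 hq))
        have hPS := F.source_le h1.1
        constructor
        · intro hPT
          by_cases hQT : Q ≤ T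
          · exact (a1 hPT).trans (a2 hQT) hPT hq
          · exact (a1 hPT).trans ((b2 hQT).restrict hT) hPT hq
        · intro hPT
          exact (b1 hPT).trans (b2 fun h => hPT ((b1 hPT).le_of_range hT hPS hq h)) hPS hq
      inv_mem := fun {P φ} h1 => by
        obtain ⟨ψ, hψ, hinv⟩ := F.inv_mem h1.1
        refine ⟨ψ, ⟨hψ, fun hm => ?_⟩, hinv⟩
        rw [card_range h1.1] at hm
        obtain ⟨a1, b1⟩ := h1.2 hm
        have hPS := F.source_le h1.1
        constructor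
        · intro hr
          have hPT : P ≤ T := by
            by_contra h
            exact h ((b1 h).le_of_range hT hPS (R := φ.range) (fun x => ⟨x, rfl⟩) hr)
          exact (a1 hPT).inv hPT hinv
        · intro hr
          exact (b1 fun h => hr ((a1 h).range_le h)).inv hPS hinv }
  have hle : F ≤ G := by
    refine hF.le_of_autGroup_le hS G fun R hR => ?_
    have hRS : R ≤ S := by rcases hR with rfl | h; exacts [le_rfl, h.1.1]
    intro α hα
    obtain ⟨χ, hχ, -, he⟩ := exists_map_of_mem_autGroup hRS hα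
    refine G.mem_autGroup_of_map (φ := χ) ⟨hχ, fun hm => ?_⟩ fun x => (he x).symm
    rcases hR with rfl | h
    · exact ⟨fun _ => MapExt.restrict hT ⟨α, hα, fun x hx => (he x).symm⟩, fun _ => ⟨α, hα, fun x hx => (he x).symm⟩⟩
    · obtain rfl := hess R h hm
      exact ⟨fun _ => ⟨α, hα, fun x hx => (he x).symm⟩, fun h => absurd le_rfl h⟩
  exact ((hle P hφ).2 hm).1 hP

end CfsgLib.MaxClassResidual
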