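import Cfsg.Agent.Lib.MaxClassResidual.LastSeries
import Cfsg.Agent.Lib.MaxClassResidual.Extend
import Cfsg.Agent.Lib.Fusion.MaxClassCube.Main

/-!
An essential subgroup of the last two-step centralizer outside the first is that centralizer.
-/

set_option autoImplicit false
set_option linter.unusedSectionVars false
set_option linter.style.haveILetI false

namespace CfsgLib.MaxClassResidual

open scoped commutatorElement
open Cfsg Cfsg.FusionSystem Subgroup
open CfsgLib.PolySeq (fil fil_antitone fil_commutator_mem)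
open CfsgLib.MaxClassGood (twoStep mem_twoStep)

variable {Ω : Type*} [Group Ω] {S : Subgroup Ω} [Finite S] {p n : ℕ} [Fact p.Prime] {F : FusionSystem S}

theorem twoStep_charIn (k : ℕ) : CharIn F ((twoStep S k).map S.subtype) := by
  refine ⟨fun x hx => ?_, fun β _ x hx => ?_⟩
  · obtain ⟨v, -, rfl⟩ := hx; exact v.2
  · obtain ⟨v, hv, e⟩ := hx
    obtain rfl : v = x := Subtype.ext e
    exact ⟨β v, CfsgLib.MaxClassDegree.map_twoStep_mem β hv, rfl⟩

theorem eq_map_of_subgroupOf {R : Subgroup Ω} (hR : R ≤ S) {T : Subgroup S} (h : R.subgroupOf S = T) :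
    R = T.map S.subtype := by
  rw [← h, Subgroup.map_subgroupOf_eq_of_le hR]

theorem card_subgroupOf {R : Subgroup Ω} (hR : R ≤ S) : Nat.card (R.subgroupOf S) = Nat.card R :=
  Nat.card_congr (subgroupOfEquivOfLe hR).toEquiv

theorem mem_normalizer_of_conj {R : Subgroup Ω} (hR : R ≤ S) {g : S}
    (h : ∀ a ∈ R.subgroupOf S, g * a * g⁻¹ ∈ R.subgroupOf S) : (g : Ω) ∈ normalizer (R : Set Ω) := by
  haveI : Finite R := finite_of_le hR
  have key : R.map (MulAut.conj (g : Ω)).toMonoidHom = R := by
    refine eq_of_le_of_card_ge ?_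
      (le_of_eq (Nat.card_congr (R.equivMapOfInjective _ (MulAut.conj (g : Ω)).injective).toEquiv))
    rintro _ ⟨x, hx, rfl⟩
    exact h ⟨x, hR hx⟩ hx
  refine mem_normalizer_iff.mpr fun x => ⟨fun hx => key.le ⟨x, hx, rfl⟩, fun hx => ?_⟩
  obtain ⟨w, hw, e⟩ := key.ge hx
  obtain rfl : w = x := (MulAut.conj (g : Ω)).injective e
  exact hw

namespace LastEss

variable {E : Subgroup Ω} {y : S} {c : ℕ} (X : LastEss p n F E y c)

include X

theorem comm_mem_succ {a b : S} (ha : a ∈ E.subgroupOf S) (hb : b ∈ E.subgroupOf S) :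
    ⁅a, b⁆ ∈ fil S (c + 1) := by
  haveI := CfsgLib.PolySeq.fil_normal (G := S) (c + 1)
  obtain ⟨i, hi⟩ := X.decomp a ha
  obtain ⟨j, hj⟩ := X.decomp b hb
  let q := QuotientGroup.mk' (fil S (c + 1))
  have hz : ∀ u ∈ fil S c, ∀ v : S, Commute (q u) (q v) := fun u hu v =>
    CfsgLib.MaxClassRank.mk_comm_iff.mpr (fil_commutator_mem hu (mem_top v))
  refine CfsgLib.MaxClassRank.mk_comm_iff.mp ?_
  show Commute (q a) (q b)
  rw [show a = y ^ i * ((y ^ i)⁻¹ * a) by group, show b = y ^ j * ((y ^ j)⁻¹ * b) by group, map_mul q (y ^ i), map_mul q (y ^ j)]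
  refine Commute.mul_left (Commute.mul_right ?_ (hz _ hj _).symm) (hz _ hi _ |>.mul_right (hz _ hi _))
  rw [map_pow, map_pow]
  exact Commute.pow_pow_self _ _ _

theorem normalizes {g : S} (hg : g ∈ fil S (c - 1)) : (g : Ω) ∈ normalizer (E : Set Ω) := by
  refine mem_normalizer_of_conj X.le fun a ha => ?_
  have h := fil_commutator_mem (j := 1) hg (mem_top a)
  rw [show g * a * g⁻¹ = ⁅g, a⁆ * a by rw [commutatorElement_def]; group]
  exact mul_mem (X.fil_le' (by omega) h) ha

/-- An automorphism inverting `E` modulo its centre and fixing the centre. -/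
theorem exists_inverting_penult (h3 : 3 ≤ c) (h4 : c + 3 = n) :
    ∃ τ ∈ F.autGroup E, (∀ u ∈ tr X.le (fil S (n - 2)), τ u = u) ∧
      ∀ v : E, τ v * v ∈ tr X.le (fil S (n - 2)) := by
  have hn := X.last.hn
  have hG := X.last.hG
  have hcl := X.last.hc
  haveI := tr_normal X.le (fil S (n - 2))
  obtain ⟨g, hg, hg'⟩ := CfsgLib.MaxClassGood.exists_gen hn hG hcl (j := c - 1) (by omega) (by omega)
  have hgN := X.normalizes hg
  let cg : MulAut E := E.normalizerMonoidHom ⟨g, hgN⟩
  have hcR : cg ∈ autInducedBy S E := mem_autInducedBy_iff.mpr ⟨g, g.2, hgN, fun _ => rfl⟩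
  have hce : ∀ e : E, (⟨((cg e : E) : Ω), X.le (cg e).2⟩ : S) = g * ⟨(e : Ω), X.le e.2⟩ * g⁻¹ :=
    fun e => Subtype.ext rfl
  obtain ⟨x, hx⟩ := X.exists_lift X.y_mem
  have hyx : (y : Ω) = x := (congrArg Subtype.val hx).symm
  have hy2 : y ∉ fil S c := fun h => X.y_one (CfsgLib.MaxClassGood.fil_le_twoStep 2 (fil_antitone X.hc2 h))
  refine exists_inverting (p := p) X.le (N0 := tr X.le (fil S (n - 2))) (W := tr X.le (fil S c)) (x := x) (c := cg)
    (X.inv_fil' (by omega) (by omega)) (fun e he => fil_antitone (by omega) he) ?_ ?_ ?_ ?_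
    (autInducedBy_le_autGroup X.le hcR) ?_ ?_ ?_ ?_ ?_
  · rw [relIndex_tr X.le _ X.fil_le, show n - 2 = c + 1 by omega]
    exact X.relIndex_fil X.hc2 (by omega)
  · rw [index_tr, X.relIndex_top]
  · intro a b
    rw [mem_tr]
    have h := X.comm_mem_succ (a := (⟨(a : Ω), X.le a.2⟩ : S)⁻¹) (b := (⟨(b : Ω), X.le b.2⟩ : S)⁻¹)
      (inv_mem a.2) (inv_mem b.2)
    rw [show c + 1 = n - 2 by omega] at h
    convert h using 1
    refine Subtype.ext ?_
    simp [commutatorElement_def]
  · intro hW
    have e3 : n - 3 = c := by omega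
    obtain ⟨K, hKc, hKle, hKi⟩ := X.exists_bottom h3 (by omega) (by rw [e3]; exact hW)
    exact X.false_of_invariant hKc hKle hKi hW
  · intro u hu
    refine Subgroup.inclusion_injective X.le ?_
    refine (hce u).trans ?_
    have hgL : g ∈ twoStep S (n - 2) := CfsgLib.MaxClassGood.fil_le_twoStep _ (fil_antitone (by omega) hg)
    have h := X.last.last_comm (mem_tr.mp hu) hgL
    rw [← h, mul_inv_cancel_right]
    rfl
  · intro v hv
    rw [mem_tr]
    have h := fil_commutator_mem (inv_mem (mem_tr.mp hv)) hg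
    refine fil_antitone (show n - 2 ≤ c + (c - 1) by omega) ?_
    convert h using 1
    refine Subtype.ext ?_
    show (v : Ω)⁻¹ * ((g : Ω) * v * (g : Ω)⁻¹) = _
    simp [commutatorElement_def, mul_assoc]
  · rw [mem_tr, hx]; exact hy2
  · rw [mem_tr]
    have h := fil_commutator_mem (j := 1) hg (mem_top y)
    rw [show c - 1 + 1 = c by omega] at h
    have h' := (CfsgLib.PolySeq.fil_normal (G := S) c).conj_mem _ h y⁻¹
    convert h' using 1
    refine Subtype.ext ?_
    show (x : Ω)⁻¹ * ((g : Ω) * x * (g : Ω)⁻¹) = _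
    simp [commutatorElement_def, hyx, mul_assoc]
  · rw [mem_tr]
    intro hk
    rw [show n - 2 = c + 1 by omega] at hk
    refine (X.last.comm_exact (k := c - 1) (by omega) (by omega) hg (by rwa [show c - 1 + 1 = c by omega] at hg' ⊢)
      X.y_one).2 ?_
    rw [show c - 1 + 2 = c + 1 by omega]
    have h' := (CfsgLib.PolySeq.fil_normal (G := S) (c + 1)).conj_mem _ hk y
    convert h' using 1
    refine Subtype.ext ?_
    show _ = (y : Ω) * ((x : Ω)⁻¹ * ((g : Ω) * x * (g : Ω)⁻¹)) * (y : Ω)⁻¹
    simp [commutatorElement_def, hyx, mul_assoc]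

/-- There is no such essential subgroup at `c = n - 3`. -/
theorem false_of_penult (h3 : 3 ≤ c) (h4 : c + 3 = n)
    (hess : ∀ R, F.IsEssential p R → p ^ 4 < Nat.card R →
      R.subgroupOf S = twoStep S 2 ∨ R.subgroupOf S = twoStep S (n - 2)) : False := by
  have hpp : p.Prime := Fact.out
  have hn := X.last.hn
  have hG := X.last.hG
  have hcl := X.last.hc
  have h6 := X.last.h6
  have hS := X.pg
  haveI := tr_normal X.le (fil S (n - 2))
  obtain ⟨τ, hτ, hfix, hinv⟩ := X.exists_inverting_penult h3 h4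
  -- `τ` normalises `Aut_S(E)`
  have hR : ∀ r ∈ autInducedBy S E, τ * r * τ⁻¹ ∈ autInducedBy S E := by
    have hfil : ∀ k, c ≤ k → k + 1 ≤ n → ∀ v ∈ tr X.le (fil S k), τ v ∈ tr X.le (fil S k) := by
      intro k hk hk' v hv
      rcases (show k = c ∨ n - 2 ≤ k by omega) with e | e
      · have h2 : τ v * v ∈ tr X.le (fil S k) := fil_antitone (show k ≤ n - 2 by omega) (hinv v)
        have := mul_mem h2 (inv_mem hv)
        rwa [mul_inv_cancel_right] at this
      · rw [hfix v (fil_antitone e hv)]; exact hv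
    refine OrderPFive.conj_mem_of_series hS X.sat X.ess.2.1 (m := 4)
      ![⊥, tr X.le (fil S (n - 1)), tr X.le (fil S (n - 2)), tr X.le (fil S c), ⊤] rfl rfl ?_ ?_ hτ ?_
    · intro i
      fin_cases i
      · show (⊥ : Subgroup E).relIndex (tr X.le (fil S (n - 1))) ∣ p
        rw [relIndex_bot_left]
        refine dvd_of_eq ?_
        rw [Nat.card_congr ((tr X.le (fil S (n - 1))).equivMapOfInjective _
          (Subgroup.inclusion_injective X.le)).toEquiv, map_tr X.le (X.fil_le' (by omega)),
          CfsgLib.MaxClassRank.card_fil hn hG hcl (by omega) (by omega), show n - (n - 1) = 1 by omega, pow_one]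
      · show (tr X.le (fil S (n - 1))).relIndex (tr X.le (fil S (n - 2))) ∣ p
        rw [relIndex_tr X.le _ (X.fil_le' (by omega)), show n - 1 = n - 2 + 1 by omega]
        exact (X.relIndex_fil (by omega) (by omega)).dvd
      · show (tr X.le (fil S (n - 2))).relIndex (tr X.le (fil S c)) ∣ p
        rw [relIndex_tr X.le _ X.fil_le, show n - 2 = c + 1 by omega]
        exact (X.relIndex_fil X.hc2 (by omega)).dvd
      · show (tr X.le (fil S c)).relIndex ⊤ ∣ p
        rw [relIndex_top_right, index_tr, X.relIndex_top]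
    · intro r hr i v hv
      fin_cases i
      · rw [show v = 1 from hv, map_one]; exact one_mem _
      · haveI := CfsgLib.PolySeq.fil_normal (G := S) (n - 1)
        exact tr_invariant X.le _ hr hv
      · haveI := CfsgLib.PolySeq.fil_normal (G := S) (n - 2)
        exact tr_invariant X.le _ hr hv
      · haveI := CfsgLib.PolySeq.fil_normal (G := S) c
        exact tr_invariant X.le _ hr hv
      · trivial
    · intro i v hv
      fin_cases i
      · rw [show v = 1 from hv, map_one]; exact one_mem _
      · exact hfil (n - 1) (by omega) (by omega) v hv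
      · exact hfil (n - 2) (by omega) (by omega) v hv
      · exact hfil c le_rfl (by omega) v hv
      · trivial
  set N := normalizerIn S E with hN
  obtain ⟨σ, hσ, hσe⟩ := OrderPFive.exists_extend hS X.sat X.ess.2.1 hN.symm hτ hR
  have hNS : N ≤ S := normalizerIn_le
  haveI : Finite N := finite_of_le hNS
  have hEN : E < N := lt_normalizerIn hS (X.ess.lt hS X.sat)
  have hcE : Nat.card E = p ^ 4 := by
    rw [← card_subgroupOf X.le, X.card]; congr 1; omega
  have hyN : (⟨(y : Ω), le_normalizerIn X.le X.y_mem⟩ : N).1 = (y : Ω) := rfl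
  obtain ⟨β, hβe⟩ : ∃ β : MulAut S, ∀ (e : E), ((β ⟨(e : Ω), X.le e.2⟩ : S) : Ω) = ((τ e : E) : Ω) := by
    rcases (show n = 6 ∨ 8 ≤ n by obtain ⟨r, hr⟩ := X.last.even; omega) with e6 | h8
    · -- here the normalizer is the last two-step centralizer
      have hf2 : fil S 2 ≤ N.subgroupOf S := fun g hg => mem_subgroupOf.mpr
        ⟨g.2, X.normalizes (by rwa [show c - 1 = 2 by omega])⟩
      have hyN' : y ∈ N.subgroupOf S := le_normalizerIn X.le X.y_mem
      have hT : twoStep S (n - 2) ≤ N.subgroupOf S := fun t ht => by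
        obtain ⟨j, hj⟩ := CfsgLib.MaxClassDegree.pow_mem_of_not_mem hn hG hcl X.last.index_one X.y_one t
        have hm : (y ^ j)⁻¹ * t ∈ fil S 2 :=
          X.last.inf_eq.le (mem_inf.mpr ⟨mul_mem (inv_mem (pow_mem (X.le_last X.y_mem) j)) ht, hj⟩)
        have := mul_mem (pow_mem hyN' j) (hf2 hm)
        rwa [mul_inv_cancel_left] at this
      have hNT : N.subgroupOf S = twoStep S (n - 2) := by
        rcases eq_or_lt_of_le hT with e | e
        · exact e.symm
        exfalso
        have hi := index_strictAnti e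
        have hd := index_dvd_of_le hT
        rw [X.last.index_last] at hi hd
        rcases (Nat.dvd_prime hpp).mp hd with e1 | e1
        · have htop := index_eq_one.mp e1
          haveI : (E.subgroupOf S).Normal := ⟨fun a ha g => by
            have hg : g ∈ N.subgroupOf S := htop ▸ mem_top g
            exact (mem_normalizer_iff.mp (mem_subgroupOf.mp hg).2 a).mp ha⟩
          have hix : (E.subgroupOf S).index = p ^ 2 := by
            have h := (E.subgroupOf S).card_mul_index
            rw [X.card, hG, show n - c + 1 = 4 by omega, e6, show (6 : ℕ) = 4 + 2 from rfl, pow_add] at h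
            exact Nat.eq_of_mul_eq_mul_left (pow_pos hpp.pos 4) h
          have he := CfsgLib.MaximalClass.normal_eq_lcs X.last.hn hG hcl (E.subgroupOf S) (by omega) hix
          exact X.y_one (CfsgLib.MaxClassGood.fil_le_twoStep 2 (he.le X.y_mem))
        · omega
      haveI hTn : (twoStep S (n - 2)).Normal := normal_of_index_eq_minFac_card (by
        rw [X.last.index_last, hG, Nat.Prime.pow_minFac hpp (by omega)])
      have hSN : S ≤ normalizer (N : Set Ω) := fun g hg => mem_normalizer_of_conj hNS (g := ⟨g, hg⟩) fun a ha => by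
        rw [hNT] at ha ⊢
        exact hTn.conj_mem a ha _
      have hσfil : ∀ k, c ≤ k → k + 1 ≤ n → ∀ v ∈ tr hNS (fil S k), σ v ∈ tr hNS (fil S k) := by
        intro k hk hk' v hv
        have hvE : (v : Ω) ∈ E := X.fil_le' hk hv
        have h2 : τ ⟨v, hvE⟩ ∈ tr X.le (fil S k) := by
          rcases (show k = c ∨ n - 2 ≤ k by omega) with e | e
          · have h2 : τ ⟨v, hvE⟩ * ⟨v, hvE⟩ ∈ tr X.le (fil S k) :=
              fil_antitone (show k ≤ n - 2 by omega) (hinv ⟨v, hvE⟩)
            have := mul_mem h2 (inv_mem (show (⟨v, hvE⟩ : E) ∈ tr X.le (fil S k) from hv))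
            rwa [mul_inv_cancel_right] at this
          · rw [hfix ⟨v, hvE⟩ (fil_antitone e (show (⟨(v : Ω), hNS v.2⟩ : S) ∈ fil S k from hv))]; exact hv
        rw [mem_tr]
        convert mem_tr.mp h2 using 1
        exact Subtype.ext (hσe ⟨v, hvE⟩ v.2)
      have hσ2 : ∀ v ∈ tr hNS (fil S 2), σ v ∈ tr hNS (fil S 2) := by
        intro v hv
        rw [mem_tr]
        refine X.last.inf_eq.le (mem_inf.mpr ⟨hNT.le (σ v).2, ?_⟩)
        rw [← X.last.low_eq (k := 3) (by omega) (by omega), mem_twoStep]
        intro w hw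
        have hwN : (w : Ω) ∈ N := hEN.le (X.fil_le' (k := 3) (by omega) hw)
        have hinv3 : σ⁻¹ ⟨w, hwN⟩ ∈ tr hNS (fil S 3) := by
          have himg : (tr hNS (fil S 3)).map σ.toMonoidHom = tr hNS (fil S 3) := by
            refine eq_of_le_of_card_ge ?_
              (le_of_eq (Nat.card_congr ((tr hNS (fil S 3)).equivMapOfInjective _ σ.injective).toEquiv))
            rintro _ ⟨u, hu, rfl⟩
            exact hσfil 3 (by omega) (by omega) u hu
          obtain ⟨u, hu, e⟩ := himg.ge (show (⟨w, hwN⟩ : N) ∈ tr hNS (fil S 3) from hw)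
          rw [← e]
          show σ⁻¹ (σ u) ∈ _
          rw [MulAut.inv_apply_self]
          exact hu
        have hc5 : ⁅σ⁻¹ ⟨w, hwN⟩, v⁆ ∈ tr hNS (fil S 5) := fil_commutator_mem (mem_tr.mp hinv3) (mem_tr.mp hv)
        have h5 := hσfil 5 (by omega) (by omega) _ hc5
        rw [map_commutatorElement, MulAut.apply_inv_self] at h5
        exact h5
      suffices hconj : ∀ r ∈ autInducedBy S N, σ * r * σ⁻¹ ∈ autInducedBy S N by
        obtain ⟨β, -, hβ⟩ := OrderPFive.ext_of_normal hS X.sat hNS hSN hσ hconj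
        exact ⟨β, fun e => (hβ _ (hEN.le e.2)).trans (hσe e (hEN.le e.2))⟩
      refine OrderPFive.conj_mem_of_series hS X.sat (OrderPFive.isFullyNormalized_of_le hNS hSN) (m := 5)
          ![⊥, tr hNS (fil S 5), tr hNS (fil S 4), tr hNS (fil S 3), tr hNS (fil S 2), ⊤] rfl rfl ?_ ?_ hσ ?_
      · have hle : ∀ k, 2 ≤ k → fil S k ≤ N.subgroupOf S := fun k hk => (fil_antitone hk).trans hf2
        intro i
        fin_cases i
        · show (⊥ : Subgroup N).relIndex (tr hNS (fil S 5)) ∣ p
          rw [relIndex_bot_left]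
          refine dvd_of_eq ?_
          rw [Nat.card_congr ((tr hNS (fil S 5)).equivMapOfInjective _ (Subgroup.inclusion_injective hNS)).toEquiv,
            map_tr hNS (hle 5 (by omega)), CfsgLib.MaxClassRank.card_fil hn hG hcl (by omega) (by omega), e6]
          exact pow_one p
        · show (tr hNS (fil S 5)).relIndex (tr hNS (fil S 4)) ∣ p
          rw [relIndex_tr hNS _ (hle 4 (by omega))]
          exact (X.relIndex_fil (k := 4) (by omega) (by omega)).dvd
        · show (tr hNS (fil S 4)).relIndex (tr hNS (fil S 3)) ∣ p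
          rw [relIndex_tr hNS _ (hle 3 (by omega))]
          exact (X.relIndex_fil (k := 3) (by omega) (by omega)).dvd
        · show (tr hNS (fil S 3)).relIndex (tr hNS (fil S 2)) ∣ p
          rw [relIndex_tr hNS _ (hle 2 le_rfl)]
          exact (X.relIndex_fil (k := 2) le_rfl (by omega)).dvd
        · show (tr hNS (fil S 2)).relIndex ⊤ ∣ p
          rw [relIndex_top_right, index_tr, hNT]
          refine dvd_of_eq ?_
          have h := relIndex_mul_index (CfsgLib.MaxClassGood.fil_le_twoStep (S := S) (n - 2))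
          rw [X.last.index_last, CfsgLib.MaxClassDegree.fil_two_index hn hG hcl, pow_two] at h
          exact Nat.eq_of_mul_eq_mul_right hpp.pos h
      · intro r hr i v hv
        fin_cases i
        · rw [show v = 1 from hv, map_one]; exact one_mem _
        all_goals first
          | trivial
          | (haveI := CfsgLib.PolySeq.fil_normal (G := S); exact tr_invariant hNS _ hr hv)
      · intro i v hv
        fin_cases i
        · rw [show v = 1 from hv, map_one]; exact one_mem _
        · exact hσfil 5 (by omega) (by omega) v hv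
        · exact hσfil 4 (by omega) (by omega) v hv
        · exact hσfil 3 (by omega) (by omega) v hv
        · exact hσ2 v hv
        · trivial
    · -- here the last two-step centralizer is not essential
      obtain ⟨φ, hφ, -, hφe⟩ := exists_map_of_mem_autGroup hNS hσ
      have hcN : p ^ 4 < Nat.card N := hcE ▸ card_lt_of_lt hEN
      suffices hessN : ∀ R, F.IsEssential p R → p ^ 4 < Nat.card R →
          ∃ T ∈ ({(twoStep S 2).map S.subtype} : Set (Subgroup Ω)), R ≤ T by
        obtain ⟨β, -, hb⟩ := extends_outside hS X.sat (p ^ 4) {(twoStep S 2).map S.subtype}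
          (fun T hT => (Set.mem_singleton_iff.mp hT) ▸ twoStep_charIn 2) hessN hφ hcN
          (fun T hT hNT => by
            rw [Set.mem_singleton_iff.mp hT] at hNT
            obtain ⟨v, hv, e⟩ := hNT (le_normalizerIn X.le X.y_mem)
            exact X.y_one (Subtype.ext e ▸ hv))
        exact ⟨β, fun e => (hb ⟨e, hEN.le e.2⟩ (X.le e.2)).trans ((hφe _).trans (hσe e (hEN.le e.2)))⟩
      intro R hR hRc
      · refine ⟨_, rfl, ?_⟩
        rcases hess R hR hRc with h | h
        · exact (eq_map_of_subgroupOf hR.1.1 h).le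
        exfalso
        obtain ⟨y', c', Y⟩ := exists_lastEss X.last X.sat hR h.le (fun h1 => by
          rw [h] at h1
          have h2 := X.last.inf_eq
          rw [inf_eq_left.mpr h1] at h2
          have h3 := X.last.index_last
          rw [h2, CfsgLib.MaxClassDegree.fil_two_index hn hG hcl, pow_two] at h3
          nlinarith [hpp.two_le])
        refine Y.false_of_eq_two ?_ h8
        have h1 := Y.card
        have h2 := (twoStep S (n - 2)).card_mul_index
        rw [h] at h1
        rw [X.last.index_last, h1, hG, ← pow_succ] at h2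
        have := Nat.pow_right_injective hpp.two_le h2
        have := Y.hc2
        have := Y.hcn
        omega
  -- weights
  have hz : ∀ k, c ≤ k → ∀ z ∈ fil S k, ∃ e : E, (⟨(e : Ω), X.le e.2⟩ : S) = z ∧
      β z = ⟨((τ e : E) : Ω), X.le (τ e).2⟩ := by
    intro k hk z hz
    obtain ⟨e, rfl⟩ := X.exists_lift (X.fil_le' hk hz)
    exact ⟨e, rfl, Subtype.ext (hβe e)⟩
  have hfix' : ∀ k, n - 2 ≤ k → ∀ z ∈ fil S k, β z = z := by
    intro k hk z hz'
    obtain ⟨e, rfl, he⟩ := hz k (by omega) z hz'
    rw [he]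
    exact Subtype.ext (congrArg Subtype.val (hfix e (fil_antitone hk hz')) :)
  obtain ⟨z1, hz1, hz1'⟩ := CfsgLib.MaxClassGood.exists_gen hn hG hcl (j := n - 1) (by omega) (by omega)
  obtain ⟨z2, hz2, hz2'⟩ := CfsgLib.MaxClassGood.exists_gen hn hG hcl (j := n - 2) (by omega) (by omega)
  obtain ⟨z3, hz3, hz3'⟩ := CfsgLib.MaxClassGood.exists_gen hn hG hcl (j := n - 3) (by omega) (by omega)
  rw [show n - 1 + 1 = n by omega] at hz1'
  rw [show n - 2 + 1 = n - 1 by omega] at hz2'
  rw [show n - 3 + 1 = n - 2 by omega] at hz3'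
  obtain ⟨a, b, e2, e1, e3⟩ := CfsgLib.MaxClassDegree.weights_ne hn hG hcl h6 X.last.hne β
    (j₁ := 1) (j₂ := 1) (j₃ := p - 1) hz1 hz1'
    (by rw [pow_one, hfix' (n - 1) (by omega) z1 hz1, inv_mul_cancel]; exact one_mem _)
    hz2 hz2' (by rw [pow_one, hfix' (n - 2) le_rfl z2 hz2, inv_mul_cancel]; exact one_mem _)
    hz3 hz3' (by
      haveI := CfsgLib.PolySeq.fil_normal (G := S) (n - 2)
      obtain ⟨e, rfl, he⟩ := hz (n - 3) (by omega) z3 hz3
      rw [he]
      have h1 : (⟨((τ e : E) : Ω), X.le (τ e).2⟩ : S) * ⟨(e : Ω), X.le e.2⟩ ∈ fil S (n - 2) := hinv e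
      have h2 := (CfsgLib.PolySeq.fil_normal (G := S) (n - 2)).mem_comm h1
      have h3 := CfsgLib.MaxClassRank.pow_mem_fil_succ hn hG hcl (show 2 ≤ n - 3 by omega) hz3
      rw [show n - 3 + 1 = n - 2 by omega] at h3
      have h4 := mul_mem (inv_mem h3) h2
      have e1 : ∀ z : S, z ^ p = z * z ^ (p - 1) := fun z => by
        rw [← pow_succ', Nat.sub_add_cancel hpp.one_lt.le]
      rw [e1, mul_inv_rev] at h4
      simp only [mul_assoc, inv_mul_cancel_left] at h4
      exact h4)
  have hcast : ((p - 1 : ℕ) : ZMod p) = -1 := by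
    rw [Nat.cast_sub hpp.one_lt.le, ZMod.natCast_self, zero_sub, Nat.cast_one]
  rw [hcast] at e2 e3
  rw [Nat.cast_one] at e1 e2
  have ha : a = -1 := by linear_combination e2
  have hb : b = 1 := by linear_combination -e1
  rw [ha, hb, mul_one, Even.neg_one_pow (by
    obtain ⟨r, hr⟩ := X.last.even
    exact ⟨r - 2, by omega⟩)] at e3
  have h2 : ((2 : ℕ) : ZMod p) = 0 := by rw [Nat.cast_ofNat]; linear_combination -e3
  rw [ZMod.natCast_eq_zero_iff] at h2
  exact absurd (Nat.le_of_dvd (by norm_num) h2) (by have := X.last.five_le; omega)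

/-- At `c = n - 2` the subgroup would be abelian of order `p ^ 3`. -/
theorem false_of_last (h4 : c + 2 = n) : False := by
  have hpp : p.Prime := Fact.out
  have hcard : Nat.card E = p ^ 3 := by
    rw [← card_subgroupOf X.le, X.card]; congr 1; omega
  have hab : ∀ a b : E, a * b = b * a := by
    intro a b
    refine Subgroup.inclusion_injective X.le ?_
    rw [map_mul, map_mul]
    refine commutatorElement_eq_one_iff_mul_comm.mp ?_
    have h := X.comm_mem_succ (a := Subgroup.inclusion X.le a) (b := Subgroup.inclusion X.le b) a.2 b.2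
    obtain ⟨i, hi⟩ := X.decomp (Subgroup.inclusion X.le a) a.2
    obtain ⟨j, hj⟩ := X.decomp (Subgroup.inclusion X.le b) b.2
    replace hi := fil_antitone (show n - 2 ≤ c by omega) hi
    replace hj := fil_antitone (show n - 2 ≤ c by omega) hj
    refine commutatorElement_eq_one_iff_mul_comm.mpr ?_
    have hy := X.le_last X.y_mem
    show Commute (Subgroup.inclusion X.le a) (Subgroup.inclusion X.le b)
    rw [show Subgroup.inclusion X.le a = y ^ i * ((y ^ i)⁻¹ * Subgroup.inclusion X.le a) by group,
      show Subgroup.inclusion X.le b = y ^ j * ((y ^ j)⁻¹ * Subgroup.inclusion X.le b) by group]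
    have hu : ∀ u ∈ fil S (n - 2), ∀ v ∈ twoStep S (n - 2), Commute u v := fun u hu v hv => X.last.last_comm hu hv
    refine Commute.mul_left (Commute.mul_right (Commute.pow_pow_self _ _ _) (hu _ hj _ (pow_mem hy i)).symm)
      ((hu _ hi _ (pow_mem hy j)).mul_right (hu _ hi _ (CfsgLib.MaxClassGood.fil_le_twoStep _
        (fil_antitone (by have := X.last.h6; omega) hj))))
  have h := Cfsg.MaxClassCube.four_le_card X.pg X.last.hG (by have := X.last.h6; omega) X.last.five_le X.last.hc
    X.sat X.ess (by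
      rintro (⟨h, -⟩ | ⟨-, h, -⟩)
      · rw [hcard] at h
        exact absurd (Nat.pow_right_injective hpp.two_le h) (by norm_num)
      · haveI : Finite E := finite_of_le X.le
        have h1 : Subgroup.center E = ⊤ := eq_top_iff.mpr fun a _ => mem_center_iff.mpr fun b => hab b a
        have h2 := h.2
        rw [h1, card_top, hcard] at h2
        exact absurd (Nat.pow_right_injective hpp.two_le (h2.trans (pow_one p).symm)) (by norm_num))
  rw [hcard, Nat.pow_le_pow_iff_right hpp.one_lt] at h
  omega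

end LastEss

/-- An essential subgroup of the last two-step centralizer outside the first is that centralizer. -/
theorem eq_twoStep_last (D : LastData p n S) (hF : F.IsSaturated p) {E : Subgroup Ω} (hE : F.IsEssential p E)
    (hE2 : E.subgroupOf S ≤ twoStep S (n - 2)) (hE1 : ¬ E.subgroupOf S ≤ twoStep S 2)
    (hess : ∀ R, F.IsEssential p R → Nat.card E < Nat.card R →
      R.subgroupOf S = twoStep S 2 ∨ R.subgroupOf S = twoStep S (n - 2) ∨ Nat.card R ≤ p ^ 3) :
    E.subgroupOf S = twoStep S (n - 2) := by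
  have hpp : p.Prime := Fact.out
  obtain ⟨y, c, X⟩ := exists_lastEss D hF hE hE2 hE1
  have hc2 := X.hc2
  have hcn := X.hcn
  rcases (show c = 2 ∨ (3 ≤ c ∧ c + 4 ≤ n) ∨ (3 ≤ c ∧ c + 3 = n) ∨ (3 ≤ c ∧ c + 2 = n) by omega)
    with h | ⟨h, h'⟩ | ⟨h, h'⟩ | ⟨h, h'⟩
  · refine eq_of_le_of_card_ge hE2 ?_
    have h2 := (twoStep S (n - 2)).card_mul_index
    rw [D.index_last, D.hG, ← pow_sub_mul_pow p (show 1 ≤ n by have := D.h6; omega), pow_one] at h2
    rw [X.card, Nat.eq_of_mul_eq_mul_right hpp.pos h2]
    exact le_of_eq (by congr 1; omega)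
  · exact (X.false_of_le h h').elim
  · refine (X.false_of_penult h h' fun R hR hRc => ?_).elim
    have hcE : Nat.card E = p ^ 4 := by rw [← card_subgroupOf X.le, X.card]; congr 1; omega
    rcases hess R hR (hcE ▸ hRc) with e | e | e
    · exact Or.inl e
    · exact Or.inr e
    · have := Nat.pow_le_pow_right hpp.pos (show 3 ≤ 4 by norm_num)
      omega
  · exact (X.false_of_last h').elim

end CfsgLib.MaxClassResidual
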