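import Cfsg.Agent.Lib.MaxClassResidual.Finish
import Cfsg.Agent.Lib.MaxClassResidual.TwoStepLast
import Cfsg.Agent.Lib.Fusion.OrderPFive.Ext
import Cfsg.Agent.Lib.Fusion.Normal

/-!
Automizers of subgroups given inside the Sylow group, and the configuration attached to an essential subgroup.
-/

set_option autoImplicit false
set_option linter.unusedSectionVars false
set_option linter.style.haveILetI false

namespace CfsgLib.MaxClassResidual

open Cfsg Cfsg.FusionSystem Subgroup
open CfsgLib.PolySeq (fil fil_antitone fil_commutator_mem)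
open CfsgLib.MaxClassGood (twoStep mem_twoStep)

variable {Ω : Type*} [Group Ω] {S : Subgroup Ω} [Finite S] {p : ℕ} [hpf : Fact p.Prime] {F : FusionSystem S}

/-- The isomorphism with the subgroup of the ambient group. -/
noncomputable def upEquiv (K : Subgroup S) : K ≃* K.map S.subtype :=
  K.equivMapOfInjective S.subtype S.subtype_injective

theorem coe_upEquiv {K : Subgroup S} (x : K) : ((upEquiv K x : K.map S.subtype) : Ω) = ((x : S) : Ω) := rfl

theorem map_subtype_le' (K : Subgroup S) : K.map S.subtype ≤ S := map_subtype_le K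

theorem coe_upEquiv_symm {K : Subgroup S} (y : K.map S.subtype) :
    (((upEquiv K).symm y : K) : S).1 = (y : Ω) := by
  conv_rhs => rw [← (upEquiv K).apply_symm_apply y]
  rfl

/-- The automizer of a subgroup of `S`, as automorphisms of that subgroup. -/
noncomputable def autIn (F : FusionSystem S) (K : Subgroup S) : Subgroup (MulAut K) :=
  (F.autGroup (K.map S.subtype)).comap (MulAut.congr (upEquiv K)).toMonoidHom

theorem congr_apply' {K : Subgroup S} (α : MulAut K) (x : K) :
    MulAut.congr (upEquiv K) α (upEquiv K x) = upEquiv K (α x) := by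
  simp [MulAut.congr]

theorem mem_autIn {K : Subgroup S} {α : MulAut K} : α ∈ autIn F K ↔ ∃ φ ∈ F.Hom (K.map S.subtype),
    ∀ x : K, φ (upEquiv K x) = ((α x : K) : S).1 := by
  rw [autIn, mem_comap]
  constructor
  · intro h
    obtain ⟨φ, hφ, -, he⟩ := exists_map_of_mem_autGroup (map_subtype_le' K) h
    exact ⟨φ, hφ, fun x => by
      rw [he]
      exact congrArg Subtype.val (congr_apply' α x)⟩
  · rintro ⟨φ, hφ, he⟩
    refine F.mem_autGroup_of_map hφ fun y => ?_
    obtain ⟨x, rfl⟩ := (upEquiv K).surjective y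
    rw [he]
    exact congrArg Subtype.val (congr_apply' α x)

theorem conj_mem_autIn (K : Subgroup S) (g : normalizer (K : Set S)) : K.normalizerMonoidHom g ∈ autIn F K := by
  refine mem_autIn.mpr ⟨conjHom (K.map S.subtype) ((g : S) : Ω), F.conj_mem (map_subtype_le' K) (g : S).2,
    fun x => rfl⟩

theorem mem_normalizer_map {K : Subgroup S} {g : S} :
    (g : Ω) ∈ normalizer (K.map S.subtype : Set Ω) ↔ g ∈ normalizer (K : Set S) := by
  constructor
  · intro h
    refine mem_normalizer_iff.mpr fun x => ⟨fun hx => ?_, fun hx => ?_⟩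
    · exact (mem_map_iff_mem S.subtype_injective).mp
        ((mem_normalizer_iff.mp h (x : Ω)).mp ⟨x, hx, rfl⟩ : S.subtype (g * x * g⁻¹) ∈ K.map S.subtype)
    · exact (mem_map_iff_mem S.subtype_injective).mp
        ((mem_normalizer_iff.mp h (x : Ω)).mpr (⟨g * x * g⁻¹, hx, rfl⟩ : (g : Ω) * x * (g : Ω)⁻¹ ∈ K.map S.subtype))
  · intro h
    exact mem_normalizer_of_conj (map_subtype_le' K) fun a ha => by
      rw [subgroupOf, comap_map_eq_self_of_injective S.subtype_injective] at ha ⊢
      exact (mem_normalizer_iff.mp h a).mp ha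

theorem range_conj_eq (K : Subgroup S) :
    K.normalizerMonoidHom.range.map (MulAut.congr (upEquiv K)).toMonoidHom = autInducedBy S (K.map S.subtype) := by
  ext β
  rw [mem_autInducedBy_iff]
  constructor
  · rintro ⟨_, ⟨g, rfl⟩, rfl⟩
    refine ⟨((g : S) : Ω), (g : S).2, mem_normalizer_map.mpr g.2, fun y => ?_⟩
    obtain ⟨x, rfl⟩ := (upEquiv K).surjective y
    exact (congrArg Subtype.val (congr_apply' (K.normalizerMonoidHom g) x)).trans rfl
  · rintro ⟨g, hg, hgn, he⟩
    refine ⟨_, ⟨⟨⟨g, hg⟩, mem_normalizer_map.mp hgn⟩, rfl⟩, MulEquiv.ext fun y => Subtype.ext ?_⟩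
    obtain ⟨x, rfl⟩ := (upEquiv K).surjective y
    rw [he]
    exact (congrArg Subtype.val (congr_apply' (K.normalizerMonoidHom ⟨⟨g, hg⟩, mem_normalizer_map.mp hgn⟩) x)).trans rfl

theorem range_conj_le_autIn (K : Subgroup S) : K.normalizerMonoidHom.range ≤ autIn F K := by
  rintro _ ⟨g, rfl⟩; exact conj_mem_autIn K g

/-- The inner automorphisms are Sylow for a fully normalized subgroup. -/
theorem not_dvd_relIndex (hS : IsPGroup p S) (hF : F.IsSaturated p) {K : Subgroup S}
    (hK : F.IsFullyNormalized (K.map S.subtype)) : ¬ p ∣ K.normalizerMonoidHom.range.relIndex (autIn F K) := by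
  obtain ⟨-, R, hR⟩ := hF.isFullyAutomized_of_isFullyNormalized hS hK
  haveI := finite_autGroup (F := F) (map_subtype_le' K)
  have h := R.not_dvd_index
  rw [hR] at h
  have e : K.normalizerMonoidHom.range.relIndex (autIn F K) =
      (autInducedBy S (K.map S.subtype)).relIndex (F.autGroup (K.map S.subtype)) := by
    rw [← range_conj_eq, ← relIndex_map_map_of_injective (f := (MulAut.congr (upEquiv K)).toMonoidHom) _ _
      (MulAut.congr (upEquiv K)).injective, autIn,
      map_comap_eq_self_of_surjective (MulAut.congr (upEquiv K)).surjective]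
  rw [e]
  exact h

theorem normal_fullyNormalized (K : Subgroup S) [K.Normal] : F.IsFullyNormalized (K.map S.subtype) :=
  OrderPFive.isFullyNormalized_of_le (map_subtype_le' K) fun g hg =>
    mem_normalizer_map.mpr (show (⟨g, hg⟩ : S) ∈ normalizer (K : Set S) by rw [normalizer_eq_top]; trivial)

theorem conjNormal_range_eq (K : Subgroup S) [K.Normal] :
    (MulAut.conjNormal : S →* MulAut K).range = K.normalizerMonoidHom.range := by
  ext a
  constructor
  · rintro ⟨g, rfl⟩; exact ⟨⟨g, by rw [normalizer_eq_top]; trivial⟩, MulEquiv.ext fun x => Subtype.ext rfl⟩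
  · rintro ⟨g, rfl⟩; exact ⟨g, MulEquiv.ext fun x => Subtype.ext rfl⟩

theorem conjNormal_mem_autIn (K : Subgroup S) [K.Normal] (g : S) : MulAut.conjNormal g ∈ autIn F K := by
  have h : MulAut.conjNormal g ∈ K.normalizerMonoidHom.range := by rw [← conjNormal_range_eq]; exact ⟨g, rfl⟩
  exact range_conj_le_autIn K h

theorem not_dvd_relIndex_normal (hS : IsPGroup p S) (hF : F.IsSaturated p) (K : Subgroup S) [K.Normal] :
    ¬ p ∣ (MulAut.conjNormal : S →* MulAut K).range.relIndex (autIn F K) := by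
  rw [conjNormal_range_eq]
  exact not_dvd_relIndex hS hF (normal_fullyNormalized K)

theorem centralizer_le (K : Subgroup S) (hK : F.IsCentric (K.map S.subtype)) : centralizer (K : Set S) ≤ K := by
  intro g hg
  refine (mem_map_iff_mem S.subtype_injective).mp (hK.centralizerIn_le_self ⟨g.2, mem_centralizer_iff.mpr ?_⟩)
  rintro _ ⟨x, hx, rfl⟩
  exact congrArg Subtype.val (mem_centralizer_iff.mp hg x hx)

/-- An essential subgroup has no normal `p`-group of automorphisms outside the inner ones. -/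
theorem radical_autIn (hS : IsPGroup p S) (hF : F.IsSaturated p) {K : Subgroup S}
    (hK : F.IsEssential p (K.map S.subtype)) {Q : Subgroup (MulAut K)} (hQA : Q ≤ autIn F K)
    (hQn : autIn F K ≤ normalizer (Q : Set (MulAut K))) (hQp : IsPGroup p Q) : Q ≤ innE K := by
  haveI := finite_autGroup (F := F) (map_subtype_le' K)
  let Q' := (Q.map (MulAut.congr (upEquiv K)).toMonoidHom).subgroupOf (F.autGroup (K.map S.subtype))
  have hQn' : Q'.Normal := by
    refine ⟨fun a ha b => ?_⟩
    obtain ⟨q, hq, hqa⟩ := mem_subgroupOf.mp ha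
    obtain ⟨c, hc⟩ := (MulAut.congr (upEquiv K)).surjective (b : MulAut (K.map S.subtype))
    have hcA : c ∈ autIn F K := by
      show MulAut.congr (upEquiv K) c ∈ F.autGroup (K.map S.subtype)
      rw [hc]; exact b.2
    refine mem_subgroupOf.mpr ⟨c * q * c⁻¹, (mem_normalizer_iff.mp (hQn hcA) q).mp hq, ?_⟩
    show MulAut.congr (upEquiv K) (c * q * c⁻¹) = _
    rw [map_mul, map_mul, map_inv, hc, Subgroup.coe_mul, Subgroup.coe_mul, Subgroup.coe_inv, ← hqa]
    rfl
  have hQp' : IsPGroup p Q' := (hQp.map _).comap_of_injective _ (F.autGroup (K.map S.subtype)).subtype_injective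
  intro q hq
  have hqA : MulAut.congr (upEquiv K) q ∈ F.autGroup (K.map S.subtype) := hQA hq
  have h1 : (⟨_, hqA⟩ : F.autGroup (K.map S.subtype)) ∈ pCore p (F.autGroup (K.map S.subtype)) :=
    CfsgLib.le_pCore hQp' (mem_subgroupOf.mpr ⟨q, hq, rfl⟩)
  obtain ⟨u, hu⟩ := (hK.isRadical hS hF).2.le ⟨_, h1, rfl⟩
  obtain ⟨x, rfl⟩ := (upEquiv K).surjective u
  refine ⟨x, (MulAut.congr (upEquiv K)).injective ?_⟩
  rw [show MulAut.congr (upEquiv K) q = _ from hu.symm]
  refine MulEquiv.ext fun y => ?_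
  obtain ⟨z, rfl⟩ := (upEquiv K).surjective y
  rw [congr_apply', MulAut.conj_apply, MulAut.conj_apply, map_mul, map_mul, map_inv]

/-- An automorphism of an invariant subgroup. -/
theorem restrict_autIn {K M : Subgroup S} (hMK : M ≤ K) {η : MulAut K} (hη : η ∈ autIn F K)
    (hinv : ∀ e : K, (e : S) ∈ M → ((η e : K) : S) ∈ M) :
    ∃ γ ∈ autIn F M, ∀ m : M, ((γ m : M) : S) = ((η ⟨(m : S), hMK m.2⟩ : K) : S) := by
  obtain ⟨φ, hφ, he⟩ := mem_autIn.mp hη
  let γ₀ : M →* M :=
    { toFun := fun m => ⟨((η ⟨(m : S), hMK m.2⟩ : K) : S), hinv _ m.2⟩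
      map_one' := Subtype.ext (show ((η ⟨((1 : M) : S), hMK (1 : M).2⟩ : K) : S) = 1 by
        rw [show (⟨((1 : M) : S), hMK (1 : M).2⟩ : K) = 1 from Subtype.ext rfl, map_one]; rfl)
      map_mul' := fun a b => Subtype.ext (by
        show ((η ⟨((a * b : M) : S), hMK (a * b).2⟩ : K) : S) = _
        rw [show (⟨((a * b : M) : S), hMK (a * b).2⟩ : K) = ⟨(a : S), hMK a.2⟩ * ⟨(b : S), hMK b.2⟩ from
          Subtype.ext rfl, map_mul]
        rfl) }
  have hinj : Function.Injective γ₀ := fun a b h => by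
    have h1 := η.injective (Subtype.ext (congrArg (fun m : M => (m : S)) h) :
      η ⟨(a : S), hMK a.2⟩ = η ⟨(b : S), hMK b.2⟩)
    exact Subtype.ext (congrArg (fun k : K => (k : S)) h1)
  refine ⟨MulEquiv.ofBijective γ₀ ⟨hinj, Finite.injective_iff_surjective.mp hinj⟩, mem_autIn.mpr ?_, fun m => rfl⟩
  have hle : M.map S.subtype ≤ K.map S.subtype := map_mono hMK
  refine ⟨φ.comp (Subgroup.inclusion hle), F.restrict_mem hφ hle, fun m => ?_⟩
  exact he ⟨(m : S), hMK m.2⟩

theorem twoStep_normal {n : ℕ} (hn : 3 ≤ n) (hG : Nat.card S = p ^ n) (hc : Group.nilpotencyClass S = n - 1)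
    {k : ℕ} (h2 : 2 ≤ k) (hk : k + 2 ≤ n) : (twoStep S k).Normal :=
  normal_of_index_eq_minFac_card (by
    rw [CfsgLib.MaxClassGood.twoStep_index hn hG hc h2 hk, hG, Nat.Prime.pow_minFac hpf.out (by omega)])

/-- The automorphisms normalising an overgroup come from the two-step centralizer. -/
theorem ext_autIn (hS : IsPGroup p S) (hF : F.IsSaturated p) {K T : Subgroup S} (hKT : K ≤ T)
    (hT : CharIn F (T.map S.subtype)) (hK : F.IsEssential p (K.map S.subtype))
    (hess : ∀ R, F.IsEssential p R → Nat.card K < Nat.card R → R = T.map S.subtype) {η : MulAut K}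
    (hη : η ∈ autIn F K) {Q : Subgroup S} (hKQ : K < Q) (hQN : Q ≤ normalizer (K : Set S))
    (hc : ∀ q : normalizer (K : Set S), (q : S) ∈ Q → ∃ q' : normalizer (K : Set S), (q' : S) ∈ Q ∧
      η * K.normalizerMonoidHom q * η⁻¹ = K.normalizerMonoidHom q') :
    ∃ α ∈ autIn F T, ∀ e : K, (((α ⟨(e : S), hKT e.2⟩) : T) : S) = ((η e : K) : S) := by
  obtain ⟨φ, hφ, he⟩ := mem_autIn.mp hη
  have hrφ : φ.range = (K.map S.subtype) := by
    ext y
    constructor
    · rintro ⟨z, rfl⟩
      obtain ⟨x, rfl⟩ := (upEquiv K).surjective z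
      rw [he]; exact ⟨_, (η x).2, rfl⟩
    · rintro ⟨z, hz, rfl⟩
      exact ⟨upEquiv K (η⁻¹ ⟨z, hz⟩), by rw [he, MulAut.apply_inv_self]; rfl⟩
  have hnorm : Q.map S.subtype ≤ extender S (K.map S.subtype) φ := by
    rintro _ ⟨q, hq, rfl⟩
    rw [mem_extender_iff (F.apply_mem hφ)]
    refine ⟨q.2, mem_normalizer_map.mpr (hQN hq), ?_⟩
    obtain ⟨q', -, hq'⟩ := hc ⟨q, hQN hq⟩ hq
    refine ⟨((q' : S) : Ω), (q' : S).2, fun y hy => ?_⟩
    obtain ⟨x, rfl⟩ := (upEquiv K).surjective y
    have e1 : (⟨(q : Ω) * (upEquiv K x : (K.map S.subtype)) * (q : Ω)⁻¹, hy⟩ : (K.map S.subtype)) =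
        upEquiv K (K.normalizerMonoidHom ⟨q, hQN hq⟩ x) := Subtype.ext rfl
    show φ ⟨(q : Ω) * (upEquiv K x : (K.map S.subtype)) * (q : Ω)⁻¹, hy⟩ = _
    rw [e1, he, he]
    have h2 := congrArg (fun a : MulAut K => ((a (η x) : K) : S).1) hq'
    simp only [MulAut.mul_apply, MulAut.inv_apply_self] at h2
    exact h2
  obtain ⟨ψ, hψ, hψe⟩ := (hF.isReceptive_of_isFullyNormalized hS hK.2.1).2 (K.map S.subtype) φ hφ hrφ
  have hσ := F.restrict_mem hψ hnorm
  have hcard : Nat.card K < Nat.card (Q.map S.subtype) := by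
    rw [card_map_of_injective S.subtype_injective]
    exact lt_of_le_of_ne (card_le_of_le hKQ.le) fun e => hKQ.ne (eq_of_le_of_card_ge hKQ.le e.ge)
  have hmap : MapExt F (T.map S.subtype) (ψ.comp (Subgroup.inclusion hnorm)) := by
    by_cases hQT : Q.map S.subtype ≤ T.map S.subtype
    · exact extends_inside hS hF _ hT hess hσ hcard hQT
    · exact (extends_outside hS hF _ {T.map S.subtype} (fun U hU => (Set.mem_singleton_iff.mp hU) ▸ hT)
        (fun R hR hRc => ⟨_, rfl, (hess R hR hRc).le⟩) hσ hcard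
        (fun U hU => (Set.mem_singleton_iff.mp hU) ▸ hQT)).restrict hT
  obtain ⟨β, hβ, hb⟩ := hmap
  refine ⟨(MulAut.congr (upEquiv T)).symm β, ?_, fun e => ?_⟩
  · show MulAut.congr (upEquiv T) _ ∈ F.autGroup _
    rw [MulEquiv.apply_symm_apply]; exact hβ
  · apply Subtype.ext
    have h1 := hb ⟨((e : S) : Ω), mem_map_of_mem _ (hKQ.le e.2)⟩ (mem_map_of_mem _ (hKT e.2))
    have h2 := hψe ((e : S) : Ω) ⟨(e : S), e.2, rfl⟩ (hnorm ⟨(e : S), hKQ.le e.2, rfl⟩)
    rw [← he]
    refine Eq.trans ?_ (h1.trans h2)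
    show (((upEquiv T).symm (β (upEquiv T ⟨(e : S), hKT e.2⟩)) : T) : S).1 = _
    rw [coe_upEquiv_symm]
    rfl

/-- No essential subgroup of the residual configuration. -/
theorem false_of_uniform (hS : IsPGroup p S) (hF : F.IsSaturated p) (hp : 5 ≤ p) {n : ℕ} (h4 : 4 ≤ n)
    (hG : Nat.card S = p ^ n) (hc : Group.nilpotencyClass S = n - 1)
    (hdeg : ∀ k, 2 ≤ k → k + 2 ≤ n → twoStep S k = twoStep S 2) {K : Subgroup S} (hKT : K ≤ twoStep S 2)
    (hKn : ¬ K.Normal) (hK : F.IsEssential p (K.map S.subtype))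
    (hess : ∀ R, F.IsEssential p R → Nat.card K < Nat.card R → R = (twoStep S 2).map S.subtype) : False := by
  let Fr : Frame p S := ⟨n, h4, hG, hc, hdeg⟩
  haveI : (twoStep S 2).Normal := Fr.T_normal
  let HD : HData p S :=
    { toFrame := Fr
      hp := hp
      H := autIn F (twoStep S 2)
      hSH := fun g => conjNormal_mem_autIn (twoStep S 2) g
      hSyl := not_dvd_relIndex_normal hS hF (twoStep S 2) }
  let D : Data p S :=
    { toHData := HD
      E := K
      hET := hKT
      hcen := centralizer_le K hK.1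
      hnn := hKn
      A := autIn F K
      hPA := conj_mem_autIn K
      hSylA := not_dvd_relIndex hS hF hK.2.1
      hrad := fun Q hQA hQn hQp => radical_autIn hS hF hK hQA hQn hQp
      ext := fun η hη Q hKQ hQN hc' => ext_autIn hS hF hKT (twoStep_charIn 2) hK hess hη hKQ hQN hc'
      grp := fun M _ hMK hinv => ⟨autIn F M, fun g => conjNormal_mem_autIn M g, not_dvd_relIndex_normal hS hF M,
        fun η hη => restrict_autIn hMK hη (hinv η hη)⟩ }
  exact D.impossible

end CfsgLib.MaxClassResidual
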