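import Cfsg.Agent.Lib.MaxClassResidual.Fixed

/-!
A subgroup of the two-step centralizer with a group of automorphisms having no normal `p`-subgroup
outside the inner ones, and the extension property.
-/

set_option autoImplicit false
set_option linter.unusedSectionVars false
set_option linter.style.haveILetI false

namespace CfsgLib.MaxClassResidual

open scoped commutatorElement
open Subgroup
open CfsgLib.PolySeq (fil fil_antitone fil_commutator_mem)

/-- The inner automorphisms of a subgroup. -/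
def innE {S : Type*} [Group S] (E : Subgroup S) : Subgroup (MulAut E) :=
  (MulAut.conj : E →* MulAut E).range

/-- The configuration of a subgroup of the two-step centralizer which is not normal. -/
structure Data (p : ℕ) [Fact p.Prime] (S : Type*) [Group S] [Finite S] extends HData p S where
  E : Subgroup S
  hET : E ≤ toHData.toFrame.T
  hcen : centralizer (E : Set S) ≤ E
  hnn : ¬ E.Normal
  A : Subgroup (MulAut E)
  hPA : ∀ g : normalizer (E : Set S), E.normalizerMonoidHom g ∈ A
  hSylA : ¬ p ∣ E.normalizerMonoidHom.range.relIndex A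
  hrad : ∀ Q : Subgroup (MulAut E), Q ≤ A → A ≤ normalizer (Q : Set (MulAut E)) → IsPGroup p Q →
    Q ≤ innE E
  ext : ∀ η ∈ A, ∀ Q : Subgroup S, E < Q → Q ≤ normalizer (E : Set S) →
    (∀ q : normalizer (E : Set S), (q : S) ∈ Q → ∃ q' : normalizer (E : Set S), (q' : S) ∈ Q ∧
      η * E.normalizerMonoidHom q * η⁻¹ = E.normalizerMonoidHom q') →
    ∃ α ∈ toHData.H, ∀ e : E, (((α ⟨(e : S), hET e.2⟩) : toHData.toFrame.T) : S) = ((η e : E) : S)
  grp : ∀ (M : Subgroup S) [M.Normal] (hME : M ≤ E),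
    (∀ η ∈ A, ∀ e : E, (e : S) ∈ M → ((η e : E) : S) ∈ M) →
    ∃ G : Subgroup (MulAut M), (∀ g : S, MulAut.conjNormal g ∈ G) ∧
      ¬ p ∣ (MulAut.conjNormal : S →* MulAut M).range.relIndex G ∧
      ∀ η ∈ A, ∃ γ ∈ G, ∀ m : M, ((γ m : M) : S) = ((η ⟨(m : S), hME m.2⟩ : E) : S)

namespace Data

variable {p : ℕ} [hpf : Fact p.Prime] {S : Type*} [Group S] [Finite S] (D : Data p S)

/-- Conjugation by the normalizer. -/
def cE : normalizer (D.E : Set S) →* MulAut D.E := D.E.normalizerMonoidHom

theorem coe_cE (g : normalizer (D.E : Set S)) (e : D.E) :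
    ((D.cE g e : D.E) : S) = (g : S) * e * (g : S)⁻¹ := rfl

instance : Finite (MulAut D.E) :=
  Finite.of_injective (fun f => (f : D.E → D.E)) DFunLike.coe_injective

instance fact_E : Fact (IsPGroup p D.E) := ⟨D.toFrame.hS.to_subgroup D.E⟩

theorem cE_mem (g : normalizer (D.E : Set S)) : D.cE g ∈ D.A := D.hPA g

theorem innE_le : innE D.E ≤ D.A := by
  rintro _ ⟨e, rfl⟩
  have h : MulAut.conj e = D.cE ⟨e, le_normalizer e.2⟩ := MulEquiv.ext fun y => Subtype.ext rfl
  rw [h]
  exact D.cE_mem _

theorem isPGroup_range_cE : IsPGroup p D.cE.range :=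
  (D.toFrame.hS.to_subgroup (normalizer (D.E : Set S))).of_surjective D.cE.rangeRestrict
    D.cE.rangeRestrict_surjective

theorem isPGroup_innE : IsPGroup p (innE D.E) := by
  refine (D.isPGroup_range_cE).to_le ?_
  rintro _ ⟨e, rfl⟩
  exact ⟨⟨e, le_normalizer e.2⟩, MulEquiv.ext fun y => Subtype.ext rfl⟩

/-- The kernel of conjugation modulo the inner automorphisms is the subgroup itself. -/
theorem cE_mem_innE {g : normalizer (D.E : Set S)} : D.cE g ∈ innE D.E ↔ (g : S) ∈ D.E := by
  constructor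
  · rintro ⟨e, he⟩
    have hc : (e : S)⁻¹ * g ∈ centralizer (D.E : Set S) := by
      refine mem_centralizer_iff.mpr fun y hy => ?_
      have h1 : (e : S) * y * (e : S)⁻¹ = (g : S) * y * (g : S)⁻¹ :=
        congrArg (fun α : MulAut D.E => ((α ⟨y, hy⟩ : D.E) : S)) he
      calc y * ((e : S)⁻¹ * g) = (e : S)⁻¹ * ((e : S) * y * (e : S)⁻¹) * g := by group
        _ = (e : S)⁻¹ * ((g : S) * y * (g : S)⁻¹) * g := by rw [h1]
        _ = (e : S)⁻¹ * g * y := by group
    simpa using mul_mem e.2 (D.hcen hc)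
  · intro h
    exact ⟨⟨g, h⟩, MulEquiv.ext fun y => Subtype.ext rfl⟩

theorem innE_normal {η : MulAut D.E} : η ∈ normalizer (innE D.E : Set (MulAut D.E)) := by
  have key : ∀ η : MulAut D.E, ∀ a ∈ innE D.E, η * a * η⁻¹ ∈ innE D.E := by
    rintro η _ ⟨e, rfl⟩
    refine ⟨η e, MulEquiv.ext fun y => ?_⟩
    rw [MulAut.mul_apply, MulAut.mul_apply, MulAut.conj_apply, MulAut.conj_apply, map_mul, map_mul,
      map_inv, MulAut.apply_inv_self]
  refine mem_normalizer_iff.mpr fun a => ⟨key η a, fun h => ?_⟩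
  have h' := key η⁻¹ _ h
  simpa [mul_assoc] using h'

/-- A subgroup containing the derived group is normal. -/
theorem not_fil_two_le : ¬ fil S 2 ≤ D.E := by
  intro h
  refine D.hnn ⟨fun e he g => ?_⟩
  have e1 : g * e * g⁻¹ = ⁅g, e⁆ * e := by rw [commutatorElement_def]; group
  rw [e1]
  exact mul_mem (h (fil_commutator_mem (i := 1) (j := 1) (mem_top g) (mem_top e))) he

theorem fil_last_le : fil S (D.n - 2) ≤ D.E := fun u hu => D.hcen
  (mem_centralizer_iff.mpr fun e he => (D.toFrame.fil_last_central hu (D.hET he)).symm)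

theorem exists_i : ∃ i, 2 ≤ i ∧ i + 3 ≤ D.n ∧ fil S (i + 1) ≤ D.E ∧ ¬ fil S i ≤ D.E := by
  classical
  have hex : ∃ j, fil S j ≤ D.E := ⟨_, D.fil_last_le⟩
  have h1 := Nat.find_spec hex
  have h2 : ∀ j, j < Nat.find hex → ¬ fil S j ≤ D.E := fun j hj => Nat.find_min hex hj
  have h3 : 3 ≤ Nat.find hex := by
    by_contra h
    exact D.not_fil_two_le ((fil_antitone (by omega)).trans h1)
  have h4 := Nat.find_min' hex D.fil_last_le
  refine ⟨Nat.find hex - 1, by omega, by omega, ?_, h2 _ (by omega)⟩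
  rwa [show Nat.find hex - 1 + 1 = Nat.find hex by omega]

/-- The layer above the core. -/
noncomputable def i : ℕ := D.exists_i.choose

theorem two_le_i : 2 ≤ D.i := D.exists_i.choose_spec.1

theorem i_add_three : D.i + 3 ≤ D.n := D.exists_i.choose_spec.2.1

theorem core_le : fil S (D.i + 1) ≤ D.E := D.exists_i.choose_spec.2.2.1

theorem not_fil_i_le : ¬ fil S D.i ≤ D.E := D.exists_i.choose_spec.2.2.2

theorem fil_i_le_normalizer : fil S D.i ≤ normalizer (D.E : Set S) := by
  have key : ∀ u ∈ fil S D.i, ∀ e ∈ D.E, u * e * u⁻¹ ∈ D.E := by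
    intro u hu e he
    have e1 : u * e * u⁻¹ = ⁅u, e⁆ * e := by rw [commutatorElement_def]; group
    rw [e1]
    exact mul_mem (D.core_le (fil_antitone (Nat.le_succ _) (D.toFrame.comm_T D.two_le_i hu (D.hET he)))) he
  intro u hu
  refine mem_normalizer_iff.mpr fun e => ⟨key u hu e, fun h => ?_⟩
  have := key u⁻¹ (inv_mem hu) _ h
  simpa [mul_assoc] using this

theorem inf_fil_i : D.E ⊓ fil S D.i = fil S (D.i + 1) := by
  refine le_antisymm (fun e he => ?_) (le_inf D.core_le (fil_antitone (Nat.le_succ _)))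
  by_contra h
  have h2 := D.two_le_i
  have h3 := D.i_add_three
  refine D.not_fil_i_le ?_
  rw [← D.toFrame.Tf_of_two h2,
    ← D.toFrame.layer (k := D.i) (by omega) (by omega) (by rw [D.toFrame.Tf_of_two h2]; exact he.2)
      (by rw [D.toFrame.Tf_of_two (by omega)]; exact h), D.toFrame.Tf_of_two (by omega)]
  exact sup_le (zpowers_le.mpr he.1) D.core_le

theorem exists_u : ∃ u ∈ fil S D.i, u ∉ D.E := Set.not_subset.mp D.not_fil_i_le

/-- The normal subgroups inside `E`. -/
theorem normal_le {N : Subgroup S} [N.Normal] (hN : N ≤ D.E) :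
    ∃ k, D.i + 1 ≤ k ∧ k ≤ D.n ∧ N = fil S k := by
  obtain ⟨k, h1, hk, hNk⟩ := D.toFrame.normal_le_T (hN.trans D.hET)
  have h2 := D.two_le_i
  have hik : D.i + 1 ≤ k := by
    by_contra h
    exact D.not_fil_i_le ((D.toFrame.fil_le_Tf h2 (by omega)).trans (hNk ▸ hN))
  exact ⟨k, hik, hk, by rw [hNk, D.toFrame.Tf_of_two (by omega)]⟩

theorem T_nonabelian : ¬ ∀ a ∈ D.T, ∀ b ∈ D.T, a * b = b * a := by
  intro h
  exact D.not_fil_two_le ((D.toFrame.fil_two_le).trans fun t ht =>
    D.hcen (mem_centralizer_iff.mpr fun e he => h e (D.hET he) t ht))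

/-- An invariant subgroup of `E` below every exact element has all the following layers. -/
theorem normalizer_le_T : normalizer (D.E : Set S) ≤ D.T := by
  classical
  intro g hg
  by_contra hgT
  have hex : ∃ a, ∃ e ∈ D.E, e ∈ D.toFrame.Tf a ∧ e ∉ D.toFrame.Tf (a + 1) := by
    by_contra h
    push Not at h
    have hall : ∀ a, ∀ e ∈ D.E, e ∈ D.toFrame.Tf a := by
      intro a
      induction a with
      | zero => intro e he; rw [D.toFrame.Tf_of_le (by omega)]; exact D.hET he
      | succ a ih => exact fun e he => h a e he (ih e he)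
    exact D.not_fil_i_le fun u hu => by
      have h1 := D.fil_last_le
      obtain ⟨z, hz, hz'⟩ := D.toFrame.exists_exact (k := D.n - 2)
        (by have := D.toFrame.h4; omega) (by have := D.toFrame.h4; omega)
      exact absurd (hall (D.n - 2 + 1) z (h1 ((D.toFrame.Tf_le_fil) hz))) hz'
  set a := Nat.find hex with ha
  obtain ⟨e, he, hea, hea'⟩ := Nat.find_spec hex
  have hEle : D.E ≤ D.toFrame.Tf a := by
    have hall : ∀ j, j ≤ a → ∀ e ∈ D.E, e ∈ D.toFrame.Tf j := by
      intro j
      induction j with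
      | zero => intro _ e he; rw [D.toFrame.Tf_of_le (by omega)]; exact D.hET he
      | succ j ih =>
        intro hj e he
        by_contra h
        exact Nat.find_min hex (show j < a by omega) ⟨e, he, ih (by omega) e he, h⟩
    exact hall a le_rfl
  have ha1 : 1 ≤ a := by
    by_contra h
    refine hea' ?_
    rw [D.toFrame.Tf_of_le (by omega)]
    exact D.hET he
  have hlayers : ∀ d, a + d < D.n → ∃ f ∈ D.E, f ∈ D.toFrame.Tf (a + d) ∧ f ∉ D.toFrame.Tf (a + d + 1) := by
    intro d
    induction d with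
    | zero => exact fun _ => ⟨e, he, hea, hea'⟩
    | succ d ih =>
      intro hd
      obtain ⟨f, hf, hf1, hf2⟩ := ih (by omega)
      refine ⟨⁅f, g⁆, ?_, ?_, ?_⟩
      · rw [commutatorElement_def, mul_assoc f, mul_assoc f]
        exact mul_mem hf ((mem_normalizer_iff.mp hg _).mp (inv_mem hf))
      · rw [D.toFrame.Tf_of_two (by omega)]
        exact Frame.comm_mem_succ (D := D.toFrame) (by omega) hf1 g
      · rw [D.toFrame.Tf_of_two (by omega)]
        exact D.toFrame.comm_exact hgT (k := a + d) (by omega) (by omega) hf1 hf2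
  have hTle : ∀ l, l ≤ D.n → a ≤ D.n - l → D.toFrame.Tf (D.n - l) ≤ D.E := by
    intro l
    induction l with
    | zero => intro _ _; rw [D.toFrame.Tf_bot (by omega)]; exact bot_le
    | succ l ih =>
      intro hl hal
      obtain ⟨f, hf, hf1, hf2⟩ := hlayers (D.n - (l + 1) - a) (by omega)
      rw [show a + (D.n - (l + 1) - a) = D.n - (l + 1) by omega] at hf1 hf2
      rw [← D.toFrame.layer (by omega) (by omega) hf1 hf2, show D.n - (l + 1) + 1 = D.n - l by omega]
      exact sup_le (zpowers_le.mpr hf) (ih (by omega) (by omega))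
  have han : a < D.n := by
    by_contra h
    refine hea' ?_
    rw [D.toFrame.Tf_bot (by omega)] at hea ⊢
    exact hea
  have hEeq : D.E = D.toFrame.Tf a := le_antisymm hEle (by
    have := hTle (D.n - a) (by omega) (by omega)
    rwa [show D.n - (D.n - a) = a by omega] at this)
  exact D.hnn (hEeq ▸ (inferInstance : (D.toFrame.Tf a).Normal))

end Data

end CfsgLib.MaxClassResidual
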