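import Mathlib.Data.Nat.Choose.Sum
import Mathlib.Algebra.Module.LinearMap.End
import Mathlib.LinearAlgebra.Span.Basic
import Mathlib.Algebra.Algebra.Basic
import Mathlib.Data.ZMod.Basic
import Mathlib.Algebra.BigOperators.Intervals
import Mathlib.Data.Nat.Factorial.BigOperators
import Mathlib.Data.Nat.Prime.Factorial
import Mathlib.Tactic.NoncommRing
import Mathlib.Tactic.FieldSimp
import Cfsg.Agent.Lib.MaxClassEssential.Cyc

/-!
A quadratic element has a quadratic deeper derivative: truncated exponentials of iterated differences.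
-/

set_option autoImplicit false
set_option linter.unusedSectionVars false

namespace CfsgLib.MaxClassResidual

namespace Derive

variable {p : ℕ} [hpf : Fact p.Prime] {V : Type*} [AddCommGroup V] [Module (ZMod p) V]

/-- The truncated exponential. -/
def texp (U : Module.End (ZMod p) V) : Module.End (ZMod p) V :=
  ∑ k ∈ Finset.range p, ((k.factorial : ZMod p))⁻¹ • U ^ k

theorem factorial_ne_zero {k : ℕ} (hk : k < p) : (k.factorial : ZMod p) ≠ 0 := by
  rw [Ne, ZMod.natCast_eq_zero_iff, hpf.out.dvd_factorial]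
  omega

/-- Moving a filtration down. -/
def Raise (F : ℕ → Submodule (ZMod p) V) (U : Module.End (ZMod p) V) : Prop :=
  ∀ i, ∀ v ∈ F i, U v ∈ F (i + 1)

variable {F : ℕ → Submodule (ZMod p) V}

theorem raise_zero : Raise F (0 : Module.End (ZMod p) V) := fun _ _ _ => by simp

theorem raise_sub {U W : Module.End (ZMod p) V} (hU : Raise F U) (hW : Raise F W) : Raise F (U - W) :=
  fun i v hv => sub_mem (hU i v hv) (hW i v hv)

theorem raise_add {U W : Module.End (ZMod p) V} (hU : Raise F U) (hW : Raise F W) : Raise F (U + W) :=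
  fun i v hv => add_mem (hU i v hv) (hW i v hv)

theorem pow_mem {U : Module.End (ZMod p) V} (hU : Raise F U) (r : ℕ) {i : ℕ} {v : V} (hv : v ∈ F i) :
    (U ^ r) v ∈ F (i + r) := by
  induction r with
  | zero => simpa using hv
  | succ r ih => rw [pow_succ', Module.End.mul_apply, ← add_assoc]; exact hU _ _ ih

theorem pow_mul_pow_eq_zero (hanti : Antitone F) (h0 : F 0 = ⊤) (hp : F p = ⊥) {U W : Module.End (ZMod p) V}
    (hU : Raise F U) (hW : Raise F W) {i j : ℕ} (h : p ≤ i + j) : U ^ i * W ^ j = 0 := by
  refine LinearMap.ext fun v => ?_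
  have h1 := pow_mem hU i (pow_mem hW j (h0.ge (Submodule.mem_top (x := v))))
  have h2 := hanti (show p ≤ 0 + j + i by omega) h1
  rw [hp, Submodule.mem_bot] at h2
  exact h2

theorem pow_eq_zero (hanti : Antitone F) (h0 : F 0 = ⊤) (hp : F p = ⊥) {U : Module.End (ZMod p) V}
    (hU : Raise F U) {i : ℕ} (h : p ≤ i) : U ^ i = 0 := by
  have := pow_mul_pow_eq_zero hanti h0 hp hU hU (i := i) (j := 0) (by omega)
  rwa [pow_zero, mul_one] at this

/-- The truncated exponential is additive on commuting operators moving the filtration down. -/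
theorem texp_add (hanti : Antitone F) (h0 : F 0 = ⊤) (hp : F p = ⊥) {U W : Module.End (ZMod p) V}
    (hU : Raise F U) (hW : Raise F W) (hc : Commute U W) : texp U * texp W = texp (U + W) := by
  set f : ℕ → ℕ → Module.End (ZMod p) V := fun i j =>
    (((i.factorial : ZMod p))⁻¹ * ((j.factorial : ZMod p))⁻¹) • (U ^ i * W ^ j) with hf
  have h1 : texp U * texp W = ∑ m ∈ Finset.range p, ∑ k ∈ Finset.range (p - m), f m k := by
    rw [texp, texp, Finset.sum_mul_sum]
    refine Finset.sum_congr rfl fun i _ => ?_
    rw [Finset.sum_congr rfl (fun j _ => smul_mul_smul_comm _ _ _ _)]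
    refine (Finset.sum_subset (Finset.range_subset_range.mpr (Nat.sub_le p i)) fun j _ hj => ?_).symm
    rw [pow_mul_pow_eq_zero hanti h0 hp hU hW (by rw [Finset.mem_range] at hj; omega), smul_zero]
  have h2 : texp (U + W) = ∑ m ∈ Finset.range p, ∑ k ∈ Finset.range (m + 1), f k (m - k) := by
    rw [texp]
    refine Finset.sum_congr rfl fun m hm => ?_
    rw [hc.add_pow, Finset.smul_sum]
    refine Finset.sum_congr rfl fun k hk => ?_
    rw [Finset.mem_range] at hm hk
    rw [hf]
    simp only
    rw [← (Nat.cast_commute (m.choose k) (U ^ k * W ^ (m - k))).eq, ← nsmul_eq_mul, ← Nat.cast_smul_eq_nsmul (ZMod p) (m.choose k), smul_smul]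
    congr 1
    have e : (m.factorial : ZMod p) = (m.choose k : ZMod p) * (k.factorial : ZMod p) * ((m - k).factorial : ZMod p) := by
      rw [← Nat.cast_mul, ← Nat.cast_mul, Nat.choose_mul_factorial_mul_factorial (by omega)]
    have hm0 := factorial_ne_zero (p := p) hm
    have hk0 := factorial_ne_zero (p := p) (show k < p by omega)
    have hmk := factorial_ne_zero (p := p) (show m - k < p by omega)
    have hck : (m.choose k : ZMod p) ≠ 0 := fun h => hm0 (by rw [e, h]; simp)
    rw [e]
    field_simp
  rw [h1, h2, Finset.sum_range_diag_flip]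

theorem texp_zero : texp (0 : Module.End (ZMod p) V) = 1 := by
  rw [texp, Finset.sum_eq_single 0]
  · simp
  · intro b _ hb; simp [hb]
  · intro h; exact absurd (Finset.mem_range.mpr hpf.out.pos) h

theorem texp_of_sq {U : Module.End (ZMod p) V} (h : U * U = 0) : texp U = 1 + U := by
  obtain ⟨q, hq⟩ : ∃ q, p = q + 2 := ⟨p - 2, by have := hpf.out.two_le; omega⟩
  have hr : Finset.range p = Finset.range (q + 2) := by rw [hq]
  rw [texp, hr, Finset.sum_range_succ', Finset.sum_range_succ']
  rw [Finset.sum_eq_zero (fun k _ => by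
    rw [show k + 1 + 1 = k + 2 from rfl, pow_add, pow_two, h, mul_zero, smul_zero])]
  simp [add_comm]

theorem eq_zero_of_texp_eq_one (hanti : Antitone F) (h0 : F 0 = ⊤) (hp : F p = ⊥) {U : Module.End (ZMod p) V}
    (hU : Raise F U) (h : texp U = 1) : U = 0 := by
  classical
  by_contra hne
  have hex : ∃ r, U ^ r = 0 := ⟨p, pow_eq_zero hanti h0 hp hU le_rfl⟩
  set r := Nat.find hex
  have hr : U ^ r = 0 := Nat.find_spec hex
  have hr2 : 2 ≤ r := by
    by_contra h2
    refine hne ?_
    rcases Nat.lt_or_ge r 1 with h3 | h3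
    · obtain h4 : r = 0 := by omega
      rw [h4, pow_zero] at hr
      rw [← mul_one U, hr, mul_zero]
    · rw [show r = 1 by omega, pow_one] at hr; exact hr
  refine Nat.find_min hex (show r - 1 < r by omega) ?_
  have hrp : r ≤ p := Nat.find_min' hex (pow_eq_zero hanti h0 hp hU le_rfl)
  have h1 : texp U * U ^ (r - 2) = U ^ (r - 2) := by rw [h, one_mul]
  rw [texp, Finset.sum_mul] at h1
  obtain ⟨q, hq⟩ : ∃ q, p = q + 2 := ⟨p - 2, by omega⟩
  have hrg : Finset.range p = Finset.range (q + 2) := by rw [hq]
  rw [hrg, Finset.sum_range_succ', Finset.sum_range_succ',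
    Finset.sum_eq_zero (fun k _ => by
      rw [smul_mul_assoc, ← pow_add, pow_eq_zero_of_le (show r ≤ k + 1 + 1 + (r - 2) by omega) hr, smul_zero])] at h1
  simpa [← pow_succ', show r - 2 + 1 = r - 1 by omega] using h1

variable (t : (Module.End (ZMod p) V)ˣ)

/-- Conjugation. -/
def cj (U : Module.End (ZMod p) V) : Module.End (ZMod p) V :=
  (t : Module.End (ZMod p) V) * U * ((t⁻¹ : (Module.End (ZMod p) V)ˣ) : Module.End (ZMod p) V)

/-- The difference operator. -/
def diff (U : Module.End (ZMod p) V) : Module.End (ZMod p) V := cj t U - U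

theorem cj_mul (U W : Module.End (ZMod p) V) : cj t (U * W) = cj t U * cj t W := by
  simp only [cj, mul_assoc, Units.inv_mul_cancel_left]

theorem cj_add (U W : Module.End (ZMod p) V) : cj t (U + W) = cj t U + cj t W := by
  simp only [cj, mul_add, add_mul]

theorem cj_sub (U W : Module.End (ZMod p) V) : cj t (U - W) = cj t U - cj t W := by
  simp only [cj, mul_sub, sub_mul]

theorem cj_pow (U : Module.End (ZMod p) V) : ∀ k : ℕ, cj t U ^ k = cj t (U ^ k) := by
  intro k
  induction k with
  | zero => simp [cj]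
  | succ k ih => rw [pow_succ, pow_succ, cj_mul, ih]

theorem cj_texp (U : Module.End (ZMod p) V) : cj t (texp U) = texp (cj t U) := by
  have : texp (cj t U) = ∑ k ∈ Finset.range p, ((k.factorial : ZMod p))⁻¹ • cj t (U ^ k) :=
    Finset.sum_congr rfl fun k _ => by rw [cj_pow]
  rw [this, texp, cj, Finset.mul_sum, Finset.sum_mul]
  exact Finset.sum_congr rfl fun k _ => by rw [cj, mul_smul_comm, smul_mul_assoc]

theorem diff_add (U W : Module.End (ZMod p) V) : diff t (U + W) = diff t U + diff t W := by
  simp only [diff, cj_add]; abel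

theorem diff_mul (U W : Module.End (ZMod p) V) :
    diff t (U * W) = diff t U * W + cj t U * diff t W := by
  simp only [diff, cj_mul]; noncomm_ring

theorem diff_iterate_zero (m : ℕ) : ((diff t)^[m]) (0 : Module.End (ZMod p) V) = 0 :=
  Function.iterate_fixed (show diff t 0 = 0 by simp [diff, cj]) m

theorem diff_iterate_add (m : ℕ) (U W : Module.End (ZMod p) V) :
    ((diff t)^[m]) (U + W) = ((diff t)^[m]) U + ((diff t)^[m]) W := by
  induction m generalizing U W with
  | zero => rfl
  | succ m ih => rw [Function.iterate_succ_apply, diff_add, ih]; rfl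

theorem diff_iterate_cj (m : ℕ) (U : Module.End (ZMod p) V) :
    ((diff t)^[m]) (cj t U) = cj t (((diff t)^[m]) U) := by
  induction m with
  | zero => rfl
  | succ m ih =>
    rw [Function.iterate_succ_apply', Function.iterate_succ_apply', ih]
    simp only [diff, cj_sub]

/-- The top difference of a product. -/
theorem diff_mul_top : ∀ (l r s : ℕ), r + s = l → ∀ U W : Module.End (ZMod p) V,
    ((diff t)^[r + 1]) U = 0 → ((diff t)^[s + 1]) W = 0 →
    ((diff t)^[l]) (U * W) = (l.choose r) • (((diff t)^[r]) U * ((diff t)^[s]) W) ∧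
      ((diff t)^[l + 1]) (U * W) = 0 := by
  intro l
  induction l with
  | zero =>
    intro r s hrs U W hU hW
    obtain ⟨rfl, rfl⟩ : r = 0 ∧ s = 0 := by omega
    simp only [Function.iterate_zero, id_eq, Function.iterate_succ, Function.comp_apply, zero_add] at hU hW ⊢
    exact ⟨by simp, by rw [diff_mul, hU, hW, zero_mul, mul_zero, add_zero]⟩
  | succ l ih =>
    intro r s hrs U W hU hW
    have key : ((diff t)^[l]) (diff t U * W) = (if r = 0 then 0 else l.choose (r - 1)) •
          (((diff t)^[r]) U * ((diff t)^[s]) W) ∧ ((diff t)^[l + 1]) (diff t U * W) = 0 := by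
      rcases Nat.eq_zero_or_pos r with hr | hr
      · subst hr
        rw [Function.iterate_one] at hU
        rw [hU, zero_mul, diff_iterate_zero, diff_iterate_zero, if_pos rfl, zero_smul]
        exact ⟨rfl, rfl⟩
      · obtain ⟨r, rfl⟩ : ∃ r', r = r' + 1 := ⟨r - 1, by omega⟩
        rw [if_neg (by omega), show r + 1 - 1 = r by omega]
        exact ih r s (by omega) (diff t U) W hU hW
    have key2 : ((diff t)^[l]) (cj t U * diff t W) = (if s = 0 then 0 else l.choose r) •
          (((diff t)^[r]) U * ((diff t)^[s]) W) ∧ ((diff t)^[l + 1]) (cj t U * diff t W) = 0 := by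
      rcases Nat.eq_zero_or_pos s with hs | hs
      · subst hs
        rw [Function.iterate_one] at hW
        rw [hW, mul_zero, diff_iterate_zero, diff_iterate_zero, if_pos rfl, zero_smul]
        exact ⟨rfl, rfl⟩
      · obtain ⟨s, rfl⟩ : ∃ s', s = s' + 1 := ⟨s - 1, by omega⟩
        rw [if_neg (by omega)]
        have hcU : ((diff t)^[r + 1]) (cj t U) = 0 := by rw [diff_iterate_cj, hU]; simp [cj]
        have hfix : ((diff t)^[r]) (cj t U) = ((diff t)^[r]) U := by
          rw [Function.iterate_succ_apply', diff, sub_eq_zero] at hU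
          rw [diff_iterate_cj, hU]
        have h := ih r s (by omega) (cj t U) (diff t W) hcU hW
        rw [hfix] at h
        exact h
    constructor
    · rw [Function.iterate_succ_apply, diff_mul, diff_iterate_add, key.1, key2.1, ← add_smul]
      congr 1
      rcases Nat.eq_zero_or_pos r with rfl | hr
      · rw [if_pos rfl, if_neg (by omega), Nat.choose_zero_right, Nat.choose_zero_right]
      rcases Nat.eq_zero_or_pos s with rfl | hs
      · rw [if_pos rfl, if_neg (by omega), show r = l + 1 by omega, Nat.choose_self,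
          show l + 1 - 1 = l by omega, Nat.choose_self]
      obtain ⟨r, rfl⟩ : ∃ r', r = r' + 1 := ⟨r - 1, by omega⟩
      rw [if_neg (by omega), if_neg (by omega), Nat.choose_succ_succ, show r + 1 - 1 = r by omega]
    · rw [Function.iterate_succ_apply, diff_mul, diff_iterate_add, key.2, key2.2, add_zero]

/-- A quadratic element has a quadratic derivative. -/
theorem exists_quadratic (hanti : Antitone F) (h0 : F 0 = ⊤) (hp : F p = ⊥)
    (htF : ∀ i, ∀ v ∈ F i, (t : Module.End (ZMod p) V) v ∈ F i)
    (htF' : ∀ i, ∀ v ∈ F i, ((t⁻¹ : (Module.End (ZMod p) V)ˣ) : Module.End (ZMod p) V) v ∈ F i)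
    {A : Module.End (ZMod p) V} (hA : A * A = 0) (hAr : Raise F A)
    (hAc : ∀ m m' : ℕ, Commute ((cj t)^[m] A) ((cj t)^[m'] A))
    {g : ℕ → (Module.End (ZMod p) V)ˣ} (hg0 : (g 0 : Module.End (ZMod p) V) = 1 + A)
    (hg : ∀ k, g (k + 1) = t * g k * t⁻¹ * (g k)⁻¹) (h1 : g 1 ≠ 1) {B : ℕ} (hB : g B = 1) (hB2 : 2 * B ≤ p + 1) :
    ∃ k, 1 ≤ k ∧ k < B ∧ g k ≠ 1 ∧
      ((g k : Module.End (ZMod p) V) - 1) * ((g k : Module.End (ZMod p) V) - 1) = 0 := by
  classical
  set W : Submodule (ZMod p) (Module.End (ZMod p) V) :=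
    Submodule.span (ZMod p) (Set.range fun m => (cj t)^[m] A) with hW
  have hWc : ∀ U ∈ W, ∀ U' ∈ W, Commute U U' := by
    intro U hU
    induction hU using Submodule.span_induction with
    | mem x hx =>
      obtain ⟨m, rfl⟩ := hx
      intro U' hU'
      induction hU' using Submodule.span_induction with
      | mem y hy => obtain ⟨m', rfl⟩ := hy; exact hAc m m'
      | zero => exact Commute.zero_right _
      | add a b _ _ ha hb => exact ha.add_right hb
      | smul r a _ ha => exact ha.smul_right r
    | zero => exact fun U' _ => Commute.zero_left _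
    | add a b _ _ ha hb => exact fun U' hU' => (ha U' hU').add_left (hb U' hU')
    | smul r a _ ha => exact fun U' hU' => (ha U' hU').smul_left r
  set Y : ℕ → Module.End (ZMod p) V := fun k => (diff t)^[k] A with hY
  have hYs : ∀ k, Y (k + 1) = cj t (Y k) - Y k := fun k => Function.iterate_succ_apply' (diff t) k A
  have hcjW : ∀ U ∈ W, cj t U ∈ W := by
    intro U hU
    induction hU using Submodule.span_induction with
    | mem x hx =>
      obtain ⟨m, rfl⟩ := hx
      exact Submodule.subset_span ⟨m + 1, Function.iterate_succ_apply' (cj t) m A⟩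
    | zero => simp [cj]
    | add a b _ _ ha hb => rw [cj_add]; exact add_mem ha hb
    | smul r a _ ha =>
      rw [show cj t (r • a) = r • cj t a by simp only [cj, mul_smul_comm, smul_mul_assoc]]
      exact Submodule.smul_mem _ r ha
  have hYW : ∀ k, Y k ∈ W := by
    intro k
    induction k with
    | zero => exact Submodule.subset_span ⟨0, rfl⟩
    | succ k ih => rw [hYs]; exact sub_mem (hcjW _ ih) ih
  have hcjR : ∀ U, Raise F U → Raise F (cj t U) := fun U hU i v hv =>
    htF _ _ (hU i _ (htF' i v hv))
  have hYR : ∀ k, Raise F (Y k) := by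
    intro k
    induction k with
    | zero => exact hAr
    | succ k ih => rw [hYs]; exact raise_sub (hcjR _ ih) ih
  have hgY : ∀ k, (g k : Module.End (ZMod p) V) = texp (Y k) := by
    intro k
    induction k with
    | zero => rw [hg0]; exact (texp_of_sq hA).symm
    | succ k ih =>
      have e : texp (Y (k + 1)) * texp (Y k) = cj t (texp (Y k)) := by
        rw [texp_add hanti h0 hp (hYR _) (hYR k) (hWc _ (hYW _) _ (hYW k)), hYs, sub_add_cancel, cj_texp]
      rw [← ih] at e
      rw [hg k, Units.val_mul, Units.val_mul, Units.val_mul, Units.mul_inv_eq_iff_eq_mul]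
      exact e.symm
  have hY1 : Y 1 ≠ 0 := fun e => h1 (Units.ext (by rw [hgY, e, texp_zero, Units.val_one]))
  have hYB : Y B = 0 := eq_zero_of_texp_eq_one hanti h0 hp (hYR B) (by rw [← hgY, hB, Units.val_one])
  have hB1 : B ≠ 0 := by
    rintro rfl
    exact hY1 (by rw [hYs, hYB]; simp [cj])
  have hex : ∃ d, d + 1 ≤ B ∧ Y (d + 1) = 0 := ⟨B - 1, by omega, by rwa [show B - 1 + 1 = B by omega]⟩
  set d := Nat.find hex
  obtain ⟨hdB, hd1⟩ : d + 1 ≤ B ∧ Y (d + 1) = 0 := Nat.find_spec hex
  have hd : Y d ≠ 0 := by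
    intro e
    rcases Nat.eq_zero_or_pos d with hd0 | hd0
    · rw [hd0] at e
      exact hY1 (by rw [hYs, e]; simp [cj])
    · exact Nat.find_min hex (show d - 1 < d by omega) ⟨by omega, by rwa [show d - 1 + 1 = d by omega]⟩
  have hd0 : 1 ≤ d := by
    by_contra h
    rw [show d = 0 by omega] at hd1
    exact hY1 hd1
  have hsq : Y d * Y d = 0 := by
    have h2 := (diff_mul_top t (2 * d) d d (by omega) A A hd1 hd1).1
    rw [hA, diff_iterate_zero, ← Nat.cast_smul_eq_nsmul (ZMod p)] at h2
    refine (smul_eq_zero.mp h2.symm).resolve_left fun h => ?_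
    refine factorial_ne_zero (p := p) (show 2 * d < p by omega) ?_
    rw [← Nat.choose_mul_factorial_mul_factorial (show d ≤ 2 * d by omega), Nat.cast_mul, Nat.cast_mul, h,
      zero_mul, zero_mul]
  refine ⟨d, hd0, by omega, fun e => hd ?_, ?_⟩
  · exact eq_zero_of_texp_eq_one hanti h0 hp (hYR d) (by rw [← hgY, e, Units.val_one])
  · rw [hgY, texp_of_sq hsq, add_sub_cancel_left]; exact hsq

end Derive

end CfsgLib.MaxClassResidual
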