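import Cfsg.Agent.Lib.MaxClassResidual.Tools
import Mathlib.FieldTheory.Finite.Basic
import Mathlib.RingTheory.Int.Basic

/-!
Automorphisms descended along a surjective homomorphism, and stabilisers of a central subgroup of
prime order.
-/

set_option autoImplicit false
set_option linter.unusedSectionVars false
set_option linter.style.haveILetI false

namespace CfsgLib.MaxClassResidual

open Subgroup

section
variable {X Y : Type*} [Group X] [Group Y] (f : X →* Y) (hf : Function.Surjective f)

theorem map_of_stab {W : Subgroup X} (α : stabW W) : W.map ((α : MulAut X) : X →* X) = W :=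
  le_antisymm (by rintro _ ⟨w, hw, rfl⟩; exact (α.2 w).mpr hw)
    (fun w hw => ⟨(α : MulAut X)⁻¹ w, (α.2 _).mp (by rwa [MulAut.apply_inv_self]),
      MulAut.apply_inv_self _ _ _⟩)

/-- The automorphism induced along a surjective homomorphism whose kernel it stabilises. -/
noncomputable def descendAut (α : stabW f.ker) : MulAut Y :=
  (QuotientGroup.quotientKerEquivOfSurjective f hf).symm.trans
    ((QuotientGroup.congr f.ker f.ker (α : MulAut X) (map_of_stab α)).trans
      (QuotientGroup.quotientKerEquivOfSurjective f hf))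

theorem descendAut_apply (α : stabW f.ker) (x : X) : descendAut f hf α (f x) = f ((α : MulAut X) x) := by
  have e : ∀ y : X, QuotientGroup.quotientKerEquivOfSurjective f hf (QuotientGroup.mk y) = f y := fun y => rfl
  have e' : (QuotientGroup.quotientKerEquivOfSurjective f hf).symm (f x) = QuotientGroup.mk x := by
    rw [MulEquiv.symm_apply_eq]
    exact (e x).symm
  show QuotientGroup.quotientKerEquivOfSurjective f hf (QuotientGroup.congr f.ker f.ker (α : MulAut X) (map_of_stab α)
    ((QuotientGroup.quotientKerEquivOfSurjective f hf).symm (f x))) = _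
  rw [e']
  rfl

/-- Descent as a homomorphism. -/
noncomputable def descend : stabW f.ker →* MulAut Y where
  toFun := descendAut f hf
  map_one' := MulEquiv.ext fun y => by
    obtain ⟨x, rfl⟩ := hf y
    rw [descendAut_apply]
    rfl
  map_mul' a b := MulEquiv.ext fun y => by
    obtain ⟨x, rfl⟩ := hf y
    rw [descendAut_apply, MulAut.mul_apply, descendAut_apply, descendAut_apply]
    rfl

theorem descend_apply (α : stabW f.ker) (x : X) : descend f hf α (f x) = f ((α : MulAut X) x) :=
  descendAut_apply f hf α x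

theorem descend_eq {α : stabW f.ker} {β : MulAut Y} (h : ∀ x, f ((α : MulAut X) x) = β (f x)) :
    descend f hf α = β := MulEquiv.ext fun y => by
  obtain ⟨x, rfl⟩ := hf y
  rw [descend_apply, h]

/-- The image of a group of automorphisms. -/
noncomputable def descendGroup (A : Subgroup (MulAut X)) : Subgroup (MulAut Y) :=
  (A.subgroupOf (stabW f.ker)).map (descend f hf)

theorem mem_descendGroup {A : Subgroup (MulAut X)} {β : MulAut Y} :
    β ∈ descendGroup f hf A ↔
      ∃ α ∈ A, ∃ hα : α ∈ stabW f.ker, descend f hf ⟨α, hα⟩ = β := by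
  constructor
  · rintro ⟨⟨α, hα⟩, h, rfl⟩; exact ⟨α, mem_subgroupOf.mp h, hα, rfl⟩
  · rintro ⟨α, h, hα, rfl⟩; exact ⟨⟨α, hα⟩, mem_subgroupOf.mpr h, rfl⟩

theorem descendGroup_mono {A B : Subgroup (MulAut X)} (h : A ≤ B) : descendGroup f hf A ≤ descendGroup f hf B :=
  map_mono fun _ ha => mem_subgroupOf.mpr (h (mem_subgroupOf.mp ha))

/-- Descent does not increase the index. -/
theorem relIndex_descendGroup [Finite X] {R A : Subgroup (MulAut X)} (hR : R ≤ stabW f.ker) :
    (descendGroup f hf R).relIndex (descendGroup f hf A) ∣ R.relIndex (A ⊓ stabW f.ker) := by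
  set R' := R.subgroupOf (stabW f.ker)
  set A' := A.subgroupOf (stabW f.ker)
  have e : R.relIndex (A ⊓ stabW f.ker) = R'.relIndex A' := by
    rw [← Subgroup.relIndex_map_map_of_injective (f := (stabW f.ker).subtype) R' A' Subtype.val_injective,
      subgroupOf_map_subtype, subgroupOf_map_subtype, inf_eq_left.mpr hR]
  rw [e]
  show (R'.map (descend f hf)).relIndex (A'.map (descend f hf)) ∣ _
  rw [← Subgroup.relIndex_comap]
  exact relIndex_dvd_of_le_left _ (le_comap_map _ _)

end

section
variable {X : Type*} [Group X] {p : ℕ} [Fact p.Prime]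

/-- The automorphisms fixing a subgroup and the quotient by it have exponent `p` when the subgroup
has order `p`. -/
theorem pow_eq_one_of_stabilises {K : Subgroup X} (hK : Nat.card K = p) {α : MulAut X}
    (h1 : ∀ k ∈ K, α k = k) (h2 : ∀ x, x⁻¹ * α x ∈ K) : α ^ p = 1 := by
  refine MulEquiv.ext fun x => ?_
  have h : ∀ m : ℕ, (α ^ m) x = x * (x⁻¹ * α x) ^ m := by
    intro m
    induction m with
    | zero => simp
    | succ m ih =>
      rw [pow_succ', MulAut.mul_apply, ih, map_mul, map_pow, h1 _ (h2 x), pow_succ', ← mul_assoc,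
        mul_inv_cancel_left]
  have h3 : (⟨_, h2 x⟩ : K) ^ Nat.card K = 1 := pow_card_eq_one'
  rw [h p, MulAut.one_apply, ← hK]
  have h4 := congrArg Subtype.val h3
  rw [SubmonoidClass.coe_pow] at h4
  rw [h4, OneMemClass.coe_one, mul_one]

/-- A power prime to `p` lies in no subgroup the element avoids. -/
theorem zpow_mem_elim {K : Subgroup X} {w : X} (hw : w ^ p = 1) (hwK : w ∉ K) {j : ℤ} (hj : w ^ j ∈ K) :
    w ^ j = 1 := by
  by_cases hd : (p : ℤ) ∣ j
  · obtain ⟨r, rfl⟩ := hd
    rw [zpow_mul, zpow_natCast, hw, one_zpow]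
  · exfalso
    obtain ⟨a, b, hab⟩ : IsCoprime j (p : ℤ) :=
      ((Nat.prime_iff_prime_int.mp (Fact.out : p.Prime)).coprime_iff_not_dvd.mpr hd).symm
    refine hwK ?_
    have h := K.mul_mem (K.zpow_mem hj a) (K.one_mem)
    rw [mul_one, ← zpow_mul] at h
    rwa [show j * a = 1 + (p : ℤ) * (-b) by linear_combination hab, zpow_add, zpow_one, zpow_mul, zpow_natCast, hw,
      one_zpow, mul_one] at h

/-- An element of order `p` is central for a power fixing it up to a power. -/
theorem pow_fix_of_zpow {α : MulAut X} {z : X} (hz : z ^ p = 1) (h : α z ∈ zpowers z) (hne : z ≠ 1) :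
    (α ^ (p - 1)) z = z := by
  have hpp : p.Prime := Fact.out
  obtain ⟨c, hc⟩ := mem_zpowers_iff.mp h
  have hit : ∀ m : ℕ, (α ^ m) z = z ^ (c ^ m) := by
    intro m
    induction m with
    | zero => simp
    | succ m ih => rw [pow_succ', MulAut.mul_apply, ih, map_zpow, ← hc, ← zpow_mul, ← pow_succ']
  have hcd : ¬ (p : ℤ) ∣ c := fun ⟨r, hr⟩ => hne (α.injective (by
    rw [← hc, hr, zpow_mul, zpow_natCast, hz, one_zpow, map_one]))
  rw [hit]
  conv_rhs => rw [← zpow_one z]
  rw [zpow_eq_zpow_iff_modEq, orderOf_eq_prime hz hne]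
  exact Int.ModEq.pow_card_sub_one_eq_one hpp
    ((Nat.prime_iff_prime_int.mp hpp).coprime_iff_not_dvd.mpr hcd).symm

end

end CfsgLib.MaxClassResidual
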