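import Cfsg.Agent.Lib.MaxClassResidual.Kernel
import Cfsg.Agent.Lib.MaxClassEssential.High

/-!
No invariant elementary abelian normal subgroup contains the last two layers.
-/

set_option autoImplicit false
set_option linter.unusedSectionVars false
set_option linter.style.haveILetI false

namespace CfsgLib.MaxClassResidual

open scoped commutatorElement
open Subgroup
open CfsgLib.PolySeq (fil fil_antitone fil_commutator_mem)
open MaxClassEssential (Vec vec lin)

namespace Frame

variable {p : ℕ} [hpf : Fact p.Prime] {S : Type*} [Group S] [Finite S] (D : Frame p S)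

/-- A faithful group of automorphisms of an elementary abelian term with trivial `p`-core and the group as a
Sylow subgroup does not exist, if the centralizer is a deep term. -/
theorem false_of_faithful (hp : 5 ≤ p) {k r : ℕ} (hr3 : 3 ≤ r) (hrk : r ≤ k) (hk2 : k + 2 ≤ D.n)
    (hab : ∀ a ∈ fil S k, ∀ b ∈ fil S k, a * b = b * a) (hexp : ∀ a ∈ fil S k, a ^ p = 1)
    (hcen : ∀ g : S, (∀ m ∈ fil S k, g * m = m * g) ↔ g ∈ fil S r)
    (G : Subgroup (MulAut (fil S k))) (hG : ∀ g : S, MulAut.conjNormal g ∈ G)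
    (hsyl : ¬ p ∣ (MulAut.conjNormal : S →* MulAut (fil S k)).range.relIndex G)
    (hO : ∀ Q : Subgroup G, Q.Normal → IsPGroup p Q → Q = ⊥) : False := by
  classical
  have hpp : p.Prime := hpf.out
  haveI : Fact (IsPGroup p (fil S k)) := ⟨D.hS.to_subgroup (fil S k)⟩
  haveI : Finite (MulAut (fil S k)) := Finite.of_injective (fun f => (f : (fil S k) → (fil S k))) DFunLike.coe_injective
  haveI : FiniteDimensional (ZMod p) (Vec p (fil S k)) := Module.Finite.of_finite
  have hphi : frattini (fil S k) = ⊥ := le_bot_iff.mp (CfsgLib.RankFrattini.frattini_le_of_elementary (D.hS.to_subgroup (fil S k)) ⊥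
    (fun a b => mem_bot.mpr (commutatorElement_eq_one_iff_mul_comm.mpr (Subtype.ext (hab a a.2 b b.2))))
    (fun a => mem_bot.mpr (Subtype.ext (by rw [SubmonoidClass.coe_pow]; exact hexp a a.2))))
  let v : ∀ a : S, a ∈ (fil S k) → Vec p (fil S k) := fun a ha => vec (⟨a, ha⟩ : (fil S k))
  have v_eq0 : ∀ a (ha : a ∈ (fil S k)), v a ha = 0 ↔ a = 1 := fun a ha => by
    show vec (⟨a, ha⟩ : (fil S k)) = 0 ↔ _
    rw [MaxClassEssential.vec_eq_zero, hphi, mem_bot]
    exact ⟨fun h => congrArg Subtype.val h, fun h => Subtype.ext h⟩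
  let cM : S →* G := (MulAut.conjNormal : S →* MulAut (fil S k)).codRestrict G hG
  let σ : Representation (ZMod p) G (Vec p (fil S k)) := (lin (p := p) (E := (fil S k))).comp G.subtype
  have hinj : Function.Injective σ := by
    refine (injective_iff_map_eq_one σ).mpr fun a ha => Subtype.ext (MulEquiv.ext fun y => ?_)
    have h1 := MaxClassEssential.lin_eq_one.mp ha y
    rw [hphi, mem_bot, mul_inv_eq_one] at h1
    exact h1
  have hτ1 : ∀ g, cM g = 1 ↔ g ∈ fil S r := by
    intro g
    rw [← hcen]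
    constructor
    · intro h m hm
      have h1 := congrArg (fun a : G => (((a : MulAut (fil S k)) ⟨m, hm⟩ : (fil S k)) : S)) h
      change g * m * g⁻¹ = m at h1
      exact mul_inv_eq_iff_eq_mul.mp h1
    · intro h
      refine Subtype.ext (MulEquiv.ext fun m => Subtype.ext ?_)
      show g * m * g⁻¹ = m
      rw [h m m.2, mul_inv_cancel_right]
  have hsub : ∀ g a (ha : a ∈ (fil S k)), (σ (cM g) - 1) (v a ha) =
      v ⁅g, a⁆ (by rw [commutatorElement_def]; exact mul_mem ((inferInstance : (fil S k).Normal).conj_mem a ha g) (inv_mem ha)) := by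
    intro g a ha
    rw [LinearMap.sub_apply, Module.End.one_apply]
    show lin (p := p) (MulAut.conjNormal g) (vec (⟨a, ha⟩ : (fil S k))) - vec (⟨a, ha⟩ : (fil S k)) = vec _
    rw [MaxClassEssential.lin_vec, sub_eq_add_neg, ← MaxClassEssential.vec_inv, ← MaxClassEssential.vec_mul]
    exact congrArg vec (Subtype.ext rfl)
  obtain ⟨x, hx⟩ := D.exists_not_mem
  obtain ⟨z₀, hz₀, hz₀'⟩ := D.exists_exact (k := k) (by omega) (by omega)
  rw [D.Tf_of_two (show 2 ≤ k by omega)] at hz₀
  rw [D.Tf_of_two (show 2 ≤ k + 1 by omega)] at hz₀'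
  have hkM : ∀ {l}, ∀ {a}, a ∈ fil S (k + l) → a ∈ (fil S k) := fun h => fil_antitone (Nat.le_add_right k _) h
  have hsucc : ∀ {l} {a : S} (g : S), a ∈ fil S l → ⁅g, a⁆ ∈ fil S (l + 1) := fun {l a} g h =>
    comm_swap (fil_commutator_mem (j := 1) h (mem_top g))
  set N : Module.End (ZMod p) (Vec p (fil S k)) := σ (cM x) - 1 with hN
  let it : ℕ → S := fun l => Nat.rec z₀ (fun _ a => ⁅x, a⁆) l
  have it_mem : ∀ l, it l ∈ fil S (k + l) := by
    intro l
    induction l with
    | zero => exact hz₀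
    | succ l ih => exact hsucc x ih
  have it_not : ∀ l, k + l < D.n → it l ∉ fil S (k + l + 1) := by
    intro l
    induction l with
    | zero => exact fun _ => hz₀'
    | succ l ih =>
      intro h hmem
      refine D.comm_exact hx (k := k + l) (by omega) (by omega) (by rw [D.Tf_of_two (by omega)]; exact it_mem l)
        (by rw [D.Tf_of_two (by omega)]; exact ih (by omega)) ?_
      exact comm_swap hmem
  have pow_v : ∀ (i : ℕ) {l : ℕ} {a : S} (ha : a ∈ fil S (k + l)), ∃ b, ∃ hb : b ∈ fil S (k + l + i),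
      (N ^ i) (v a (hkM ha)) = v b (fil_antitone (by omega) hb) := by
    intro i
    induction i with
    | zero => intro l a ha; exact ⟨a, ha, by rw [pow_zero, Module.End.one_apply]⟩
    | succ i ih =>
      intro l a ha
      obtain ⟨b, hb, hb'⟩ := ih ha
      refine ⟨⁅x, b⁆, hsucc x hb, ?_⟩
      rw [pow_succ', Module.End.mul_apply, hb', hN, hsub]
  have pow_e : ∀ i, (N ^ i) (v z₀ hz₀) = v (it i) (hkM (it_mem i)) := by
    intro i
    induction i with
    | zero => rw [pow_zero, Module.End.one_apply]; rfl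
    | succ i ih => rw [pow_succ', Module.End.mul_apply, ih, hN, hsub]
  have v_mul : ∀ a b (ha : a ∈ (fil S k)) (hb : b ∈ (fil S k)), v (a * b) (mul_mem ha hb) = v a ha + v b hb :=
    fun a b ha hb => MaxClassEssential.vec_mul (⟨a, ha⟩ : (fil S k)) ⟨b, hb⟩
  have v_pow : ∀ a (ha : a ∈ (fil S k)) (t : ℕ), v (a ^ t) (pow_mem ha t) = t • v a ha :=
    fun a ha t => MaxClassEssential.vec_pow (⟨a, ha⟩ : (fil S k)) t
  have v_congr : ∀ {a b : S} (ha : a ∈ (fil S k)) (hb : b ∈ (fil S k)), a = b → v a ha = v b hb := by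
    rintro a b ha hb rfl; rfl
  have v_range : ∀ (m i : ℕ), D.n ≤ k + i + m → ∀ a (ha : a ∈ fil S (k + i)), ∃ w, (N ^ i) w = v a (hkM ha) := by
    intro m
    induction m with
    | zero => exact fun i hi a ha => ⟨0, by rw [map_zero, eq_comm, v_eq0]; exact D.eq_one_of_fil (by omega) ha⟩
    | succ m ih =>
      intro i hi a ha
      rcases le_or_gt D.n (k + i) with h | h
      · exact ⟨0, by rw [map_zero, eq_comm, v_eq0]; exact D.eq_one_of_fil h ha⟩
      obtain ⟨t, ht⟩ := D.layer_pow (k := k + i) (by omega) h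
        (by rw [D.Tf_of_two (by omega)]; exact it_mem i)
        (by rw [D.Tf_of_two (by omega)]; exact it_not i h) (v := a) (by rw [D.Tf_of_two (by omega)]; exact ha)
      rw [D.Tf_of_two (by omega)] at ht
      obtain ⟨w, hw⟩ := ih (i + 1) (by omega) _ ht
      refine ⟨t • v z₀ hz₀ + N w, ?_⟩
      have h2 : (N ^ i) (N w) = v ((it i ^ t)⁻¹ * a) (hkM (l := i + 1) ht) := by
        rw [← hw, pow_succ]; rfl
      rw [map_add, map_nsmul, pow_e, h2, ← v_pow, ← v_mul]
      exact v_congr _ _ (mul_inv_cancel_left _ _)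
  let C : MaxClassEssential.Cyc (ZMod p) (Vec p (fil S k)) :=
    { N := N
      d := D.n - k
      e := v z₀ hz₀
      gen := by
        intro w
        obtain ⟨⟨a, ha⟩, rfl⟩ := MaxClassEssential.vec_surjective w
        obtain ⟨t, ht⟩ := D.layer_pow (k := k) (by omega) (by omega)
          (by rw [D.Tf_of_two (by omega)]; exact hz₀) (by rw [D.Tf_of_two (by omega)]; exact hz₀') (v := a)
          (by rw [D.Tf_of_two (by omega)]; exact ha)
        rw [D.Tf_of_two (by omega)] at ht
        obtain ⟨w, hw⟩ := v_range D.n 1 (by omega) _ ht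
        refine ⟨(t : ZMod p), w, ?_⟩
        rw [pow_one] at hw
        rw [Nat.cast_smul_eq_nsmul, hw, ← v_pow, ← v_mul]
        exact v_congr ha _ (mul_inv_cancel_left _ _).symm
      nil := by
        refine LinearMap.ext fun w => ?_
        obtain ⟨⟨a, ha⟩, rfl⟩ := MaxClassEssential.vec_surjective w
        obtain ⟨b, hb, hb'⟩ := pow_v (D.n - k) (l := 0) ha
        show (N ^ (D.n - k)) (v a ha) = 0
        rw [hb', v_eq0]
        exact D.eq_one_of_fil (by omega) hb
      top := by
        show (N ^ (D.n - k - 1)) (v z₀ hz₀) ≠ 0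
        rw [pow_e, Ne, v_eq0]
        intro h
        exact it_not (D.n - k - 1) (by omega) (by rw [h]; exact one_mem _) }
  have mem_F : ∀ {i : ℕ} {w : Vec p (fil S k)}, w ∈ C.F i ↔ ∃ a, ∃ ha : a ∈ fil S (k + i), v a (hkM ha) = w := by
    intro i w
    rw [MaxClassEssential.Cyc.mem_F]
    constructor
    · rintro ⟨u, rfl⟩
      obtain ⟨⟨a, ha⟩, rfl⟩ := MaxClassEssential.vec_surjective u
      obtain ⟨b, hb, hb'⟩ := pow_v i (l := 0) ha
      exact ⟨b, hb, hb'.symm⟩
    · rintro ⟨a, ha, rfl⟩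
      exact v_range D.n i (by omega) a ha
  have hflag : ∀ g i w, w ∈ C.F i → (σ (cM g) - 1) w ∈ C.F (i + 1) := by
    intro g i w hw
    obtain ⟨a, ha, rfl⟩ := mem_F.mp hw
    exact mem_F.mpr ⟨_, hsucc g ha, (hsub g a _).symm⟩
  have hflagT : ∀ {j : ℕ}, 1 ≤ j → ∀ g ∈ D.Tf j, ∀ i w, w ∈ C.F i → (σ (cM g) - 1) w ∈ C.F (i + (j + 1)) := by
    intro j hj g hg i w hw
    obtain ⟨a, ha, rfl⟩ := mem_F.mp hw
    refine mem_F.mpr ⟨_, ?_, (hsub g a _).symm⟩
    have h := D.comm_Tf j (k + i) hj (by omega) g hg a (by rw [D.Tf_of_two (by omega)]; exact ha)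
    exact fil_antitone (by omega) h
  let P : Sylow p G := (show IsPGroup p ((MulAut.conjNormal : S →* MulAut (fil S k)).range.subgroupOf G) from
    ((D.hS).of_surjective _ (MulAut.conjNormal : S →* MulAut (fil S k)).rangeRestrict_surjective).comap_of_injective _
      G.subtype_injective).toSylow hsyl
  have hP : ∀ u : G, u ∈ (P : Subgroup G) ↔ ∃ g, cM g = u := by
    intro u
    refine ⟨fun h => ?_, ?_⟩
    · obtain ⟨g, hg⟩ := mem_subgroupOf.mp h
      exact ⟨g, Subtype.ext hg⟩
    · rintro ⟨g, rfl⟩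
      exact mem_subgroupOf.mpr ⟨g, rfl⟩
  obtain ⟨w, hw, hw'⟩ := D.exists_exact (k := r - 1) (by omega) (by omega)
  rw [D.Tf_of_two (show 2 ≤ r - 1 by omega)] at hw
  rw [D.Tf_of_two (show 2 ≤ r - 1 + 1 by omega), show r - 1 + 1 = r by omega] at hw'
  have hwc : ∀ g : S, ⁅g, w⁆ ∈ fil S r := fun g => by
    have := hsucc g hw
    rwa [show r - 1 + 1 = r by omega] at this
  have hw2 : w ∈ D.Tf (r - 1) := by rw [D.Tf_of_two (by omega)]; exact hw
  have hd : D.n - k < p := by
    by_contra h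
    exact (CfsgLib.MaxClassGood.pow_shift D.hn3 D.hG D.hc (show 2 ≤ k by omega) hz₀).2 (by omega) hz₀'
      (by rw [hexp z₀ hz₀]; exact one_mem _)
  have hW0 : σ (cM w) - 1 ≠ 0 := fun h => hw' ((hτ1 w).mp (hinj (by rw [map_one, ← sub_eq_zero, h])))
  have hrd : r + 1 ≤ D.n - k := by
    by_contra h
    refine hW0 (LinearMap.ext fun y => ?_)
    rw [LinearMap.zero_apply]
    refine C.eq_zero_of_mem (i := 0 + (r - 1 + 1)) (by show D.n - k ≤ _; omega)
      (hflagT (by omega) w hw2 0 y (C.mem_F_zero y))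
  have hAN : (σ (cM w) - 1) * N = N * (σ (cM w) - 1) := by
    have hcomm : cM x * cM w = cM w * cM x := by
      rw [← commutatorElement_eq_one_iff_mul_comm, ← map_commutatorElement]
      exact (hτ1 _).mpr (hwc x)
    have h := congrArg σ hcomm
    rw [map_mul, map_mul] at h
    rw [hN, sub_mul, sub_mul, mul_sub, mul_sub, mul_sub, mul_sub, one_mul, one_mul, one_mul, mul_one, mul_one, h]
    abel
  obtain ⟨s, q, hsd, hq, hAq⟩ := C.exists_pow_mul hAN hW0
  have hs2 : 2 ≤ s := by
    by_contra hs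
    have h1 : (C.N ^ s) (Polynomial.aeval C.N q C.e) ∈ C.F (s + 1) := by
      refine C.F_anti (show s + 1 ≤ 0 + (r - 1 + 1) by omega) ?_
      rw [← Module.End.mul_apply, ← hAq]
      exact hflagT (by omega) w hw2 0 _ (C.mem_F_zero _)
    have h3 := C.pow_mem (j := s) (C.aeval_e_sub q)
    rw [map_sub, map_smul, Nat.add_comm] at h3
    have h4 := sub_mem h1 h3
    rw [sub_sub_cancel] at h4
    exact hq (C.layer_unique hsd h4)
  have hcent : ∀ u ∈ (P : Subgroup G), u * cM x = cM x * u → ∃ i j : ℕ, u = cM x ^ i * cM w ^ j := by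
    intro u hu h
    obtain ⟨g, rfl⟩ := (hP u).mp hu
    rw [← commutatorElement_eq_one_iff_mul_comm, ← map_commutatorElement, hτ1] at h
    set L : Subgroup S := (centralizer ({QuotientGroup.mk' (fil S r) x} : Set (S ⧸ fil S r))).comap
      (QuotientGroup.mk' (fil S r)) with hLdef
    have hL : ∀ g, g ∈ L ↔ ⁅g, x⁆ ∈ fil S r := fun g => by
      rw [hLdef, mem_comap, mem_centralizer_singleton_iff, CfsgLib.MaxClassRank.mk_comm_iff]
    have hle : zpowers x ⊔ fil S (r - 1) ≤ L := by
      refine sup_le (zpowers_le.mpr ((hL x).mpr (by rw [commutatorElement_self]; exact one_mem _))) fun a ha => ?_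
      exact (hL a).mpr (fil_antitone (by omega) (fil_commutator_mem ha (show x ∈ fil S 1 from mem_top _)))
    have hcL : Nat.card L ≤ p ^ (D.n - r + 2) := by
      refine (CfsgLib.MaxClassRank.card_le_of_comm (x := x) fun a ha => (hL a).mp ha).trans ?_
      rw [D.card_fil (by omega) (by omega), pow_add, ← D.good hx]
      exact Nat.mul_le_mul_left _ (card_le_of_le inf_le_right)
    have hlt : fil S (r - 1) < zpowers x ⊔ fil S (r - 1) :=
      lt_of_le_of_ne le_sup_right fun e => hx ((fil_antitone (show 2 ≤ r - 1 by omega)).trans D.fil_two_le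
        (e.ge (mem_sup_left (mem_zpowers x))))
    have hgrow := CfsgLib.MaxClassGood.card_grow D.hG hlt
    rw [D.card_fil (by omega) (by omega), ← pow_succ, show D.n - (r - 1) + 1 = D.n - r + 2 by omega] at hgrow
    have heq : zpowers x ⊔ fil S (r - 1) = L := eq_of_le_of_card_ge hle (hcL.trans hgrow)
    obtain ⟨a, ha, b, hb, rfl⟩ := mem_sup_of_normal_right.mp (heq.ge ((hL g).mpr h))
    obtain ⟨i, rfl⟩ := (mem_powers_iff_mem_zpowers.mpr ha : a ∈ Submonoid.powers x)
    obtain ⟨j, hj⟩ := D.layer_pow (k := r - 1) (by omega) (by omega) hw2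
      (by rw [D.Tf_of_two (by omega), show r - 1 + 1 = r by omega]; exact hw') (v := b)
      (by rw [D.Tf_of_two (by omega)]; exact hb)
    rw [D.Tf_of_two (by omega), show r - 1 + 1 = r by omega, ← hτ1, map_mul, map_inv, map_pow,
      inv_mul_eq_one] at hj
    exact ⟨i, j, by rw [map_mul, map_pow, ← hj]⟩
  let T : MaxClassEssential.Setup p G (Vec p (fil S k)) :=
    { σ := σ
      C := C
      P := P
      x := cM x
      z := cM w
      s := s
      q := q
      hinj := hinj
      hp := hp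
      hd := hd
      hxP := (hP _).mpr ⟨x, rfl⟩
      hx := by show σ (cM x) = 1 + (σ (cM x) - 1); abel
      hzP := (hP _).mpr ⟨w, rfl⟩
      hzc := by
        intro u hu
        obtain ⟨g, rfl⟩ := (hP u).mp hu
        rw [← commutatorElement_eq_one_iff_mul_comm, ← map_commutatorElement]
        exact (hτ1 _).mpr (hwc g)
      hq := hq
      hz := by rw [← hAq]; abel
      hs2 := hs2
      hsd := hsd
      hflag := fun u hu => by
        obtain ⟨g, rfl⟩ := (hP u).mp hu
        exact hflag g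
      hcent := hcent
      hO := hO }
  obtain ⟨g, hg⟩ := CfsgLib.MaxClassRank.comm_surj D.hn3 D.hG D.hc (D.good hx)
    (fil_antitone (show 2 ≤ r - 1 by omega) hw)
  have hconj : cM g * T.x * (cM g)⁻¹ = T.x * T.z ^ 1 := by
    show cM g * cM x * (cM g)⁻¹ = cM x * cM w ^ 1
    rw [pow_one, ← map_inv, ← map_mul, ← map_mul]
    have h1 : g * x * g⁻¹ = ⁅g, x⁆ * x := by rw [commutatorElement_def]; group
    rw [h1, hg, map_mul]
    exact (T.hzc (cM x) T.hxP).symm
  have hd2 : T.C.d < 2 * T.s :=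
    T.d_lt_two_mul ((hP _).mpr ⟨g, rfl⟩) (c := 1) (by rw [Nat.cast_one]; exact one_ne_zero) hconj
  refine T.false_of_two_mul hd2.le (show 4 ≤ D.n - k by omega) (fun u hu => ?_)
    (fun h => absurd h (by omega))
  obtain ⟨g, rfl⟩ := (hP u).mp hu
  obtain ⟨i, hi⟩ := CfsgLib.MaxClassDegree.pow_mem_of_not_mem D.hn3 D.hG D.hc D.T_index hx g
  refine ⟨(i : ZMod p), fun l hl => ?_⟩
  have hg' : cM g = cM x ^ i * cM ((x ^ i)⁻¹ * g) := by
    rw [← map_pow, ← map_mul, mul_inv_cancel_left]
  set h := (x ^ i)⁻¹ * g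
  have hw2' : (σ (cM h) - 1) (C.el l) ∈ C.F (l + 2) :=
    hflagT le_rfl h (by rw [D.Tf_of_le le_rfl]; exact hi) l _ (C.el_mem l)
  have hσx : T.σ (cM x ^ i) = (1 + T.C.N) ^ i := by
    rw [map_pow]; exact congrArg (· ^ i) T.hx
  have he : (T.σ (cM g) - 1) (T.C.el l) - (i : ZMod p) • T.C.el (l + 1) =
      (((1 + T.C.N) ^ i) (T.C.el l) - T.C.el l - (i : ZMod p) • T.C.N (T.C.el l)) +
      T.σ (cM x ^ i) ((T.σ (cM h) - 1) (T.C.el l)) := by
    rw [hg', map_mul, ← hσx, ← T.C.N_el]
    simp only [LinearMap.sub_apply, Module.End.mul_apply, Module.End.one_apply, map_sub]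
    abel
  rw [he]
  exact add_mem (T.one_add_pow_el i (T.C.el_mem l)) (T.apply_mem (pow_mem T.hxP i) hw2')

end Frame

namespace Data

variable {p : ℕ} [hpf : Fact p.Prime] {S : Type*} [Group S] [Finite S] (D : Data p S)

/-- The invariant elementary abelian terms. -/
def IsInvModule (k : ℕ) : Prop :=
  fil S k ≤ D.E ∧ fil S (D.n - 2) ≤ fil S k ∧ (∀ a ∈ fil S k, ∀ b ∈ fil S k, a * b = b * a) ∧
    (∀ a ∈ fil S k, a ^ p = 1) ∧ ∀ η ∈ D.A, ∀ e : D.E, (e : S) ∈ fil S k → ((η e : D.E) : S) ∈ fil S k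

/-- No invariant elementary abelian term. -/
theorem not_isInvModule (k₀ : ℕ) : ¬ D.IsInvModule k₀ := by
  classical
  intro h0
  have hn := D.toFrame.h4
  obtain ⟨d, hd, hdmax⟩ : ∃ d, D.IsInvModule d ∧ ∀ d', D.IsInvModule d' → Nat.card (fil S d) ≤ Nat.card (fil S d') := by
    have hne : {c | ∃ d, D.IsInvModule d ∧ Nat.card (fil S d) = c}.Nonempty := ⟨_, k₀, h0, rfl⟩
    obtain ⟨d, hd, hc⟩ := Nat.sInf_mem hne
    exact ⟨d, hd, fun d' hd' => hc ▸ Nat.sInf_le ⟨d', hd', rfl⟩⟩
  obtain ⟨k, hik, hkn, hkeq⟩ := D.normal_le (N := fil S d) hd.1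
  rw [IsInvModule, hkeq] at hd
  rw [hkeq] at hdmax
  obtain ⟨hME, hZM, hab, hexp, hinv⟩ := hd
  have h2 := D.two_le_i
  have h3 := D.i_add_three
  have hkn2 : k + 2 ≤ D.n := by
    have h := card_le_of_le hZM
    rw [D.toFrame.card_fil (by omega) (by omega), D.toFrame.card_fil (by omega) hkn,
      Nat.pow_le_pow_iff_right hpf.out.one_lt] at h
    omega
  set M := fil S k with hM
  set C : Subgroup S := centralizer (M : Set S) with hC
  haveI : C.Normal := inferInstanceAs (centralizer ((fil S k : Subgroup S) : Set S)).Normal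
  have hCmem : ∀ g, g ∈ C ↔ ∀ m ∈ M, g * m = m * g := fun g =>
    mem_centralizer_iff.trans ⟨fun h m hm => (h m hm).symm, fun h m hm => (h m hm).symm⟩
  have hCT : C ≤ D.T := by
    intro g hg
    by_contra hgT
    have hcard : Nat.card (fil S (D.n - 2)) < Nat.card (centralizer ({g} : Set S)) := by
      refine lt_of_le_of_ne (card_le_of_le fun u hu => ?_) fun e => hgT ?_
      · exact mem_centralizer_singleton_iff.mpr ((hCmem g).mp hg u (hZM hu)).symm
      · have heq := eq_of_le_of_card_ge (fun u hu =>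
          mem_centralizer_singleton_iff.mpr ((hCmem g).mp hg u (hZM hu)).symm) e.ge
        exact (fil_antitone (show 2 ≤ D.n - 2 by omega)).trans D.toFrame.fil_two_le
          (heq.ge (mem_centralizer_singleton_iff.mpr rfl))
    rw [D.toFrame.good hgT, D.toFrame.card_fil (by omega) (by omega), show D.n - (D.n - 2) = 2 by omega] at hcard
    exact lt_irrefl _ hcard
  obtain ⟨r, hr1, hrn, hCr⟩ := D.toFrame.normal_le_T hCT
  have hir : D.i + 1 ≤ r := by
    by_contra h
    obtain ⟨u, hu, hu'⟩ := D.exists_u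
    exact hu' (D.mem_of_centralize (g := ⟨u, D.fil_i_le_normalizer hu⟩) hME hZM hinv
      ((hCmem u).mp (hCr ▸ D.toFrame.fil_le_Tf h2 (by omega) hu)))
  rw [D.toFrame.Tf_of_two (by omega)] at hCr
  have hrk : r ≤ k := by
    have hle : M ≤ C := fun a ha => (hCmem a).mpr (hab a ha)
    rw [hCr] at hle
    have h := card_le_of_le hle
    rw [D.toFrame.card_fil (by omega) hrn, hM, D.toFrame.card_fil (by omega) hkn,
      Nat.pow_le_pow_iff_right hpf.out.one_lt] at h
    omega
  obtain ⟨G, hG, hsyl, hres⟩ := D.grp M hME hinv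
  refine D.toFrame.false_of_faithful D.hp (show 3 ≤ r by omega) hrk hkn2 hab hexp
    (fun g => by rw [← hCr]; exact (hCmem g).symm) G hG hsyl fun Q hQn hQp => ?_
  -- the trivial core
  haveI : Finite (MulAut M) := Finite.of_injective (fun f => (f : M → M)) DFunLike.coe_injective
  let cM : S →* G := (MulAut.conjNormal : S →* MulAut M).codRestrict G hG
  let P : Sylow p G := (show IsPGroup p ((MulAut.conjNormal : S →* MulAut M).range.subgroupOf G) from
    ((D.toFrame.hS).of_surjective _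
      (MulAut.conjNormal : S →* MulAut M).rangeRestrict_surjective).comap_of_injective _
      G.subtype_injective).toSylow hsyl
  have hQP : Q ≤ (P : Subgroup G) := (haveI := hQn; CfsgLib.le_pCore hQp).trans (CfsgLib.pCore_le_sylow P)
  set Q₀ : Subgroup S := Q.comap cM with hQ₀
  haveI : Q₀.Normal := hQn.comap cM
  -- no element of the layer above the core maps into the core
  have hcase : ∀ u ∈ fil S D.i, cM u ∈ Q → u ∈ D.E := by
    intro u hu huQ
    set γ : ∀ η ∈ D.A, G := fun η hη => ⟨(hres η hη).choose, (hres η hη).choose_spec.1⟩ with hγ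
    have hγs : ∀ η (hη : η ∈ D.A) (m : M), ((((γ η hη) : G) : MulAut M) m : S) = ((η ⟨(m : S), hME m.2⟩ : D.E) : S) :=
      fun η hη => (hres η hη).choose_spec.2
    let ρ : D.A →* G :=
      { toFun := fun η => γ η η.2
        map_one' := Subtype.ext (MulEquiv.ext fun m => Subtype.ext (hγs _ (1 : D.A).2 m))
        map_mul' := fun a b => Subtype.ext (MulEquiv.ext fun m => Subtype.ext (by
          rw [hγs _ (a * b).2, Subgroup.coe_mul, Subgroup.coe_mul, MulAut.mul_apply, MulAut.mul_apply, hγs _ a.2]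
          exact congrArg (fun e : D.E => ((((a : D.A) : MulAut D.E) e : D.E) : S))
            (Subtype.ext (hγs _ b.2 m).symm))) }
    set K : Subgroup (MulAut D.E) := (Q.comap ρ).map D.A.subtype with hK
    have hKp : IsPGroup p (Q.comap ρ) := by
      refine hQp.comap_of_ker_isPGroup ρ ?_
      intro b
      have hb : ((b : D.A) : MulAut D.E) ∈ D.fixLast := by
        refine ⟨(b : D.A).2, fun e he => Subtype.ext ?_⟩
        have h1 := hγs _ (b : D.A).2 ⟨(e : S), hZM (mem_subgroupOf.mp he)⟩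
        have h4 : (γ _ (b : D.A).2) = 1 := b.2
        rw [h4] at h1
        exact h1.symm
      rw [D.fixLast_eq] at hb
      obtain ⟨j, hj⟩ := D.isPGroup_range_cE ⟨_, hb⟩
      exact ⟨j, Subtype.ext (Subtype.ext (congrArg Subtype.val hj :))⟩
    have hKn : D.A ≤ normalizer (K : Set (MulAut D.E)) :=
      (normal_subgroupOf_iff_le_normalizer (map_subtype_le _)).mp (by
        rw [subgroupOf, comap_map_eq_self_of_injective D.A.subtype_injective]
        exact hQn.comap ρ)
    set g : normalizer (D.E : Set S) := ⟨u, D.fil_i_le_normalizer hu⟩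
    refine D.cE_mem_innE.mp (D.hrad K (map_subtype_le _) hKn (hKp.map _) ⟨⟨_, D.cE_mem g⟩, ?_, rfl⟩)
    show ρ ⟨_, D.cE_mem g⟩ ∈ Q
    have e : ρ ⟨_, D.cE_mem g⟩ = cM u := Subtype.ext (MulEquiv.ext fun m => Subtype.ext (hγs _ (D.cE_mem g) m))
    rw [e]; exact huQ
  have hQT : Q₀ ≤ D.T := by
    intro g hg
    by_contra hgT
    obtain ⟨y, hy, hy'⟩ := D.toFrame.exists_exact (k := D.i - 1) (by omega) (by omega)
    have h1 : ⁅y, g⁆ ∈ Q₀ := by
      rw [commutatorElement_def]
      exact mul_mem ((inferInstance : Q₀.Normal).conj_mem g hg y) (inv_mem hg)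
    have h4 : ⁅y, g⁆ ∈ fil S D.i := by
      have h := Frame.comm_mem_succ (D := D.toFrame) (by omega) hy g
      rwa [show D.i - 1 + 1 = D.i by omega] at h
    have h5 := D.toFrame.comm_exact hgT (k := D.i - 1) (by omega) (by omega) hy hy'
    rw [show D.i - 1 + 2 = D.i + 1 by omega] at h5
    exact h5 (D.inf_fil_i.le ⟨hcase _ h4 h1, h4⟩)
  -- the fixed points of the core
  set M' : Subgroup S := M ⊓ centralizer (Q₀ : Set S) with hM'
  haveI : M'.Normal := Subgroup.normal_inf_normal _ _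
  have hM'M : M' ≤ M := inf_le_left
  have hfix : ∀ m : M, (m : S) ∈ M' ↔ ∀ q ∈ Q, (q : MulAut M) m = m := by
    intro m
    constructor
    · intro hm q hq
      obtain ⟨g, hg⟩ := mem_subgroupOf.mp (hQP hq)
      rw [← hg]
      refine Subtype.ext ?_
      have hgQ : g ∈ Q₀ := by
        show cM g ∈ Q
        rwa [show cM g = q from Subtype.ext hg]
      rw [MulAut.conjNormal_apply, mem_centralizer_iff.mp hm.2 g hgQ, mul_inv_cancel_right]
    · intro hm
      refine ⟨m.2, mem_centralizer_iff.mpr fun g hg => ?_⟩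
      have h1 := congrArg Subtype.val (hm (cM g) hg)
      change g * m * g⁻¹ = m at h1
      exact mul_inv_eq_iff_eq_mul.mp h1
  obtain ⟨k', hk1, hk2', hk'eq⟩ := D.normal_le (N := M') (hM'M.trans hME)
  have hZM' : fil S (D.n - 2) ≤ M' := fun u hu =>
    ⟨hZM hu, mem_centralizer_iff.mpr fun g hg => (D.toFrame.fil_last_central hu (hQT hg)).symm⟩
  have hvalid : D.IsInvModule k' := by
    rw [IsInvModule, ← hk'eq]
    refine ⟨hM'M.trans hME, hZM', fun a ha b hb => hab a (hM'M ha) b (hM'M hb), fun a ha => hexp a (hM'M ha),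
      fun η hη e he => ?_⟩
    obtain ⟨γ, hγG, hγ⟩ := hres η hη
    have hem : (e : S) ∈ M := hM'M he
    refine (hfix ⟨_, hinv η hη e hem⟩).mpr fun q hq => ?_
    have e1 : (⟨_, hinv η hη e hem⟩ : M) = γ ⟨e, hem⟩ := Subtype.ext (hγ ⟨e, hem⟩).symm
    rw [e1]
    set γG : G := ⟨γ, hγG⟩
    have hq2 : γG⁻¹ * q * γG ∈ Q := by
      have := hQn.conj_mem q hq γG⁻¹
      simpa using this
    have h6 := (hfix ⟨e, hem⟩).mp he _ hq2
    have h7 := congrArg (fun m => γ m) h6
    simpa [γG, MulAut.mul_apply] using h7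
  have hEqM : M' = M := eq_of_le_of_card_ge hM'M (by rw [hk'eq]; exact hdmax k' hvalid)
  rw [eq_bot_iff]
  intro q hq
  exact Subtype.ext (MulEquiv.ext fun m => (hfix m).mp (hEqM.ge m.2) q hq)

end Data

end CfsgLib.MaxClassResidual
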