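import Cfsg.Agent.Lib.MaxClassResidual.Normal

/-!
The weights of the torus automorphism are contradictory.
-/

set_option autoImplicit false
set_option linter.unusedSectionVars false
set_option linter.style.haveILetI false
set_option maxHeartbeats 400000

namespace CfsgLib.MaxClassResidual

open scoped commutatorElement
open Subgroup
open CfsgLib.PolySeq (fil fil_antitone fil_commutator_mem)

namespace Frame

variable {p : ℕ} [hpf : Fact p.Prime] {S : Type*} [Group S] [Finite S] (D : Frame p S)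

/-- An eigenvalue on an exact element is the weight of its layer. -/
theorem eq_of_eigen {α : MulAut D.T} {k c m : ℕ} (h1 : 1 ≤ k) (hc : D.HasWt α k c) {u : D.T}
    (hu : (u : S) ∈ D.Tf k) (hu' : (u : S) ∉ D.Tf (k + 1))
    (h : ((u : S) ^ m)⁻¹ * ((α u : D.T) : S) ∈ D.Tf (k + 1)) : (c : ZMod p) = m := by
  set q := QuotientGroup.mk' (D.Tf (k + 1))
  have e1 := (QuotientGroup.eq_one_iff _).mpr (hc u hu)
  have e2 := (QuotientGroup.eq_one_iff _).mpr h
  change q _ = 1 at e1
  change q _ = 1 at e2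
  rw [map_mul, map_inv, map_pow, inv_mul_eq_one] at e1 e2
  have ho : orderOf (q (u : S)) = p :=
    orderOf_eq_prime (by rw [← map_pow]; exact (QuotientGroup.eq_one_iff _).mpr (D.pow_mem_next h1 hu))
      (fun h => hu' ((QuotientGroup.eq_one_iff _).mp h))
  have e3 : q (u : S) ^ c = q (u : S) ^ m := e1.trans e2.symm
  rw [pow_eq_pow_iff_modEq, ho] at e3
  exact (ZMod.natCast_eq_natCast_iff _ _ _).mpr e3

/-- Every nontrivial element of `T` is exact at some layer. -/
theorem exists_layer {u : S} (hu : u ∈ D.T) (h : u ≠ 1) :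
    ∃ k, 1 ≤ k ∧ k < D.n ∧ u ∈ D.Tf k ∧ u ∉ D.Tf (k + 1) := by
  classical
  have hex : ∃ j, u ∉ D.Tf j := ⟨D.n, by rwa [D.Tf_bot le_rfl, mem_bot]⟩
  have h1 := Nat.find_spec hex
  have h2 : 2 ≤ Nat.find hex := by
    by_contra hlt
    exact h1 (by rw [D.Tf_of_le (by omega)]; exact hu)
  have h3 : Nat.find hex ≤ D.n := Nat.find_min' hex (by rwa [D.Tf_bot le_rfl, mem_bot])
  refine ⟨Nat.find hex - 1, by omega, by omega, ?_, ?_⟩
  · by_contra hn
    exact Nat.find_min hex (show Nat.find hex - 1 < Nat.find hex by omega) hn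
  · rw [show Nat.find hex - 1 + 1 = Nat.find hex by omega]; exact h1

end Frame

namespace Data

variable {p : ℕ} [hpf : Fact p.Prime] {S : Type*} [Group S] [Finite S] (D : Data p S)

/-- The configuration is impossible. -/
theorem impossible (D : Data p S) : False := by
  classical
  have hp5 := D.hp
  have hn4 := D.toFrame.h4
  have hi2 := D.two_le_i
  have hi3 := D.i_add_three
  have hni := D.n_lt_i_add
  -- a generator
  obtain ⟨g, hg⟩ := IsCyclic.exists_generator (α := (ZMod p)ˣ)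
  set μ : ZMod p := (g : ZMod p) with hμdef
  have hμ : orderOf μ = p - 1 := by
    rw [hμdef, orderOf_units, orderOf_eq_card_of_forall_mem_zpowers hg, Nat.card_eq_fintype_card, ZMod.card_units]
  have hμ0 : μ ≠ 0 := g.ne_zero
  have hμpow : ∀ m : ℕ, μ ^ m = 1 → (p - 1) ∣ m := fun m h => hμ ▸ orderOf_dvd_of_pow_eq_one h
  have hμ1 : μ ≠ 1 := fun h => by rw [h, orderOf_one] at hμ; omega
  obtain ⟨w, hw, hwE, hwq, α, hα, hco, hαE, hdec, v, hv, hwv, hαv, q, hqΩ, hqw, hαq⟩ := D.exists_torus μ hμ0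
  have hwT : w ∈ D.T := D.toFrame.fil_two_le (fil_antitone hi2 hw)
  -- the automorphism normalises
  have htwo : ∀ u : D.T, (u : S) ∈ D.zoneS → α (α u * u⁻¹) = (α u * u⁻¹) ^ μ.val := by
    intro u hu
    have huE := D.zoneS_le hu
    obtain ⟨r, hr, hr1, hr2⟩ := hdec u ⟨huE, hu.2.1, fun f hf => hu.2.2 f (D.hET hf)⟩ (hu.2.2 w hwT).symm
    have hcomm : Commute u r := Subtype.ext ((hr.2.2 (u : S) huE).symm)
    have h1 : α u = u * r⁻¹ * r ^ μ.val := by
      conv_lhs => rw [show u = u * r⁻¹ * r by rw [inv_mul_cancel_right], map_mul, hr2, hr1]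
    have h2 : α u * u⁻¹ = r ^ μ.val * r⁻¹ := by
      rw [h1, mul_assoc u r⁻¹, ← (((Commute.refl r).inv_left.pow_right μ.val)).eq.symm]
      have hc : Commute u (r ^ μ.val * r⁻¹) := (hcomm.pow_right _).mul_right hcomm.inv_right
      rw [hc.eq, mul_inv_cancel_right]
    rw [h2, map_mul, map_inv, map_pow, hr1, ((Commute.refl r).inv_right.pow_left μ.val).mul_pow, inv_pow, ← pow_mul]
  have hns : D.NormS α := D.normS_of_two_eigen hμ hα htwo
  obtain ⟨x, hx⟩ := D.toFrame.exists_not_mem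
  obtain ⟨a, ha⟩ := D.toFrame.exists_xwt hns hx
  obtain ⟨b, hb⟩ := D.toFrame.exists_wt hns le_rfl
  have hW := D.toFrame.wt_formula hns hx ha hb
  set c : ℕ → ZMod p := fun k => (b : ZMod p) * (a : ZMod p) ^ (k - 1) with hc
  have hwt : ∀ (k m : ℕ) (u : D.T), 1 ≤ k → (u : S) ∈ D.toFrame.Tf k → (u : S) ∉ D.toFrame.Tf (k + 1) →
      ((u : S) ^ m)⁻¹ * ((α u : D.T) : S) ∈ D.toFrame.Tf (k + 1) → c k = (m : ZMod p) := by
    intro k m u h1 hu hu' h
    have := D.toFrame.eq_of_eigen h1 (hW k h1) hu hu' h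
    rwa [Nat.cast_mul, Nat.cast_pow] at this
  -- the last two layers
  have hlast : ∀ k, D.n - 2 ≤ k → k < D.n → c k = 1 ∨ c k = μ := by
    intro k hk hkn
    obtain ⟨u, hu, hu'⟩ := D.toFrame.exists_exact (k := k) (by omega) hkn
    set uT : D.T := ⟨u, D.toFrame.Tf_le_T k hu⟩
    have huz : u ∈ D.zoneS := D.fil_last_le_zoneS (fil_antitone hk (D.toFrame.Tf_le_fil hu))
    have h2 := htwo uT huz
    set y := α uT * uT⁻¹ with hy
    have hyk : (y : S) ∈ D.toFrame.Tf k := by
      rw [hy, Subgroup.coe_mul]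
      exact mul_mem (hns.pres k uT hu) (inv_mem hu)
    by_cases hy' : (y : S) ∈ D.toFrame.Tf (k + 1)
    · left
      rw [← Nat.cast_one]
      refine hwt k 1 uT (by omega) hu hu' ?_
      have hcm : ((α uT : D.T) : S) * u⁻¹ = u⁻¹ * ((α uT : D.T) : S) :=
        ((show Commute u ((α uT : D.T) : S) from huz.2.2 _ (α uT).2).inv_left).eq.symm
      rw [pow_one]
      show u⁻¹ * ((α uT : D.T) : S) ∈ _
      rw [← hcm]
      exact hy'
    · right
      rw [← ZMod.natCast_zmod_val μ]
      refine hwt k μ.val y (by omega) hyk hy' ?_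
      rw [h2, Subgroup.coe_pow, inv_mul_cancel]
      exact one_mem _
  have hstep : ∀ k, 1 ≤ k → c (k + 1) = c k * (a : ZMod p) := by
    intro k hk
    simp only [hc]
    rw [mul_assoc, ← pow_succ, show k + 1 - 1 = k - 1 + 1 by omega]
  have hshift : ∀ j k, 1 ≤ k → c (k + j) = c k * (a : ZMod p) ^ j := by
    intro j k hk
    induction j with
    | zero => rw [pow_zero, mul_one, Nat.add_zero]
    | succ j ih => rw [← add_assoc, hstep _ (by omega), ih, pow_succ, mul_assoc]
  have hv1 : v ≠ 1 := fun h => hwv (by rw [h, OneMemClass.coe_one, mul_one, one_mul])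
  -- the ratio is not one
  have ha1 : (a : ZMod p) ≠ 1 := by
    intro h
    obtain ⟨t, ht, hat⟩ := ha
    have hxp : ∃ s ∈ D.T, x ^ a = x * s := by
      refine ⟨x⁻¹ * x ^ a, ?_, by rw [mul_inv_cancel_left]⟩
      have hm : a ≡ 1 [MOD p] := (ZMod.natCast_eq_natCast_iff _ _ _).mp (by rw [h, Nat.cast_one])
      have hxpT : x ^ p ∈ D.T := by
        have h := D.T.pow_index_mem x
        rwa [D.toFrame.T_index] at h
      have ha' : a % p = 1 := Eq.trans (b := 1 % p) hm (Nat.mod_eq_of_lt hpf.out.one_lt)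
      rw [← Nat.div_add_mod a p, ha', pow_add, pow_mul, pow_one]
      have := D.toFrame.T_normal.conj_mem _ (pow_mem hxpT (a / p)) x⁻¹
      simpa [mul_assoc] using this
    obtain ⟨s, hs, hxs⟩ := hxp
    rw [hxs, show x * s * t = x * (s * t) from mul_assoc x s t] at hat
    have h1 := D.toFrame.eq_one_of_centralize D.T_nonabelian hco hx (mul_mem hs ht) hat
    rw [h1] at hαv
    have h2 : v ^ 1 = v ^ (μ⁻¹).val := by rw [pow_one]; exact hαv
    have hvo : orderOf v = p := orderOf_eq_prime (Subtype.ext hv.2.1) hv1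
    rw [pow_eq_pow_iff_modEq, hvo, ← ZMod.natCast_eq_natCast_iff, Nat.cast_one, ZMod.natCast_zmod_val] at h2
    exact hμ1 (inv_eq_one.mp h2.symm)
  -- the layer of `v`
  obtain ⟨k, hk1, hkn, hvk, hvk'⟩ := D.toFrame.exists_layer v.2 (fun h => hv1 (Subtype.ext h))
  have hck : c k = μ⁻¹ := by
    rw [← ZMod.natCast_zmod_val μ⁻¹]
    refine hwt k _ v hk1 hvk hvk' ?_
    rw [hαv, Subgroup.coe_pow, inv_mul_cancel]; exact one_mem _
  -- the layer of `w`
  set wT : D.T := ⟨w, hwT⟩
  have hwi : (wT : S) ∈ D.toFrame.Tf D.i := by rw [D.toFrame.Tf_of_two hi2]; exact hw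
  have hwi' : (wT : S) ∉ D.toFrame.Tf (D.i + 1) := by
    rw [D.toFrame.Tf_of_two (by omega)]; exact fun h => hwE (D.core_le h)
  -- the commutator
  have hq1 : q ≠ 1 := fun h => hwv (by
    rw [h, OneMemClass.coe_one] at hqw
    exact commutatorElement_eq_one_iff_mul_comm.mp hqw.symm)
  have hqk : (q : S) ∈ fil S (D.i + k + 1) := by
    rw [hqw]; exact D.toFrame.comm_Tf D.i k (by omega) hk1 w hwi v hvk
  have hikn : D.i + k + 1 < D.n := by
    by_contra h
    exact hq1 (Subtype.ext (D.toFrame.eq_one_of_fil (by omega) hqk))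
  -- the weight of `w`
  have hci : c D.i = μ ^ 2 := by
    obtain ⟨ci, hci⟩ : ∃ ci : ℕ, ci = b * a ^ (D.i - 1) := ⟨_, rfl⟩
    have hcc : c D.i = (ci : ZMod p) := by rw [hci, Nat.cast_mul, Nat.cast_pow]
    have hyw : ((wT : S) ^ ci)⁻¹ * ((α wT : D.T) : S) ∈ D.toFrame.Tf (D.i + 1) := hci ▸ hW D.i (by omega) wT hwi
    set y := ((wT : S) ^ ci)⁻¹ * ((α wT : D.T) : S) with hy
    have hyE : y ∈ D.E := D.core_le (by rw [← D.toFrame.Tf_of_two (show 2 ≤ D.i + 1 by omega)]; exact hyw)
    set m := (μ⁻¹).val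
    have hcv : Commute (q : S) (v : S) := hqΩ.2.2 _ hv.1
    have hcw : Commute w (q : S) := by
      have := hwq _ hv
      rw [← hqw] at this
      exact this
    have hl : ∀ j : ℕ, ⁅w ^ j, (v : S)⁆ = (q : S) ^ j := fun j => by
      induction j with
      | zero => simp
      | succ j ih =>
        have e : ⁅w ^ (j + 1), (v : S)⁆ = w * ⁅w ^ j, (v : S)⁆ * w⁻¹ * ⁅w, (v : S)⁆ := by
          simp only [commutatorElement_def, pow_succ']; group
        rw [e, ih, ← hqw, (hcw.pow_right j).eq, mul_inv_cancel_right, pow_succ]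
    have hr : ∀ j l : ℕ, ⁅w ^ j, (v : S) ^ l⁆ = (q : S) ^ (j * l) := fun j l => by
      induction l with
      | zero => simp
      | succ l ih =>
        have e : ⁅w ^ j, (v : S) ^ (l + 1)⁆ = ⁅w ^ j, (v : S)⁆ * ((v : S) * ⁅w ^ j, (v : S) ^ l⁆ * (v : S)⁻¹) := by
          simp only [commutatorElement_def, pow_succ']; group
        rw [e, ih, hl, ← (hcv.pow_left (j * l)).eq, mul_inv_cancel_right, ← pow_add, mul_add, mul_one, add_comm]
    have hqT : q = ⁅wT, v⁆ := Subtype.ext hqw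
    have hαw : ((α wT : D.T) : S) = w ^ ci * y := by rw [hy, mul_inv_cancel_left]
    have hyv : Commute y ((v : S) ^ m) := (show Commute (v : S) y from hv.2.2 y hyE).symm.pow_right m
    have heq : (q : S) ^ μ.val = (q : S) ^ (ci * m) := by
      have h1 : ((α q : D.T) : S) = (q : S) ^ μ.val := by rw [hαq, Subgroup.coe_pow]
      rw [← h1, ← hr]
      conv_lhs => rw [hqT, map_commutatorElement, commutatorElement_def]
      simp only [Subgroup.coe_mul, Subgroup.coe_inv]
      rw [hαw, hαv, Subgroup.coe_pow, commutatorElement_def]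
      calc w ^ ci * y * (v : S) ^ m * (w ^ ci * y)⁻¹ * ((v : S) ^ m)⁻¹
          = w ^ ci * (y * (v : S) ^ m) * y⁻¹ * (w ^ ci)⁻¹ * ((v : S) ^ m)⁻¹ := by group
        _ = w ^ ci * (v : S) ^ m * (w ^ ci)⁻¹ * ((v : S) ^ m)⁻¹ := by rw [hyv.eq]; group
    have hqo : orderOf (q : S) = p := orderOf_eq_prime hqΩ.2.1 fun h => hq1 (Subtype.ext h)
    rw [pow_eq_pow_iff_modEq, hqo, ← ZMod.natCast_eq_natCast_iff, Nat.cast_mul, ZMod.natCast_zmod_val,
      ZMod.natCast_zmod_val, ← hcc] at heq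
    calc c D.i = c D.i * μ⁻¹ * μ := by rw [inv_mul_cancel_right₀ hμ0]
      _ = μ ^ 2 := by rw [← heq, pow_two]
  -- the two cases
  have h2 := hlast (D.n - 2) le_rfl (by omega)
  have h1 := hlast (D.n - 1) (by omega) (by omega)
  have hs2 : c (D.n - 1) = c (D.n - 2) * (a : ZMod p) := by
    have := hstep (D.n - 2) (by omega)
    rwa [show D.n - 2 + 1 = D.n - 1 by omega] at this
  rcases h2 with h2 | h2
  · -- ratio `μ`
    have haμ : (a : ZMod p) = μ := by
      rw [h2, one_mul] at hs2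
      rw [← hs2]
      exact h1.resolve_left fun h => ha1 (by rw [← hs2]; exact h)
    have hni' : μ ^ (D.n - D.i) = 1 := by
      have h := hshift (D.n - 2 - D.i) D.i (by omega)
      rw [show D.i + (D.n - 2 - D.i) = D.n - 2 by omega, h2, hci, haμ, ← pow_add,
        show 2 + (D.n - 2 - D.i) = D.n - D.i by omega] at h
      exact h.symm
    have heqp : D.n - D.i = p - 1 := by
      have h1' := Nat.le_of_dvd (by omega) (hμpow _ hni')
      omega
    have hn1 : D.n = p + 1 := by
      rcases Nat.lt_or_ge D.n (p + 2) with h | h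
      · omega
      · have := D.window h; omega
    have hk' : μ ^ (D.n - 3 - k) = 1 := by
      have h := hshift (D.n - 2 - k) k hk1
      rw [show k + (D.n - 2 - k) = D.n - 2 by omega, h2, hck, haμ, show D.n - 2 - k = (D.n - 3 - k) + 1 by omega,
        pow_succ', ← mul_assoc, inv_mul_cancel₀ hμ0, one_mul] at h
      exact h.symm
    have := Nat.le_of_dvd (by omega) (hμpow _ hk')
    omega
  · -- ratio `μ⁻¹`
    have hc1 : c (D.n - 1) = 1 := h1.resolve_right fun h => ha1 (by
      rw [h, h2] at hs2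
      exact (mul_eq_left₀ hμ0).mp hs2.symm)
    have haμ : μ * (a : ZMod p) = 1 := by rw [← h2, ← hs2, hc1]
    have hi' : μ ^ (D.n - 3 - D.i) = 1 := by
      have h := hshift (D.n - 1 - D.i) D.i (by omega)
      rw [show D.i + (D.n - 1 - D.i) = D.n - 1 by omega, hc1, hci] at h
      have h' : μ ^ (D.n - 1 - D.i) = μ ^ 2 := by
        calc μ ^ (D.n - 1 - D.i) = μ ^ (D.n - 1 - D.i) * (μ ^ 2 * (a : ZMod p) ^ (D.n - 1 - D.i)) := by rw [← h, mul_one]
          _ = μ ^ 2 * (μ * (a : ZMod p)) ^ (D.n - 1 - D.i) := by rw [mul_pow]; ring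
          _ = μ ^ 2 := by rw [haμ, one_pow, mul_one]
      rw [show D.n - 1 - D.i = D.n - 3 - D.i + 2 by omega, pow_add] at h'
      exact (mul_eq_right₀ (pow_ne_zero 2 hμ0)).mp h'
    have hie : D.i + 3 = D.n := by
      by_contra h
      have := Nat.le_of_dvd (by omega) (hμpow _ hi')
      omega
    have hqn : (q : S) ∈ D.toFrame.Tf (D.n - 1) := by
      rw [D.toFrame.Tf_of_two (by omega)]; exact fil_antitone (by omega) hqk
    have hqn' : (q : S) ∉ D.toFrame.Tf (D.n - 1 + 1) := by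
      rw [D.toFrame.Tf_bot (by omega), mem_bot]; exact fun h => hq1 (Subtype.ext h)
    have := hwt (D.n - 1) μ.val q (by omega) hqn hqn' (by rw [hαq, Subgroup.coe_pow, inv_mul_cancel]; exact one_mem _)
    rw [hc1, ZMod.natCast_zmod_val] at this
    exact hμ1 this.symm

end Data

end CfsgLib.MaxClassResidual
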