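import Cfsg.Agent.Lib.MaxClassResidual.Frame

/-!
Elements of order `p` of the two-step centralizer lie in the last `p - 1` layers.
-/

set_option autoImplicit false
set_option linter.unusedSectionVars false
set_option linter.style.haveILetI false

namespace CfsgLib.MaxClassResidual

open scoped commutatorElement
open Subgroup
open CfsgLib.PolySeq (fil fil_antitone fil_commutator_mem)
open CfsgLib.MaxClassGood (twoStep mem_twoStep)

namespace Frame

variable {p : ℕ} [hp : Fact p.Prime] {S : Type*} [Group S] [Finite S] (D : Frame p S)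

/-- The quotient by a term of the series. -/
def quot {m : ℕ} (h4 : 4 ≤ m) (hm : m ≤ D.n) : Frame p (S ⧸ fil S m) where
  n := m
  h4 := h4
  hG := (CfsgLib.MaxClassGood.quot_data D.hn3 D.hG D.hc (by omega) hm).1
  hc := (CfsgLib.MaxClassGood.quot_data D.hn3 D.hG D.hc (by omega) hm).2
  hdeg := fun k h2 hk => by
    apply Subgroup.comap_injective (QuotientGroup.mk'_surjective (fil S m))
    rw [← CfsgLib.MaxClassGood.twoStep_quot hk, ← CfsgLib.MaxClassGood.twoStep_quot (k := 2) (by omega),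
      D.hdeg k h2 (by omega)]

theorem mem_quot_T {m : ℕ} (h4 : 4 ≤ m) (hm : m ≤ D.n) (g : S) :
    (QuotientGroup.mk' (fil S m) g) ∈ (D.quot h4 hm).T ↔ g ∈ D.T := by
  show _ ∈ twoStep (S ⧸ fil S m) 2 ↔ g ∈ twoStep S 2
  rw [CfsgLib.MaxClassGood.twoStep_quot (S := S) (m := m) (k := 2) (by omega), mem_comap]

theorem pow_good {g : S} (hg : g ∉ D.T) : g ^ p ∈ fil S (D.n - 1) := by
  have hn := D.h4
  set C := fil S 2 ⊓ centralizer ({g} : Set S) with hC
  have hle : fil S (D.n - 1) ≤ C := fun w hw => by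
    refine ⟨fil_antitone (by omega) hw, mem_centralizer_singleton_iff.mpr ?_⟩
    have h := fil_commutator_mem hw (show g ∈ fil S 1 from mem_top _)
    exact commutatorElement_eq_one_iff_mul_comm.mp (D.eq_one_of_fil (by omega) h)
  have heq := eq_of_le_of_card_ge hle (by
    rw [D.card_fil (by omega) (by omega), show D.n - (D.n - 1) = 1 by omega, pow_one]
    exact CfsgLib.MaxClassRank.card_inf_le D.hn3 D.hG D.hc (D.good hg))
  refine heq.ge ⟨?_, mem_centralizer_singleton_iff.mpr (Commute.pow_self g p).eq⟩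
  show g ^ p ∈ fil S 2
  rw [show fil S 2 = _root_.commutator S from Subgroup.top_lowerCentralSeries_one]
  exact CfsgLib.MaximalClass.pow_mem_commutator D.hn3 D.hG D.hc g

include D in
theorem fil_two_pow {j : ℕ} (h2 : 2 ≤ j) {z : S} (hz : z ∈ fil S j) : z ^ p ∈ fil S (j + (p - 1)) :=
  (CfsgLib.MaxClassGood.pow_shift D.hn3 D.hG D.hc h2 hz).1

/-- In order `p ^ (p + 1)` the elements of `T` outside `fil 2` have order greater than `p`. -/
theorem pow_ne_one_of_card (hn : D.n = p + 1) (hp2 : p ≠ 2) (hout : ∀ g, g ∉ D.T → g ^ p = 1) {t : S}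
    (ht : t ∈ D.T) (ht2 : t ∉ fil S 2) : t ^ p ≠ 1 := by
  have hp3 : 3 ≤ p := by have := hp.out.two_le; omega
  intro htp
  have hbot : (⊤ : Subgroup D.T).lowerCentralSeries (p - 1) = ⊥ := by
    rw [← map_eq_bot_iff_of_injective _ D.T.subtype_injective, eq_bot_iff]
    refine (D.lcs_T (p - 1) (by omega)).trans ?_
    rw [D.fil_bot (by omega)]
  have hT : ∀ v ∈ D.T, v ^ p = 1 := by
    intro v hv
    obtain ⟨i, hi⟩ := D.layer_pow (k := 1) le_rfl (by omega) (u := t) (by rwa [D.Tf_of_le le_rfl])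
      (by rw [D.Tf_of_two le_rfl]; exact ht2) (v := v) (by rwa [D.Tf_of_le le_rfl])
    rw [D.Tf_of_two le_rfl] at hi
    obtain ⟨c, hc, he⟩ := CfsgLib.PolySeq.mul_pow_prime hbot (⟨t ^ i, pow_mem ht i⟩ : D.T)
      ⟨(t ^ i)⁻¹ * v, D.fil_two_le hi⟩
    have hz : ((t ^ i)⁻¹ * v) ^ p = 1 := D.eq_one_of_fil (by omega) (D.fil_two_pow le_rfl hi)
    have hc1 : c = 1 := by
      have hle : closure {y : D.T | ∃ w ∈ _root_.commutator D.T, y = w ^ p} ≤ ⊥ := by
        rw [closure_le]
        rintro _ ⟨w, hw, rfl⟩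
        rw [SetLike.mem_coe, mem_bot]
        refine Subtype.ext (D.eq_one_of_fil (j := 3 + (p - 1)) (by omega) (D.fil_two_pow (by omega) ?_))
        refine D.lcs_T 1 le_rfl ⟨w, ?_, rfl⟩
        rwa [Subgroup.top_lowerCentralSeries_one]
      exact mem_bot.mp (hle hc)
    have h := congrArg Subtype.val he
    rw [hc1, mul_one] at h
    simp only [Subgroup.coe_mul, SubmonoidClass.coe_pow] at h
    rw [mul_inv_cancel_left, hz, mul_one, ← pow_mul, mul_comm, pow_mul, htp, one_pow] at h
    exact h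
  obtain ⟨s, hs⟩ := CfsgLib.MaxClassGood.exists_pow_ne_one D.hn3 D.hG D.hc hn
  by_cases hsT : s ∈ D.T
  · exact hs (hT s hsT)
  · exact hs (hout s hsT)

/-- Elements of order `p` of `T` lie in the last `p - 1` layers. -/
theorem order_p_window (hp2 : p ≠ 2) (hn : p + 2 ≤ D.n) {t : S} (ht : t ∈ D.T) (h1 : t ^ p = 1) :
    t ∈ fil S (D.n - p + 1) := by
  have hp3 : 3 ≤ p := by have := hp.out.two_le; omega
  have ht2 : t ∈ fil S 2 := by
    by_contra h
    set q := QuotientGroup.mk' (fil S (p + 1))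
    have hm : 4 ≤ p + 1 := by omega
    refine (D.quot hm (by omega)).pow_ne_one_of_card rfl hp2 ?_ (t := q t) ((D.mem_quot_T hm (by omega) t).mpr ht)
      ?_ (by rw [← map_pow, h1, map_one])
    · intro g hg
      obtain ⟨g, rfl⟩ := QuotientGroup.mk'_surjective (fil S (p + 1)) g
      rw [D.mem_quot_T hm (by omega)] at hg
      rw [← map_pow]
      exact (QuotientGroup.eq_one_iff _).mpr (fil_antitone (by omega) (D.pow_good hg))
    · exact fun h2 => h ((CfsgLib.MaxClassGood.mem_fil_quot (by omega) t).mp h2)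
  have key : ∀ j, 2 ≤ j → j ≤ D.n - p + 1 → t ∈ fil S j := by
    intro j hj
    induction j, hj using Nat.le_induction with
    | base => exact fun _ => ht2
    | succ j hj ih =>
      intro hj'
      by_contra hne
      exact ((CfsgLib.MaxClassGood.pow_shift D.hn3 D.hG D.hc hj (ih (by omega))).2 (by omega) hne)
        (h1 ▸ one_mem _)
  exact key _ (by omega) le_rfl

end Frame

end CfsgLib.MaxClassResidual
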