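import Cfsg.Agent.Lib.MaxClassResidual.ExcData
import Cfsg.Agent.Lib.MaxClassResidual.Window
import Cfsg.Agent.Lib.MaxClassResidual.Finish

/-!
When the last two-step centralizer differs, commutation pairs the layer `k` of the first with the layer
`n - 1 - k` onto the last layer, which is the centre of the first.
-/

set_option autoImplicit false
set_option linter.unusedSectionVars false
set_option linter.style.haveILetI false

namespace CfsgLib.MaxClassResidual

open scoped commutatorElement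
open Subgroup
open CfsgLib.PolySeq (fil fil_antitone fil_commutator_mem)
open CfsgLib.MaxClassGood (twoStep mem_twoStep)

namespace LastData

variable {p n : ℕ} [hp : Fact p.Prime] {S : Type*} [Group S] [Finite S] (D : LastData p n S)

/-- The layers of the first two-step centralizer. -/
def TL (_D : LastData p n S) (k : ℕ) : Subgroup S := if k ≤ 1 then twoStep S 2 else fil S k

instance TL_normal (k : ℕ) : (D.TL k).Normal := by
  unfold TL; split_ifs <;> infer_instance

include D

theorem TL_of_le {k : ℕ} (h : k ≤ 1) : D.TL k = twoStep S 2 := if_pos h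

theorem TL_of_two {k : ℕ} (h : 2 ≤ k) : D.TL k = fil S k := if_neg (by omega)

theorem TL_le_T (k : ℕ) : D.TL k ≤ twoStep S 2 := by
  rcases le_or_gt k 1 with h | h
  · rw [D.TL_of_le h]
  · rw [D.TL_of_two h]; exact (fil_antitone h).trans (CfsgLib.MaxClassGood.fil_le_twoStep 2)

theorem TL_anti {i j : ℕ} (h : i ≤ j) : D.TL j ≤ D.TL i := by
  rcases le_or_gt i 1 with hi | hi
  · rw [D.TL_of_le hi]; exact D.TL_le_T j
  · rw [D.TL_of_two hi, D.TL_of_two (by omega)]; exact fil_antitone h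

theorem TL_le_fil {k : ℕ} : D.TL k ≤ fil S k := by
  rcases le_or_gt k 1 with h | h
  · intro g _
    have : fil S k = ⊤ := by unfold fil; rw [show k - 1 = 0 by omega]; rfl
    rw [this]; exact mem_top g
  · rw [D.TL_of_two h]

theorem comm_one {j k : ℕ} (h : n ≤ j + k) {u v : S} (hu : u ∈ D.TL j) (hv : v ∈ D.TL k) : u * v = v * u := by
  have h1 := fil_antitone h (fil_commutator_mem (D.TL_le_fil hu) (D.TL_le_fil hv))
  rw [CfsgLib.MaxClassRank.fil_eq_bot D.hn D.hG D.hc le_rfl, mem_bot] at h1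
  exact commutatorElement_eq_one_iff_mul_comm.mp h1

theorem central_last {u : S} (hu : u ∈ fil S (n - 1)) (g : S) : u * g = g * u := by
  have h := fil_antitone (show n ≤ n - 1 + 1 by omega) (fil_commutator_mem (j := 1) hu (mem_top g))
  rw [CfsgLib.MaxClassRank.fil_eq_bot D.hn D.hG D.hc le_rfl, mem_bot] at h
  exact commutatorElement_eq_one_iff_mul_comm.mp h

theorem card_last : Nat.card (fil S (n - 1)) = p := by
  have := D.h6
  rw [CfsgLib.MaxClassRank.card_fil D.hn D.hG D.hc (by omega) (by omega), show n - (n - 1) = 1 by omega, pow_one]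

theorem pow_last_one {u : S} (hu : u ∈ fil S (n - 1)) : u ^ p = 1 := by
  have h : (⟨u, hu⟩ : fil S (n - 1)) ^ Nat.card (fil S (n - 1)) = 1 := pow_card_eq_one'
  rw [D.card_last] at h
  exact congrArg Subtype.val h

/-- The quotient by the last layer. -/
def frameQ : Frame p (S ⧸ fil S (n - 1)) where
  n := n - 1
  h4 := by have := D.h6; omega
  hG := (CfsgLib.MaxClassGood.quot_data D.hn D.hG D.hc (by have := D.h6; omega) (by omega)).1
  hc := (CfsgLib.MaxClassGood.quot_data D.hn D.hG D.hc (by have := D.h6; omega) (by omega)).2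
  hdeg := fun k h2 hk => by
    have := D.h6
    apply Subgroup.comap_injective (QuotientGroup.mk'_surjective (fil S (n - 1)))
    rw [← CfsgLib.MaxClassGood.twoStep_quot hk, ← CfsgLib.MaxClassGood.twoStep_quot (k := 2) (by omega),
      D.low_eq h2 (by omega)]

theorem mem_frameQ_T (g : S) : (QuotientGroup.mk' (fil S (n - 1)) g) ∈ D.frameQ.T ↔ g ∈ twoStep S 2 := by
  show _ ∈ twoStep (S ⧸ fil S (n - 1)) 2 ↔ _
  rw [CfsgLib.MaxClassGood.twoStep_quot (S := S) (m := n - 1) (k := 2) (by have := D.h6; omega), mem_comap]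

theorem mem_frameQ_Tf {k : ℕ} (hk : k + 1 ≤ n) (g : S) :
    (QuotientGroup.mk' (fil S (n - 1)) g) ∈ D.frameQ.Tf k ↔ g ∈ D.TL k := by
  rcases le_or_gt k 1 with h | h
  · rw [D.frameQ.Tf_of_le h, D.TL_of_le h, D.mem_frameQ_T]
  · rw [D.frameQ.Tf_of_two h, D.TL_of_two h, CfsgLib.MaxClassGood.mem_fil_quot (by omega)]

theorem mk_mem_frameQ_Tf {k : ℕ} {g : S} (hg : g ∈ D.TL k) :
    (QuotientGroup.mk' (fil S (n - 1)) g) ∈ D.frameQ.Tf k := by
  rcases le_or_gt k 1 with h | h
  · rw [D.frameQ.Tf_of_le h, D.mem_frameQ_T]; rwa [D.TL_of_le h] at hg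
  · rw [D.frameQ.Tf_of_two h, ← CfsgLib.MaxClassGood.fil_map]
    exact mem_map_of_mem _ (D.TL_le_fil hg)

/-- Positive degree modulo the last layer. -/
theorem comm_mem {j k l : ℕ} (hj : 1 ≤ j) (hk : 1 ≤ k) (hl : l ≤ j + k + 1) (hln : l + 1 ≤ n) {u v : S}
    (hu : u ∈ D.TL j) (hv : v ∈ D.TL k) : ⁅u, v⁆ ∈ fil S l := by
  have h := D.frameQ.comm_Tf j k hj hk _ (D.mk_mem_frameQ_Tf hu) _ (D.mk_mem_frameQ_Tf hv)
  rw [← map_commutatorElement] at h
  exact (CfsgLib.MaxClassGood.mem_fil_quot (by omega) _).mp (fil_antitone hl h)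

/-- An element outside the first two-step centralizer moves each layer exactly one step. -/
theorem comm_step {g : S} (hg : g ∉ twoStep S 2) {k : ℕ} (h1 : 1 ≤ k) (hk : k + 3 ≤ n) {u : S}
    (hu : u ∈ D.TL k) (hu' : u ∉ D.TL (k + 1)) :
    ⁅g, u⁆ ∈ D.TL (k + 1) ∧ ⁅g, u⁆ ∉ D.TL (k + 2) := by
  have h := D.frameQ.comm_exact (g := QuotientGroup.mk' (fil S (n - 1)) g) (fun h => hg ((D.mem_frameQ_T g).mp h))
    (k := k) h1 (show k + 1 < n - 1 by omega) (D.mk_mem_frameQ_Tf hu)
    (fun h => hu' ((D.mem_frameQ_Tf (by omega) u).mp h))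
  rw [← map_commutatorElement, CfsgLib.MaxClassGood.mem_fil_quot (by omega)] at h
  rw [D.TL_of_two (by omega), D.TL_of_two (by omega), ← commutatorElement_inv, inv_mem_iff, inv_mem_iff]
  exact ⟨fil_commutator_mem (j := 1) (D.TL_le_fil hu) (mem_top g), h⟩

theorem layer_pow {k : ℕ} (h1 : 1 ≤ k) (hk : k + 2 ≤ n) {u : S} (hu : u ∈ D.TL k) (hu' : u ∉ D.TL (k + 1))
    {v : S} (hv : v ∈ D.TL k) : ∃ i : ℕ, (u ^ i)⁻¹ * v ∈ D.TL (k + 1) := by
  obtain ⟨i, hi⟩ := D.frameQ.layer_pow h1 (show k < n - 1 by omega) (D.mk_mem_frameQ_Tf hu)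
    (fun h => hu' ((D.mem_frameQ_Tf (by omega) u).mp h)) (D.mk_mem_frameQ_Tf hv)
  rw [← map_pow, ← map_inv, ← map_mul, D.mem_frameQ_Tf (by omega)] at hi
  exact ⟨i, hi⟩

theorem exists_exact {k : ℕ} (h1 : 1 ≤ k) (hk : k + 2 ≤ n) : ∃ u ∈ D.TL k, u ∉ D.TL (k + 1) := by
  obtain ⟨ub, hu, hu'⟩ := D.frameQ.exists_exact h1 (show k < n - 1 by omega)
  obtain ⟨u, rfl⟩ := QuotientGroup.mk'_surjective (fil S (n - 1)) ub
  exact ⟨u, (D.mem_frameQ_Tf (by omega) u).mp hu, fun h => hu' (D.mk_mem_frameQ_Tf h)⟩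

theorem exists_layer {u : S} (hu : u ∈ twoStep S 2) (hu' : u ∉ fil S (n - 1)) :
    ∃ k, 1 ≤ k ∧ k + 2 ≤ n ∧ u ∈ D.TL k ∧ u ∉ D.TL (k + 1) := by
  obtain ⟨k, h1, hk, hk1, hk2⟩ := D.frameQ.exists_layer ((D.mem_frameQ_T u).mpr hu)
    (fun h => hu' ((QuotientGroup.eq_one_iff u).mp h))
  change k < n - 1 at hk
  exact ⟨k, h1, by omega, (D.mem_frameQ_Tf (by omega) u).mp hk1, fun h => hk2 (D.mk_mem_frameQ_Tf h)⟩

/-- Every element exact at layer `k` fails to commute with some element of layer `n - 1 - k`. -/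
theorem partner : ∀ k, 1 ≤ k → k + 2 ≤ n → ∀ u ∈ D.TL k, u ∉ D.TL (k + 1) →
    ∃ v ∈ D.TL (n - 1 - k), u * v ≠ v * u := by
  have h6 := D.h6
  intro k h1
  induction k, h1 using Nat.le_induction with
  | base =>
    intro _ u hu hu'
    rw [D.TL_of_le le_rfl] at hu
    rw [D.TL_of_two le_rfl] at hu'
    have hu2 : u ∉ twoStep S (n - 2) := fun h => hu' (D.inf_eq.le (mem_inf.mpr ⟨h, hu⟩))
    obtain ⟨z, hz, hz'⟩ := CfsgLib.MaxClassGood.exists_gen D.hn D.hG D.hc (j := n - 2) (by omega) (by omega)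
    refine ⟨z, by rw [D.TL_of_two (by omega)]; exact fil_antitone (by omega) hz, fun h => ?_⟩
    exact D.comm_ne_one (k := n - 2) (by omega) (by omega) hz hz' hu2
      (commutatorElement_eq_one_iff_mul_comm.mpr h.symm)
  | succ k h1 ih =>
    intro hk u' hu1 hu1'
    by_contra hall
    push Not at hall
    have hnot : ¬ twoStep S (n - 2) ≤ twoStep S 2 := fun h => by
      have h1 := D.inf_eq
      rw [inf_eq_left.mpr h] at h1
      have := D.index_last
      rw [h1, CfsgLib.MaxClassDegree.fil_two_index D.hn D.hG D.hc, pow_two] at this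
      exact hp.out.one_lt.ne' (Nat.eq_of_mul_eq_mul_left hp.out.pos (this.trans (mul_one p).symm))
    obtain ⟨e, he2, he1⟩ := SetLike.not_le_iff_exists.mp hnot
    obtain ⟨u, hu, hu'⟩ := D.exists_exact h1 (by omega)
    obtain ⟨v0, hv0, hv0'⟩ := D.exists_exact (k := n - 2 - k) (by omega) (by omega)
    obtain ⟨ha, ha'⟩ := D.comm_step he1 h1 (by omega) hu hu'
    obtain ⟨hb0, hb0'⟩ := D.comm_step he1 (k := n - 2 - k) (by omega) (by omega) hv0 hv0'
    set a := ⁅e, u⁆ with hadef
    -- the moved element centralizes the lower partner layer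
    have hav : ∀ v ∈ D.TL (n - 2 - k), a * v = v * a := by
      intro v hv
      obtain ⟨i, hi⟩ := D.layer_pow (by omega) (by omega) hu1 hu1' ha
      have h2 : Commute u' v := hall v (by rwa [show n - 1 - (k + 1) = n - 2 - k by omega])
      have h3 : Commute ((u' ^ i)⁻¹ * a) v := D.comm_one (by omega) hi hv
      have := (h2.pow_left i).mul_left h3
      rwa [mul_inv_cancel_left] at this
    have hkey : ∀ v ∈ D.TL (n - 2 - k), u * ⁅e, v⁆ = ⁅e, v⁆ * u := by
      intro v hv
      set b := ⁅e, v⁆ with hbdef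
      have hb : b ∈ D.TL (n - 1 - k) := by
        rw [D.TL_of_two (by omega)]
        have h := fil_commutator_mem (i := 1) (j := n - 2 - k) (mem_top e) (D.TL_le_fil hv)
        rwa [show 1 + (n - 2 - k) = n - 1 - k by omega] at h
      have hc : ⁅u, v⁆ ∈ fil S (n - 2) := D.comm_mem h1 (by omega) (by omega) (by omega) hu hv
      set c := ⁅u, v⁆ with hcdef
      have hce : Commute e c := (D.last_comm hc he2).symm
      have hac : Commute a c := (D.last_comm hc (CfsgLib.MaxClassGood.fil_le_twoStep _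
        (by rw [D.TL_of_two (by omega)] at ha; exact fil_antitone (by omega) ha))).symm
      have hbc : Commute b c := (D.last_comm hc (CfsgLib.MaxClassGood.fil_le_twoStep _
        (by rw [D.TL_of_two (by omega)] at hb; exact fil_antitone (by omega) hb))).symm
      have hab : Commute a b := D.comm_one (by omega) ha hb
      have hd : ⁅u, b⁆ ∈ fil S (n - 1) := D.comm_mem h1 (by omega) (by omega) (by omega) hu hb
      have had : Commute a ⁅u, b⁆ := (D.central_last hd a).symm
      have habv : Commute a (b * v) := hab.mul_right (hav v hv)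
      have e1 : c = ⁅a * u, b * v⁆ := by
        calc c = e * c * e⁻¹ := by rw [hce.eq, mul_inv_cancel_right]
          _ = ⁅a * u, b * v⁆ := by
            simp only [hcdef, hadef, hbdef, commutatorElement_def]; group
      have e2 : ⁅a * u, b * v⁆ = a * ⁅u, b * v⁆ * a⁻¹ * ⁅a, b * v⁆ := by
        simp only [commutatorElement_def]; group
      have e3 : ⁅u, b * v⁆ = ⁅u, b⁆ * (b * c * b⁻¹) := by
        simp only [hcdef, commutatorElement_def]; group
      rw [e2, e3, commutatorElement_eq_one_iff_mul_comm.mpr habv.eq, mul_one, hbc.eq, mul_inv_cancel_right,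
        (had.mul_right hac).eq, mul_inv_cancel_right] at e1
      exact commutatorElement_eq_one_iff_mul_comm.mp (mul_eq_right.mp e1.symm)
    obtain ⟨v, hv, huv⟩ := ih (by omega) u hu hu'
    rw [show n - 2 - k + 1 = n - 1 - k by omega] at hb0
    rw [show n - 2 - k + 2 = n - 1 - k + 1 by omega] at hb0'
    obtain ⟨i, hi⟩ := D.layer_pow (by omega) (by omega) hb0 hb0' hv
    have h4 : Commute u ⁅e, v0⁆ := hkey v0 hv0
    have h5 : Commute u ((⁅e, v0⁆ ^ i)⁻¹ * v) := D.comm_one (by omega) hu hi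
    have := (h4.pow_right i).mul_right h5
    rw [mul_inv_cancel_left] at this
    exact huv this

/-- The last layer is the centre of the first two-step centralizer. -/
theorem center_T {v : S} (hv : v ∈ twoStep S 2) (hc : ∀ t ∈ twoStep S 2, v * t = t * v) : v ∈ fil S (n - 1) := by
  by_contra h
  obtain ⟨k, h1, hk, hvk, hvk'⟩ := D.exists_layer hv h
  obtain ⟨t, ht, hne⟩ := D.partner k h1 hk v hvk hvk'
  exact hne (hc t (D.TL_le_T _ ht))

theorem last_invariant (α : MulAut (twoStep S 2)) {u : twoStep S 2} (hu : (u : S) ∈ fil S (n - 1)) :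
    ((α u : twoStep S 2) : S) ∈ fil S (n - 1) := by
  refine D.center_T (α u).2 fun t ht => ?_
  have h : u * α⁻¹ ⟨t, ht⟩ = α⁻¹ ⟨t, ht⟩ * u := Subtype.ext (D.central_last hu _)
  have := congrArg α h
  rw [map_mul, map_mul, MulAut.apply_inv_self] at this
  exact congrArg Subtype.val this

end LastData

end CfsgLib.MaxClassResidual
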