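import Cfsg.Agent.Lib.MaxClassDegree.Weights
import Cfsg.Agent.Lib.MaxClassFusion.Main

/-!
Groups of maximal class whose last two-step centralizer differs from the first: subgroups of the last
one, and automorphisms inverting the two generators.
-/

set_option autoImplicit false
set_option linter.unusedSectionVars false
set_option linter.style.haveILetI false

namespace CfsgLib.MaxClassResidual

open scoped commutatorElement
open Subgroup
open CfsgLib.PolySeq (fil fil_antitone fil_commutator_mem)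
open CfsgLib.MaxClassGood (twoStep mem_twoStep)

/-- A group of maximal class whose last two-step centralizer differs from the first. -/
structure LastData (p n : ℕ) (S : Type*) [Group S] : Prop where
  h6 : 6 ≤ n
  hG : Nat.card S = p ^ n
  hc : Group.nilpotencyClass S = n - 1
  hne : twoStep S (n - 2) ≠ twoStep S 2

namespace LastData

variable {p n : ℕ} [hp : Fact p.Prime] {S : Type*} [Group S] [Finite S] (D : LastData p n S)

include D

theorem hn : 3 ≤ n := le_trans (by norm_num) D.h6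

theorem even : Even n := CfsgLib.MaxClassDegree.even_of_last_ne D.hn D.hG D.hc (by have := D.h6; omega) D.hne

theorem odd_prime : 3 ≤ p :=
  CfsgLib.MaxClassFusion.three_le_of_ne D.hn D.hG D.hc (by have := D.h6; omega) D.hne

theorem index_one : (twoStep S 2).index = p :=
  CfsgLib.MaxClassGood.twoStep_index D.hn D.hG D.hc le_rfl (by have := D.h6; omega)

theorem index_last : (twoStep S (n - 2)).index = p :=
  CfsgLib.MaxClassGood.twoStep_index D.hn D.hG D.hc (by have := D.h6; omega) (by have := D.h6; omega)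

theorem low_eq {k : ℕ} (h2 : 2 ≤ k) (hk : k + 3 ≤ n) : twoStep S k = twoStep S 2 :=
  CfsgLib.MaxClassDegree.twoStep_eq D.hn D.hG D.hc h2 hk

theorem inf_eq : twoStep S (n - 2) ⊓ twoStep S 2 = fil S 2 := by
  have hpp : p.Prime := hp.out
  have h6 := D.h6
  refine (eq_of_le_of_card_ge (le_inf (CfsgLib.MaxClassGood.fil_le_twoStep _)
    (CfsgLib.MaxClassGood.fil_le_twoStep _)) ?_).symm
  have hi := CfsgLib.MaxClassDegree.fil_two_index D.hn D.hG D.hc
  have hlt : twoStep S (n - 2) ⊓ twoStep S 2 < twoStep S 2 := by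
    refine lt_of_le_of_ne inf_le_right fun e => D.hne (eq_of_le_of_card_ge (inf_eq_right.mp e) ?_).symm
    have h1 := (twoStep S 2).card_mul_index
    have h2 := (twoStep S (n - 2)).card_mul_index
    rw [D.index_one] at h1
    rw [D.index_last, ← h1] at h2
    exact (Nat.eq_of_mul_eq_mul_right hpp.pos h2).le
  obtain ⟨j, -, hj⟩ := (Nat.dvd_prime_pow hpp).mp (D.hG ▸ (twoStep S (n - 2) ⊓ twoStep S 2).index_dvd_card)
  have h2 := index_strictAnti hlt
  rw [D.index_one, hj] at h2
  nth_rw 1 [← pow_one p] at h2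
  rw [Nat.pow_lt_pow_iff_right hpp.one_lt] at h2
  have h3 := (twoStep S (n - 2) ⊓ twoStep S 2).card_mul_index
  have h4 := (fil S 2).card_mul_index
  rw [hj] at h3
  rw [hi] at h4
  refine Nat.le_of_mul_le_mul_right ?_ (pow_pos hpp.pos 2)
  calc Nat.card ↥(twoStep S (n - 2) ⊓ twoStep S 2) * p ^ 2
      ≤ Nat.card ↥(twoStep S (n - 2) ⊓ twoStep S 2) * p ^ j := Nat.mul_le_mul_left _ (Nat.pow_le_pow_right hpp.pos h2)
    _ = Nat.card (fil S 2) * p ^ 2 := by rw [h3, h4]

theorem not_mem_one {y : S} (hy : y ∈ twoStep S (n - 2)) (hy' : y ∉ fil S 2) : y ∉ twoStep S 2 :=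
  fun h => hy' (D.inf_eq.le ⟨hy, h⟩)

theorem comm_not_mem {k : ℕ} (h2 : 2 ≤ k) (hk : k + 2 ≤ n) {z g : S} (hz : z ∈ fil S k) (hz' : z ∉ fil S (k + 1))
    (hg : g ∉ twoStep S k) : ⁅z, g⁆ ∉ fil S (k + 2) := by
  obtain ⟨C⟩ := CfsgLib.MaxClassDegree.exists_coords D.hn D.hG D.hc
  intro h
  have h1 := C.comm k h2 z hz g
  rw [C.zero (by omega) h] at h1
  rcases mul_eq_zero.mp h1.symm with e | e
  · exact hg ((C.beta_eq_zero_iff D.hn D.hG D.hc h2 (by omega) g).mp e)
  · exact hz' ((C.ker k h2 z hz).mp e)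

/-- Commutation by an element outside the first two-step centralizer moves a layer onto the next. -/
theorem comm_exact {k : ℕ} (h2 : 2 ≤ k) (hk : k + 3 ≤ n) {z g : S} (hz : z ∈ fil S k) (hz' : z ∉ fil S (k + 1))
    (hg : g ∉ twoStep S 2) : ⁅z, g⁆ ∈ fil S (k + 1) ∧ ⁅z, g⁆ ∉ fil S (k + 2) :=
  ⟨fil_commutator_mem hz (mem_top g), D.comm_not_mem h2 (by omega) hz hz' (by rwa [D.low_eq h2 hk])⟩

theorem comm_ne_one {k : ℕ} (h2 : 2 ≤ k) (hk : k + 2 ≤ n) {z g : S} (hz : z ∈ fil S k) (hz' : z ∉ fil S (k + 1))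
    (hg : g ∉ twoStep S k) : ⁅z, g⁆ ≠ 1 :=
  fun e => D.comm_not_mem h2 hk hz hz' hg (e ▸ one_mem _)

theorem last_comm {u t : S} (hu : u ∈ fil S (n - 2)) (ht : t ∈ twoStep S (n - 2)) : u * t = t * u := by
  have h := mem_twoStep.mp ht u hu
  rw [show n - 2 + 2 = n by have := D.h6; omega, CfsgLib.MaxClassRank.fil_eq_bot D.hn D.hG D.hc le_rfl,
    mem_bot] at h
  exact commutatorElement_eq_one_iff_mul_comm.mp h

theorem fil_last_le (y : S) (hy : y ∈ twoStep S (n - 2)) : fil S (n - 2) ≤ centralizer ({y} : Set S) :=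
  fun _ hu => mem_centralizer_singleton_iff.mpr (D.last_comm hu hy)

theorem exact_layer {k : ℕ} {m : ℕ} (hm : 2 ≤ m) {z : S} (hz : z ∈ fil S m) (hk : z ∉ fil S k) :
    ∃ j, m ≤ j ∧ j < k ∧ z ∈ fil S j ∧ z ∉ fil S (j + 1) := by
  classical
  have hex : ∃ j, z ∉ fil S (m + j) := ⟨k, fun h => hk (fil_antitone (by omega) h)⟩
  have hs := Nat.find_spec hex
  have h0 : Nat.find hex ≠ 0 := fun e => by rw [e] at hs; exact hs hz
  have hprev : z ∈ fil S (m + (Nat.find hex - 1)) := not_not.mp (Nat.find_min hex (by omega))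
  refine ⟨m + (Nat.find hex - 1), by omega, ?_, hprev, by rwa [show m + (Nat.find hex - 1) + 1 = m + Nat.find hex by omega]⟩
  by_contra h
  exact hk (fil_antitone (not_lt.mp h) hprev)

theorem fil_subgroup {k : ℕ} (h2 : 2 ≤ k) {H : Subgroup S} (hH : fil S (k + 1) ≤ H) {z : S} (hz : z ∈ fil S k)
    (hz' : z ∉ fil S (k + 1)) (hzH : z ∈ H) : fil S k ≤ H := by
  rw [← CfsgLib.MaxClassRank.fil_layer D.hn D.hG D.hc h2 hz hz']
  exact sup_le (zpowers_le.mpr hzH) hH

/-- A self-centralizing subgroup of the last two-step centralizer outside the first is an extension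
of a term of the series. -/
theorem shape {H : Subgroup S} (hH : H ≤ twoStep S (n - 2)) (hH1 : ¬ H ≤ twoStep S 2)
    (hcen : centralizer (H : Set S) ≤ H) :
    ∃ (y : S) (c : ℕ), 2 ≤ c ∧ c + 2 ≤ n ∧ y ∈ H ∧ y ∉ twoStep S 2 ∧ H ⊓ fil S 2 = fil S c ∧
      fil S c ≤ H ∧ (∀ h ∈ H, ∃ j : ℕ, (y ^ j)⁻¹ * h ∈ fil S c) ∧ Nat.card H = p ^ (n - c + 1) := by
  classical
  have hpp : p.Prime := hp.out
  have h6 := D.h6
  have hlast : fil S (n - 2) ≤ H := fun u hu =>
    hcen (mem_centralizer_iff.mpr fun h hh => (D.last_comm hu (hH hh)).symm)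
  obtain ⟨y, hyH, hy1⟩ := SetLike.not_le_iff_exists.mp hH1
  -- the least layer met
  have hex : ∃ c, 2 ≤ c ∧ ¬ H ⊓ fil S 2 ≤ fil S (c + 1) :=
    ⟨n - 2, by omega, fun h => by
      obtain ⟨z, hz, hz'⟩ := CfsgLib.MaxClassGood.exists_gen D.hn D.hG D.hc (j := n - 2) (by omega) (by omega)
      exact hz' (h ⟨hlast hz, fil_antitone (by omega) hz⟩)⟩
  set c := Nat.find hex with hc
  obtain ⟨hc2, hcne⟩ := Nat.find_spec hex
  change 2 ≤ c at hc2
  change ¬ H ⊓ fil S 2 ≤ fil S (c + 1) at hcne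
  have hcn : c ≤ n - 2 := Nat.find_le ⟨by omega, fun h => by
    obtain ⟨z, hz, hz'⟩ := CfsgLib.MaxClassGood.exists_gen D.hn D.hG D.hc (j := n - 2) (by omega) (by omega)
    exact hz' (h ⟨hlast hz, fil_antitone (by omega) hz⟩)⟩
  have hle : H ⊓ fil S 2 ≤ fil S c := by
    rcases eq_or_lt_of_le hc2 with e | e
    · rw [← e]; exact inf_le_right
    · have := Nat.find_min hex (show c - 1 < c by omega)
      push Not at this
      have := this (by omega)
      rwa [show c - 1 + 1 = c by omega] at this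
  obtain ⟨z, hz, hz'⟩ := SetLike.not_le_iff_exists.mp hcne
  have hup : ∀ i, c + i ≤ n - 2 → ∃ w ∈ H, w ∈ fil S (c + i) ∧ w ∉ fil S (c + i + 1) := by
    intro i
    induction i with
    | zero => exact fun _ => ⟨z, hz.1, hle hz, hz'⟩
    | succ i ih =>
      intro hi
      obtain ⟨w, hwH, hw, hw'⟩ := ih (by omega)
      obtain ⟨h1, h2⟩ := D.comm_exact (k := c + i) (by omega) (by omega) hw hw' hy1
      refine ⟨⁅w, y⁆, ?_, h1, h2⟩
      rw [commutatorElement_def]
      exact mul_mem (mul_mem (mul_mem hwH hyH) (inv_mem hwH)) (inv_mem hyH)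
  have hdown : ∀ d, c + d ≤ n - 2 → fil S (n - 2 - d) ≤ H := by
    intro d
    induction d with
    | zero => exact fun _ => hlast
    | succ d ih =>
      intro hd
      obtain ⟨w, hwH, hw, hw'⟩ := hup (n - 2 - (d + 1) - c) (by omega)
      rw [show c + (n - 2 - (d + 1) - c) = n - 2 - (d + 1) by omega] at hw hw'
      refine D.fil_subgroup (by omega) ?_ hw hw' hwH
      rw [show n - 2 - (d + 1) + 1 = n - 2 - d by omega]
      exact ih (by omega)
  have hcH : fil S c ≤ H := by
    have := hdown (n - 2 - c) (by omega)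
    rwa [show n - 2 - (n - 2 - c) = c by omega] at this
  have hinf : H ⊓ fil S 2 = fil S c := le_antisymm hle (le_inf hcH (fil_antitone hc2))
  have hy2 : y ∉ fil S 2 := fun h => hy1 (CfsgLib.MaxClassGood.fil_le_twoStep 2 h)
  have hdec : ∀ h ∈ H, ∃ j : ℕ, (y ^ j)⁻¹ * h ∈ fil S c := by
    intro h hh
    obtain ⟨j, hj⟩ := CfsgLib.MaxClassDegree.pow_mem_of_not_mem D.hn D.hG D.hc D.index_one hy1 h
    have hm : (y ^ j)⁻¹ * h ∈ H := mul_mem (inv_mem (pow_mem hyH j)) hh
    exact ⟨j, hinf ▸ ⟨hm, D.inf_eq.le ⟨hH hm, hj⟩⟩⟩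
  refine ⟨y, c, hc2, by omega, hyH, hy1, hinf, hcH, hdec, ?_⟩
  have hsup : H ⊔ fil S 2 = twoStep S (n - 2) := by
    refine le_antisymm (sup_le hH (CfsgLib.MaxClassGood.fil_le_twoStep _)) fun t ht => ?_
    obtain ⟨j, hj⟩ := CfsgLib.MaxClassDegree.pow_mem_of_not_mem D.hn D.hG D.hc D.index_one hy1 t
    have hyL : (y ^ j)⁻¹ ∈ twoStep S (n - 2) := inv_mem (pow_mem (hH hyH) j)
    have hm : (y ^ j)⁻¹ * t ∈ fil S 2 := D.inf_eq.le (mem_inf.mpr ⟨mul_mem hyL ht, hj⟩)
    have := mul_mem (mem_sup_left (T := fil S 2) (pow_mem hyH j)) (mem_sup_right (S := H) hm)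
    rwa [mul_inv_cancel_left] at this
  have hr : (fil S c).relIndex H = p := by
    rw [← hinf, inf_relIndex_left]
    have h1 : (fil S 2).relIndex (twoStep S (n - 2)) = p := by
      have h := relIndex_mul_index (CfsgLib.MaxClassGood.fil_le_twoStep (S := S) (n - 2))
      rw [D.index_last, CfsgLib.MaxClassDegree.fil_two_index D.hn D.hG D.hc, pow_two] at h
      exact Nat.eq_of_mul_eq_mul_right hpp.pos h
    haveI := CfsgLib.PolySeq.fil_normal (G := S) 2
    rw [← h1, ← hsup]
    exact (relIndex_sup_right H (fil S 2)).symm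
  have hm : Nat.card (fil S c) * (fil S c).relIndex H = Nat.card H := by
    rw [← relIndex_bot_left, ← relIndex_bot_left, relIndex_mul_relIndex _ _ _ bot_le hcH]
  rw [← hm, hr, CfsgLib.MaxClassRank.card_fil D.hn D.hG D.hc hc2 (by omega), pow_succ]

/-- No automorphism inverts both generators modulo the derived subgroup, fixes the last layer and
inverts the layer before it. -/
theorem false_of_inverting (α : MulAut S) {x : S} (hx1 : x ∉ twoStep S 2) (hx : α x * x ∈ fil S 2)
    (hfix : ∀ u ∈ fil S (n - 1), α u = u) (hinv : ∀ u ∈ fil S (n - 2), α u * u ∈ fil S (n - 1)) : False := by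
  have hpp : p.Prime := hp.out
  have h6 := D.h6
  have hn := D.hn
  have hG := D.hG
  have hc := D.hc
  obtain ⟨C⟩ := CfsgLib.MaxClassDegree.exists_coords hn hG hc
  -- the elements inverted modulo the derived subgroup
  have hneg : ∀ g : S, α g * g ∈ fil S 2 → ∀ k, 2 ≤ k → k < n → C.β k (α g) = -C.β k g := by
    intro g hg k hk hkn
    have h := C.beta_mul hn hG hc hk hkn (α g) g
    rw [(C.beta_eq_zero_iff hn hG hc hk hkn _).mpr (CfsgLib.MaxClassGood.fil_le_twoStep k hg)] at h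
    linear_combination -h
  have hnot : ¬ twoStep S 2 ≤ twoStep S (n - 2) := fun h => by
    have h1 := D.inf_eq
    rw [inf_eq_right.mpr h] at h1
    have := D.index_one
    rw [h1, CfsgLib.MaxClassDegree.fil_two_index hn hG hc, pow_two] at this
    exact absurd this (by nlinarith [hpp.two_le])
  obtain ⟨t, ht1, ht2⟩ := SetLike.not_le_iff_exists.mp hnot
  obtain ⟨w, hw, hw'⟩ := CfsgLib.MaxClassGood.exists_gen hn hG hc (j := n - 2) (by omega) (by omega)
  have hθw : C.θ (n - 2) w ≠ 0 := fun e => hw' (by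
    have := (C.ker (n - 2) (by omega) w hw).mp e
    exact this)
  have hαw : C.θ (n - 2) (α w) = -C.θ (n - 2) w := by
    have h := C.add (n - 2) (by omega) _ (CfsgLib.MaxClassDegree.map_fil_mem α hw) _ hw
    rw [C.zero (by omega) (by rw [show n - 2 + 1 = n - 1 by omega]; exact hinv w hw)] at h
    linear_combination -h
  have ht : α t * t ∈ fil S 2 := by
    refine D.inf_eq.le ⟨?_, mul_mem (CfsgLib.MaxClassDegree.map_twoStep_mem α ht1) ht1⟩
    have hk : n - 2 < n := by omega
    refine (C.beta_eq_zero_iff hn hG hc (by omega) hk _).mp ?_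
    rw [C.beta_mul hn hG hc (by omega) hk]
    have h1 : C.θ (n - 2 + 1) ⁅α w, α t⁆ = C.θ (n - 2 + 1) ⁅w, t⁆ := by
      have hm : ⁅w, t⁆ ∈ fil S (n - 2 + 1) := fil_commutator_mem hw (mem_top t)
      rw [← map_commutatorElement, hfix _ (by rwa [show n - 2 + 1 = n - 1 by omega] at hm)]
    rw [C.comm _ (by omega) _ (CfsgLib.MaxClassDegree.map_fil_mem α hw), C.comm _ (by omega) _ hw, hαw] at h1
    refine mul_right_cancel₀ hθw ?_
    linear_combination -h1
  have hscal : ∀ k, ∃ s : ZMod p, 2 ≤ k → ∀ v ∈ fil S k, C.θ k (α v) = s * C.θ k v := fun k => by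
    by_cases hk : 2 ≤ k
    · obtain ⟨s, hs⟩ := CfsgLib.MaxClassDegree.exists_scalar hn hG hc C α hk
      exact ⟨s, fun _ => hs⟩
    · exact ⟨0, fun h => absurd h hk⟩
  choose s hs using hscal
  have hlow : ∀ k, 2 ≤ k → k + 3 ≤ n → s (k + 1) = s k * (-1) := by
    intro k hk hkn
    refine CfsgLib.MaxClassDegree.scalar_succ hn hG hc C α hk (by omega) (hs k hk) (hs (k + 1) (by omega))
      (g := x) (by rwa [D.low_eq hk hkn]) ?_
    rw [hneg x hx k hk (by omega), neg_one_mul]
  -- the second layer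
  have ht0 : t ∉ fil S 2 := fun h => ht2 (CfsgLib.MaxClassGood.fil_le_twoStep _ h)
  have hgen : ∀ H : Subgroup S, x ∈ H → t ∈ H → H = ⊤ := fun H h1 h2 =>
    CfsgLib.MaxClassDegree.eq_top_of_mems hn hG hc (CfsgLib.MaxClassGood.fil_le_twoStep 2) D.index_one hx1 ht1 ht0 h1 h2
  have hz2 : ⁅x, t⁆ ∉ fil S 3 := by
    intro h1
    obtain ⟨u, hu, hu'⟩ := CfsgLib.MaxClassGood.exists_gen hn hG hc (j := 2) (by omega) le_rfl
    refine hu' ((?_ : fil S 2 ≤ fil S 3) hu)
    rw [CfsgLib.MaxClassRank.fil_succ (show 1 ≤ 1 from le_rfl), commutator_le]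
    intro a _ b _
    haveI := CfsgLib.PolySeq.fil_normal (G := S) 3
    let q := QuotientGroup.mk' (fil S 3)
    have hxt : q x * q t = q t * q x := CfsgLib.MaxClassRank.mk_comm_iff.mpr h1
    have hmem : ∀ g, q g * q x = q x * q g ∧ q g * q t = q t * q g := by
      intro g
      have hx' : g ∈ (centralizer ({q x} : Set (S ⧸ fil S 3))).comap q := by
        rw [hgen _ (mem_comap.mpr (mem_centralizer_singleton_iff.mpr rfl))
          (mem_comap.mpr (mem_centralizer_singleton_iff.mpr hxt.symm))]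
        trivial
      have ht' : g ∈ (centralizer ({q t} : Set (S ⧸ fil S 3))).comap q := by
        rw [hgen _ (mem_comap.mpr (mem_centralizer_singleton_iff.mpr hxt))
          (mem_comap.mpr (mem_centralizer_singleton_iff.mpr rfl))]
        trivial
      exact ⟨mem_centralizer_singleton_iff.mp hx', mem_centralizer_singleton_iff.mp ht'⟩
    have hb : a ∈ (centralizer ({q b} : Set (S ⧸ fil S 3))).comap q := by
      rw [hgen _ (mem_comap.mpr (mem_centralizer_singleton_iff.mpr (hmem b).1.symm))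
        (mem_comap.mpr (mem_centralizer_singleton_iff.mpr (hmem b).2.symm))]
      trivial
    exact CfsgLib.MaxClassRank.mk_comm_iff.mp (mem_centralizer_singleton_iff.mp hb)
  have hs2 : s 2 = 1 := by
    have hxt : ⁅x, t⁆ ∈ fil S 2 := fil_commutator_mem (i := 1) (j := 1) (mem_top x) (mem_top t)
    have hθ : C.θ 2 ⁅x, t⁆ ≠ 0 := fun e => hz2 ((C.ker 2 le_rfl _ hxt).mp e)
    refine mul_right_cancel₀ hθ ?_
    rw [← hs 2 le_rfl _ hxt, map_commutatorElement, one_mul]
    have e1 : α x = α x * x * x⁻¹ := by group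
    have e2 : α t = α t * t * t⁻¹ := by group
    have hL : ∀ v : S, C.θ 2 ⁅α x, v⁆ = -C.θ 2 ⁅x, v⁆ := fun v => by
      rw [e1]
      refine (C.mul_left (i := 1) (j := 1) le_rfl le_rfl (mem_top _) (mem_top x⁻¹) (mem_top v)).trans ?_
      rw [C.deep_left (i := 1) (j := 1) le_rfl le_rfl hx (mem_top v),
        C.inv_left (i := 1) (j := 1) le_rfl le_rfl (mem_top x) (mem_top v), zero_add]
    have hR : C.θ 2 ⁅x, α t⁆ = -C.θ 2 ⁅x, t⁆ := by
      rw [e2]
      refine (C.mul_right (i := 1) (j := 1) le_rfl le_rfl (mem_top x) (mem_top _) (mem_top t⁻¹)).trans ?_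
      have h0 : C.θ 2 ⁅x, α t * t⁆ = 0 := by
        have h := C.swap (i := 1) (j := 1) le_rfl le_rfl (mem_top (α t * t)) (mem_top x)
        rw [C.deep_left (i := 1) (j := 1) le_rfl le_rfl ht (mem_top x), neg_zero] at h
        exact h
      rw [C.inv_right (i := 1) (j := 1) le_rfl le_rfl (mem_top x) (mem_top t), h0, zero_add]
    rw [hL, hR, neg_neg]
  have hpow : ∀ i, i + 4 ≤ n → s (i + 2) = (-1) ^ i := by
    intro i
    induction i with
    | zero => intro _; rw [hs2, pow_zero]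
    | succ i ih =>
      intro hi
      rw [show i + 1 + 2 = i + 2 + 1 by omega, hlow (i + 2) (by omega) (by omega), ih (by omega), pow_succ]
  have h1 := hpow (n - 4) (by omega)
  rw [show n - 4 + 2 = n - 2 by omega, Even.neg_one_pow (by
    obtain ⟨r, hr⟩ := D.even
    exact ⟨r - 2, by omega⟩)] at h1
  have h2 := hs (n - 2) (by omega) w hw
  rw [hαw, h1, one_mul] at h2
  have h3 : (2 : ZMod p) * C.θ (n - 2) w = 0 := by linear_combination -h2
  rcases mul_eq_zero.mp h3 with e | e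
  · have h : ((2 : ℕ) : ZMod p) = 0 := by simpa using e
    rw [ZMod.natCast_eq_zero_iff] at h
    exact absurd (Nat.le_of_dvd (by norm_num) h) (by have := D.odd_prime; omega)
  · exact hθw e

end LastData

end CfsgLib.MaxClassResidual
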