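import Cfsg.Agent.Lib.MaxClassResidual.Data
import Cfsg.Agent.Lib.MaxClassResidual.LastLayers

/-!
The configuration of a subgroup of the two-step centralizer when the last two-step centralizer differs
from the first.
-/

set_option autoImplicit false
set_option linter.unusedSectionVars false
set_option linter.style.haveILetI false

namespace CfsgLib.MaxClassResidual

open scoped commutatorElement
open Subgroup
open CfsgLib.PolySeq (fil fil_antitone fil_commutator_mem)
open CfsgLib.MaxClassGood (twoStep mem_twoStep)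

instance twoStep_normal_instance {S : Type*} [Group S] (k : ℕ) : (twoStep S k).Normal := by
  haveI : (fil S k).Normal := CfsgLib.PolySeq.fil_normal k
  haveI : (fil S (k + 2)).Normal := CfsgLib.PolySeq.fil_normal (k + 2)
  haveI : ((fil S k).map (QuotientGroup.mk' (fil S (k + 2)))).Normal :=
    Subgroup.Normal.map inferInstance _ (QuotientGroup.mk'_surjective _)
  exact Subgroup.Normal.comap inferInstance _

/-- The configuration of a subgroup of the two-step centralizer which is not normal, when the last two-step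
centralizer is different. -/
structure ExcData (p n : ℕ) [Fact p.Prime] (S : Type*) [Group S] [Finite S] where
  last : LastData p n S
  hp : 5 ≤ p
  H : Subgroup (MulAut (twoStep S 2))
  hSH : ∀ g : S, MulAut.conjNormal g ∈ H
  hSyl : ¬ p ∣ (MulAut.conjNormal : S →* MulAut (twoStep S 2)).range.relIndex H
  E : Subgroup S
  hET : E ≤ twoStep S 2
  hcen : centralizer (E : Set S) ≤ E
  hnn : ¬ E.Normal
  A : Subgroup (MulAut E)
  hPA : ∀ g : normalizer (E : Set S), E.normalizerMonoidHom g ∈ A
  hSylA : ¬ p ∣ E.normalizerMonoidHom.range.relIndex A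
  hrad : ∀ Q : Subgroup (MulAut E), Q ≤ A → A ≤ normalizer (Q : Set (MulAut E)) → IsPGroup p Q →
    Q ≤ innE E
  ext : ∀ η ∈ A, ∀ Q : Subgroup S, E < Q → Q ≤ normalizer (E : Set S) →
    (∀ q : normalizer (E : Set S), (q : S) ∈ Q → ∃ q' : normalizer (E : Set S),
      η * E.normalizerMonoidHom q * η⁻¹ = E.normalizerMonoidHom q') →
    ∃ α ∈ H, ∀ e : E, (((α ⟨(e : S), hET e.2⟩) : twoStep S 2) : S) = ((η e : E) : S)
  grp : ∀ (M : Subgroup S) [M.Normal] (hME : M ≤ E),
    (∀ η ∈ A, ∀ e : E, (e : S) ∈ M → ((η e : E) : S) ∈ M) →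
    ∃ G : Subgroup (MulAut M), (∀ g : S, MulAut.conjNormal g ∈ G) ∧
      ¬ p ∣ (MulAut.conjNormal : S →* MulAut M).range.relIndex G ∧
      ∀ η ∈ A, ∃ γ ∈ G, ∀ m : M, ((γ m : M) : S) = ((η ⟨(m : S), hME m.2⟩ : E) : S)

end CfsgLib.MaxClassResidual
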