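import Cfsg.Agent.Lib.MaxClassResidual.LastLayers
import Cfsg.Agent.Lib.MaxClassGood.Basic

/-!
In a group of maximal class whose last two-step centralizer differs, commutation pairs the third layer
with the layer it completes to the last; and the order is at most `p ^ (p + 1)`.
-/

set_option autoImplicit false
set_option linter.unusedSectionVars false
set_option linter.style.haveILetI false

namespace CfsgLib.MaxClassResidual

open scoped commutatorElement
open Subgroup
open CfsgLib.PolySeq (fil fil_antitone fil_commutator_mem)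
open CfsgLib.MaxClassGood (twoStep mem_twoStep)

namespace LastData

variable {p n : ℕ} [hp : Fact p.Prime] {S : Type*} [Group S] [Finite S] (D : LastData p n S)

include D

theorem n_le : n ≤ p + 1 := by
  have h6 := D.h6
  have h2 : n ≤ p + 2 := by
    by_contra h
    push Not at h
    have hp2 := hp.out.two_le
    have h1 := (CfsgLib.MaxClassGood.periodic_and_good n D.hn D.hG D.hc).1 (n - 2) (by omega) (by omega)
    exact D.hne (h1.trans (D.low_eq (by omega) (by omega)))
  by_contra h
  have hn : n = p + 2 := by omega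
  rcases hp.out.eq_two_or_odd' with e | ⟨r, hr⟩
  · have := D.odd_prime; omega
  · obtain ⟨s, hs⟩ := D.even
    omega

theorem five_le : 5 ≤ p := by
  have := D.n_le
  have := D.h6
  omega

/-- The third layer does not centralize the layer it pairs with into the last. -/
theorem pairing (h8 : 8 ≤ n) : ⁅fil S 3, fil S (n - 4)⁆ ≠ ⊥ := by
  have hn := D.hn
  have hG := D.hG
  have hc := D.hc
  obtain ⟨C⟩ := CfsgLib.MaxClassDegree.exists_coords hn hG hc
  have hnot : ¬ twoStep S (n - 2) ≤ twoStep S 2 := fun h => by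
    have h1 := D.inf_eq
    rw [inf_eq_left.mpr h] at h1
    have := D.index_last
    rw [h1, CfsgLib.MaxClassDegree.fil_two_index hn hG hc, pow_two] at this
    nlinarith [hp.out.two_le]
  obtain ⟨e, he2, he1⟩ := SetLike.not_le_iff_exists.mp hnot
  have hnot' : ¬ twoStep S 2 ≤ twoStep S (n - 2) := fun h => by
    have h1 := D.inf_eq
    rw [inf_eq_right.mpr h] at h1
    have := D.index_one
    rw [h1, CfsgLib.MaxClassDegree.fil_two_index hn hG hc, pow_two] at this
    nlinarith [hp.out.two_le]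
  obtain ⟨t, ht1, ht2⟩ := SetLike.not_le_iff_exists.mp hnot'
  have hzero : ∀ i j, 1 ≤ i → 1 ≤ j → i + j = n - 2 → ∀ a ∈ fil S i, ∀ b ∈ fil S j,
      C.θ (n - 1) ⁅⁅a, e⁆, b⁆ = -C.θ (n - 1) ⁅a, ⁅b, e⁆⁆ := by
    intro i j hi hj hij a ha b hb
    have h := C.derivation hi hj ha hb e
    have h0 : ⁅⁅a, b⁆, e⁆ = 1 := commutatorElement_eq_one_iff_mul_comm.mpr
      (D.last_comm (hij ▸ fil_commutator_mem ha hb) he2)
    rw [h0, show i + j + 1 = n - 1 by omega, C.zero (by omega) (one_mem _)] at h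
    linear_combination -h
  -- from the first layer to the second
  obtain ⟨y, hy, hy'⟩ := CfsgLib.MaxClassGood.exists_gen hn hG hc (j := n - 3) (by omega) (by omega)
  obtain ⟨h1, h1'⟩ := D.comm_exact (k := n - 3) (by omega) (by omega) hy hy' he1
  rw [show n - 3 + 1 = n - 2 by omega] at h1
  rw [show n - 3 + 2 = n - 1 by omega] at h1'
  have hA : C.θ (n - 1) ⁅⁅t, e⁆, y⁆ ≠ 0 := by
    rw [hzero 1 (n - 3) le_rfl (by omega) (by omega) t (mem_top t) y hy, neg_ne_zero]
    intro h0
    have hm : ⁅⁅y, e⁆, t⁆ ∈ fil S (n - 1) := fil_antitone (by omega) (fil_commutator_mem (j := 1) h1 (mem_top t))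
    have hs : C.θ (n - 1) ⁅⁅y, e⁆, t⁆ = 0 := by
      rw [← commutatorElement_inv, C.map_inv (by omega) (by
        rw [← commutatorElement_inv]; exact inv_mem hm), h0, neg_zero]
    have h2 := (C.ker (n - 1) (by omega) _ hm).mp hs
    exact D.comm_not_mem (k := n - 2) (by omega) (by omega) h1 (by rwa [show n - 2 + 1 = n - 1 by omega]) ht2
      (by rwa [show n - 2 + 2 = n - 1 + 1 by omega])
  -- from the second to the third
  set a := ⁅t, e⁆ with ha
  have ha2 : a ∈ fil S 2 := fil_commutator_mem (i := 1) (j := 1) (mem_top t) (mem_top e)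
  obtain ⟨z, hz, hz'⟩ := CfsgLib.MaxClassGood.exists_gen hn hG hc (j := n - 4) (by omega) (by omega)
  obtain ⟨h3, h3'⟩ := D.comm_exact (k := n - 4) (by omega) (by omega) hz hz' he1
  rw [show n - 4 + 1 = n - 3 by omega] at h3
  rw [show n - 4 + 2 = n - 2 by omega] at h3'
  intro hbot
  refine hA ?_
  have hzero' : C.θ (n - 1) ⁅a, ⁅z, e⁆⁆ = 0 := by
    have h := hzero 2 (n - 4) (by omega) (by omega) (by omega) a ha2 z hz
    have h0 : ⁅⁅a, e⁆, z⁆ = 1 := by
      have : ⁅⁅a, e⁆, z⁆ ∈ (⊥ : Subgroup S) := hbot ▸ commutator_mem_commutator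
        (fil_commutator_mem (i := 2) (j := 1) ha2 (mem_top e)) hz
      exact mem_bot.mp this
    rw [h0, C.zero (by omega) (one_mem _)] at h
    linear_combination h
  -- `y` lies in the span of `⁅z, e⁆` and the next layer
  haveI := CfsgLib.PolySeq.fil_normal (G := S) (n - 2)
  have hy2 : y ∈ zpowers ⁅z, e⁆ ⊔ fil S (n - 3 + 1) := by
    rw [CfsgLib.MaxClassRank.fil_layer hn hG hc (by omega) h3 (by rwa [show n - 3 + 1 = n - 2 by omega])]
    exact hy
  rw [show n - 3 + 1 = n - 2 by omega] at hy2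
  obtain ⟨u, hu, v, hv, rfl⟩ := mem_sup_of_normal_right.mp hy2
  have hadd : ∀ b ∈ fil S (n - 3), ∀ b' ∈ fil S (n - 3),
      C.θ (n - 1) ⁅a, b * b'⁆ = C.θ (n - 1) ⁅a, b⁆ + C.θ (n - 1) ⁅a, b'⁆ := fun b hb b' hb' => by
    have h := C.mul_right (i := 2) (j := n - 3) (by omega) (by omega) ha2 hb hb'
    rwa [show 2 + (n - 3) = n - 1 by omega] at h
  have hpw : ∀ i : ℕ, C.θ (n - 1) ⁅a, ⁅z, e⁆ ^ i⁆ = 0 := by
    intro i
    induction i with
    | zero => rw [pow_zero, commutatorElement_one_right, C.zero (by omega) (one_mem _)]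
    | succ i ih => rw [pow_succ, hadd _ (pow_mem h3 i) _ h3, ih, hzero', add_zero]
  obtain ⟨i, rfl⟩ := (mem_powers_iff_mem_zpowers (x := ⁅z, e⁆)).mpr hu
  simp only
  rw [hadd _ (pow_mem h3 i) _ (fil_antitone (by omega) hv), hpw, zero_add]
  exact C.zero (by omega) (fil_antitone (by omega) (fil_commutator_mem ha2 hv))

theorem pairing_eq (h8 : 8 ≤ n) : ⁅fil S 3, fil S (n - 4)⁆ = fil S (n - 1) := by
  have hle : ⁅fil S 3, fil S (n - 4)⁆ ≤ fil S (n - 1) := by
    rw [commutator_le]
    intro a ha b hb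
    exact fil_antitone (by omega) (fil_commutator_mem ha hb)
  refine eq_of_le_of_card_ge hle ?_
  have hcard : Nat.card (fil S (n - 1)) = p := by
    rw [CfsgLib.MaxClassRank.card_fil D.hn D.hG D.hc (by omega) (by omega), show n - (n - 1) = 1 by omega, pow_one]
  rw [hcard]
  have hd : Nat.card ↥⁅fil S 3, fil S (n - 4)⁆ ∣ p := hcard ▸ card_dvd_of_le hle
  rcases (Nat.dvd_prime hp.out).mp hd with e | e
  · exact absurd (card_eq_one.mp e) (D.pairing h8)
  · exact e.ge

end LastData

end CfsgLib.MaxClassResidual
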