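import Cfsg.Agent.Lib.MaxClassResidual.Inverting
import Cfsg.Agent.Lib.MaxClassResidual.LastPairing
import Cfsg.Agent.Lib.Fusion.EssentialSmall.Basic

/-!
Essential subgroups of the last two-step centralizer outside the first: the invariant series.
-/

set_option autoImplicit false
set_option linter.unusedSectionVars false
set_option linter.style.haveILetI false

namespace CfsgLib.MaxClassResidual

open scoped commutatorElement
open Cfsg Cfsg.FusionSystem Subgroup
open CfsgLib.PolySeq (fil fil_antitone fil_commutator_mem)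
open CfsgLib.MaxClassGood (twoStep mem_twoStep)

variable {Ω : Type*} [Group Ω] {S : Subgroup Ω} [Finite S] {p n : ℕ} [Fact p.Prime]

/-- An essential subgroup `⟨y⟩ fil c` of the last two-step centralizer. -/
structure LastEss (p n : ℕ) (F : FusionSystem S) (E : Subgroup Ω) (y : S) (c : ℕ) : Prop where
  last : LastData p n S
  sat : F.IsSaturated p
  ess : F.IsEssential p E
  le_last : E.subgroupOf S ≤ twoStep S (n - 2)
  hc2 : 2 ≤ c
  hcn : c + 2 ≤ n
  y_mem : y ∈ E.subgroupOf S
  y_one : y ∉ twoStep S 2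
  inf : E.subgroupOf S ⊓ fil S 2 = fil S c
  fil_le : fil S c ≤ E.subgroupOf S
  decomp : ∀ h ∈ E.subgroupOf S, ∃ j : ℕ, (y ^ j)⁻¹ * h ∈ fil S c
  card : Nat.card (E.subgroupOf S) = p ^ (n - c + 1)

theorem centralizer_subgroupOf_le {F : FusionSystem S} {E : Subgroup Ω} (hE : F.IsEssential p E) :
    centralizer ((E.subgroupOf S : Subgroup S) : Set S) ≤ E.subgroupOf S := by
  intro g hg
  refine mem_subgroupOf.mpr (hE.1.centralizerIn_le_self ⟨g.2, mem_centralizer_iff.mpr fun w hw => ?_⟩)
  exact congrArg Subtype.val (mem_centralizer_iff.mp hg ⟨w, hE.1.1 hw⟩ hw)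

theorem exists_lastEss (D : LastData p n S) {F : FusionSystem S} (hF : F.IsSaturated p) {E : Subgroup Ω}
    (hE : F.IsEssential p E) (hE2 : E.subgroupOf S ≤ twoStep S (n - 2)) (hE1 : ¬ E.subgroupOf S ≤ twoStep S 2) :
    ∃ y c, LastEss p n F E y c := by
  obtain ⟨y, c, h1, h2, h3, h4, h5, h6, h7, h8⟩ := D.shape hE2 hE1 (centralizer_subgroupOf_le hE)
  exact ⟨y, c, ⟨D, hF, hE, hE2, h1, h2, h3, h4, h5, h6, h7, h8⟩⟩

namespace LastEss

variable {F : FusionSystem S} {E : Subgroup Ω} {y : S} {c : ℕ} (X : LastEss p n F E y c)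

include X

theorem le : E ≤ S := X.ess.1.1

theorem pg : IsPGroup p S := IsPGroup.of_card X.last.hG

theorem fil_le' {k : ℕ} (hk : c ≤ k) : fil S k ≤ E.subgroupOf S := (fil_antitone hk).trans X.fil_le

theorem comm_last {u h : S} (hu : u ∈ fil S (n - 2)) (hh : h ∈ E.subgroupOf S) : ⁅u, h⁆ = 1 :=
  commutatorElement_eq_one_iff_mul_comm.mpr (X.last.last_comm hu (X.le_last hh))

theorem mem_fil_two {h : S} (hh : h ∈ E.subgroupOf S) (h2 : h ∈ fil S 2) : h ∈ fil S c :=
  X.inf ▸ mem_inf.mpr ⟨hh, h2⟩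

theorem outside {h : S} (hh : h ∈ E.subgroupOf S) (h2 : h ∉ fil S c) : h ∉ twoStep S 2 := fun h1 =>
  h2 (X.mem_fil_two hh (X.last.inf_eq.le (mem_inf.mpr ⟨X.le_last hh, h1⟩)))

/-- The elements of `E` all of whose commutators fall below the next layer lie in the layer. -/
theorem layer_char {k : ℕ} (hck : c + 1 ≤ k) (hk : k + 2 ≤ n) {h : S} (hh : h ∈ E.subgroupOf S)
    (hall : ∀ f ∈ E.subgroupOf S, ⁅h, f⁆ ∈ fil S (k + 1)) : h ∈ fil S k := by
  have hc2 := X.hc2
  by_contra hne
  by_cases hcm : h ∈ fil S c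
  · obtain ⟨j, hj1, hj2, hj, hj'⟩ := X.last.exact_layer hc2 hcm hne
    exact (X.last.comm_exact (by omega) (by omega) hj hj' X.y_one).2 (fil_antitone (by omega) (hall y X.y_mem))
  · obtain ⟨z, hz, hz'⟩ := CfsgLib.MaxClassGood.exists_gen X.last.hn X.last.hG X.last.hc (j := c) (by omega) hc2
    refine (X.last.comm_exact hc2 (by omega) hz hz' (X.outside hh hcm)).2 (fil_antitone (i := c + 2) (j := k + 1) (by omega) ?_)
    rw [← commutatorElement_inv]
    exact inv_mem (hall z (X.fil_le hz))

theorem exists_lift {v : S} (hv : v ∈ E.subgroupOf S) : ∃ e : E, (⟨(e : Ω), X.le e.2⟩ : S) = v :=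
  ⟨⟨v, mem_subgroupOf.mp hv⟩, rfl⟩

theorem inv_fil : ∀ d, c + 1 + d ≤ n - 2 → Inv F (tr X.le (fil S (n - 2 - d))) := by
  intro d
  induction d with
  | zero =>
    intro hd
    refine inv_of_comm (A := ⊤) inv_bot inv_top fun x => ⟨fun hx a _ => ?_, fun hx => ?_⟩
    · rw [mem_bot]
      refine Subgroup.inclusion_injective X.le ?_
      rw [map_commutatorElement, map_one]
      exact X.comm_last hx a.2
    · refine X.layer_char (k := n - 2) (by omega) (by omega) x.2 fun f hf => ?_
      obtain ⟨a, rfl⟩ := X.exists_lift hf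
      have h1 := congrArg (Subgroup.inclusion X.le) (mem_bot.mp (hx a trivial))
      rw [map_commutatorElement, map_one] at h1
      exact h1 ▸ one_mem _
  | succ d ih =>
    intro hd
    refine inv_of_comm (A := ⊤) (ih (by omega)) inv_top fun x => ⟨fun hx a _ => ?_, fun hx => ?_⟩
    · rw [mem_tr] at hx ⊢
      have h := fil_commutator_mem (j := 1) hx (mem_top (⟨(a : Ω), X.le a.2⟩ : S))
      rw [show n - 2 - (d + 1) + 1 = n - 2 - d by omega] at h
      exact h
    · refine X.layer_char (k := n - 2 - (d + 1)) (by omega) (by omega) x.2 fun f hf => ?_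
      obtain ⟨a, rfl⟩ := X.exists_lift hf
      rw [show n - 2 - (d + 1) + 1 = n - 2 - d by omega]
      exact hx a trivial

theorem inv_fil' {k : ℕ} (hk : c + 1 ≤ k) (hk' : k + 2 ≤ n) : Inv F (tr X.le (fil S k)) := by
  have := X.inv_fil (n - 2 - k) (by omega)
  rwa [show n - 2 - (n - 2 - k) = k by omega] at this

theorem inv_low (h3 : 3 ≤ c) (h4 : c + 4 ≤ n) : Inv F (tr X.le (fil S c)) := by
  refine inv_of_comm (A := tr X.le (fil S (n - 3))) inv_bot (X.inv_fil' (by omega) (by omega))
    fun x => ⟨fun hx a ha => ?_, fun hx => ?_⟩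
  · rw [mem_bot]
    refine Subgroup.inclusion_injective X.le ?_
    rw [map_commutatorElement, map_one]
    have h := fil_commutator_mem (mem_tr.mp hx) (mem_tr.mp ha)
    rw [CfsgLib.MaxClassRank.fil_eq_bot X.last.hn X.last.hG X.last.hc (by omega), mem_bot] at h
    exact h
  · by_contra hne
    obtain ⟨z, hz, hz'⟩ := CfsgLib.MaxClassGood.exists_gen X.last.hn X.last.hG X.last.hc (j := n - 3) (by omega)
      (by omega)
    obtain ⟨a, rfl⟩ := X.exists_lift (X.fil_le' (k := n - 3) (by omega) hz)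
    refine X.last.comm_ne_one (k := n - 3) (by omega) (by omega) hz hz'
      (by rw [X.last.low_eq (by omega) (by omega)]; exact X.outside x.2 hne) ?_
    have h1 := congrArg (Subgroup.inclusion X.le) (mem_bot.mp (hx a hz))
    rw [map_commutatorElement, map_one] at h1
    rw [← commutatorElement_inv]
    exact inv_eq_one.mpr h1

theorem inv_commutator' {A B : Subgroup S} (hA : A ≤ E.subgroupOf S) (hB : B ≤ E.subgroupOf S)
    (hAi : Inv F (tr X.le A)) (hBi : Inv F (tr X.le B)) : Inv F (tr X.le ⁅A, B⁆) := by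
  refine inv_congr ?_ (inv_commutator hAi hBi)
  refine Subgroup.map_injective (Subgroup.inclusion_injective X.le) ?_
  rw [Subgroup.map_commutator, map_tr X.le hA, map_tr X.le hB, map_tr X.le]
  exact (commutator_mono hA hB).trans (commutator_le_self _)

theorem relIndex_eq {A B : Subgroup S} {a b : ℕ} (h : A ≤ B) (hA : Nat.card A = p ^ a) (hB : Nat.card B = p ^ b)
    (hab : b = a + 1) : A.relIndex B = p := by
  have hm : Nat.card A * A.relIndex B = Nat.card B := by
    rw [← relIndex_bot_left, ← relIndex_bot_left, relIndex_mul_relIndex _ _ _ bot_le h]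
  rw [hA, hB, hab, pow_succ] at hm
  exact Nat.eq_of_mul_eq_mul_left (pow_pos (Fact.out : p.Prime).pos _) hm

theorem relIndex_fil {k : ℕ} (h2 : 2 ≤ k) (hk : k < n) : (fil S (k + 1)).relIndex (fil S k) = p :=
  X.relIndex_eq (fil_antitone (by omega)) (CfsgLib.MaxClassRank.card_fil X.last.hn X.last.hG X.last.hc (by omega) hk)
    (CfsgLib.MaxClassRank.card_fil X.last.hn X.last.hG X.last.hc h2 hk.le) (by omega)

theorem relIndex_top : (fil S c).relIndex (E.subgroupOf S) = p :=
  X.relIndex_eq X.fil_le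
    (CfsgLib.MaxClassRank.card_fil X.last.hn X.last.hG X.last.hc X.hc2 (by have := X.hcn; omega)) X.card (by omega)

/-- An invariant series with steps of order `p` is contradictory. -/
theorem false_of_invariant {K : Subgroup S} (hK : Nat.card K = p) (hKle : K ≤ fil S (n - 2))
    (hKi : Inv F (tr X.le K)) (hci : Inv F (tr X.le (fil S c))) : False := by
  have hc2 := X.hc2
  have hcn := X.hcn
  let C : Fin (n - c + 2) → Subgroup E := fun i =>
    if i.val = 0 then ⊥ else if i.val = 1 then tr X.le K else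
      if i.val ≤ n - c then tr X.le (fil S (n - i.val)) else ⊤
  refine Cfsg.EssentialSmall.false_of_series X.pg X.sat X.ess (m := n - c + 1) C ?_ ?_ ?_ ?_
  · simp [C]
  · simp only [C, Fin.val_last]
    rw [if_neg (by omega), if_neg (by omega), if_neg (by omega)]
  · intro α hα i x hx
    simp only [C] at hx ⊢
    split_ifs at hx ⊢ with h0 h1 h2
    · exact inv_bot α hα x hx
    · exact hKi α hα x hx
    · rcases eq_or_lt_of_le (show c ≤ n - i.val by omega) with e | e
      · rw [← e] at hx ⊢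
        exact hci α hα x hx
      · exact X.inv_fil' (by omega) (by omega) α hα x hx
    · trivial
  · intro i
    simp only [C, Fin.val_castSucc, Fin.val_succ]
    have hi := i.isLt
    have hbot : ∀ A : Subgroup S, A ≤ E.subgroupOf S → (⊥ : Subgroup E).relIndex (tr X.le A) = Nat.card A := by
      intro A hA
      rw [relIndex_bot_left]
      conv_rhs => rw [← map_tr X.le hA]
      exact Nat.card_congr ((tr X.le A).equivMapOfInjective _ (Subgroup.inclusion_injective X.le)).toEquiv
    rcases (show i.val = 0 ∨ i.val = 1 ∨ (2 ≤ i.val ∧ i.val + 1 ≤ n - c) ∨ (2 ≤ i.val ∧ i.val = n - c) by omega)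
      with e | e | ⟨e, e'⟩ | ⟨e, e'⟩
    · rw [if_pos e, if_neg (by omega), if_pos (by omega), hbot _ (hKle.trans (X.fil_le' (by omega))), hK]
    · rw [if_neg (by omega), if_pos e, if_neg (by omega), if_neg (by omega), if_pos (by omega),
        show n - (i.val + 1) = n - 2 by omega, relIndex_tr X.le _ (X.fil_le' (by omega))]
      exact (X.relIndex_eq hKle (a := 1) (b := 2) (by rw [hK, pow_one])
        (by rw [CfsgLib.MaxClassRank.card_fil X.last.hn X.last.hG X.last.hc (by omega) (by omega)]; congr 1; omega)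
        rfl).dvd
    · rw [if_neg (by omega), if_neg (by omega), if_pos (by omega), if_neg (by omega), if_neg (by omega), if_pos e',
        show n - i.val = n - (i.val + 1) + 1 by omega, relIndex_tr X.le _ (X.fil_le' (by omega))]
      exact (X.relIndex_fil (by omega) (by omega)).dvd
    · rw [if_neg (by omega), if_neg (by omega), if_pos (by omega), if_neg (by omega), if_neg (by omega),
        if_neg (by omega), show n - i.val = c by omega, relIndex_top_right, index_tr, X.relIndex_top]

/-- The commutator of the layer `n - 3` with `E` is invariant of order `p`. -/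
theorem exists_bottom (h3 : 3 ≤ c) (h4 : c + 3 ≤ n) (hWi : Inv F (tr X.le (fil S (n - 3)))) :
    ∃ K : Subgroup S, Nat.card K = p ∧ K ≤ fil S (n - 2) ∧ Inv F (tr X.le K) := by
  have hn := X.last.hn
  have hG := X.last.hG
  have hcl := X.last.hc
  refine ⟨⁅fil S (n - 3), E.subgroupOf S⁆, ?_, ?_, X.inv_commutator' (X.fil_le' (by omega)) le_rfl
    hWi (inv_congr (by rw [tr, ← range_incl X.le]; ext e; exact ⟨fun _ => ⟨e, rfl⟩, fun _ => trivial⟩) inv_top)⟩
  · obtain ⟨z, hz, hz'⟩ := CfsgLib.MaxClassGood.exists_gen hn hG hcl (j := n - 3) (by omega) (by omega)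
    obtain ⟨hk1, hk1'⟩ := X.last.comm_exact (k := n - 3) (by omega) (by omega) hz hz' X.y_one
    rw [show n - 3 + 1 = n - 2 by omega] at hk1
    have hk : ⁅z, y⁆ ≠ 1 := fun e => hk1' (e ▸ one_mem _)
    have hzL : z ∈ twoStep S (n - 2) := X.le_last (X.fil_le' (by omega) hz)
    have hkz : Commute ⁅z, y⁆ z := X.last.last_comm hk1 hzL
    have hky : Commute ⁅z, y⁆ y := X.last.last_comm hk1 (X.le_last X.y_mem)
    have hkp : ⁅z, y⁆ ^ p = 1 := by
      have h1 : ∀ i : ℕ, ⁅z ^ i, y⁆ = ⁅z, y⁆ ^ i := by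
        intro i
        induction i with
        | zero => rw [pow_zero, pow_zero, commutatorElement_one_left]
        | succ i ih =>
          have e : ⁅z ^ (i + 1), y⁆ = z ^ i * ⁅z, y⁆ * (z ^ i)⁻¹ * ⁅z ^ i, y⁆ := by
            simp only [commutatorElement_def, pow_succ]; group
          rw [e, ih, ← (hkz.pow_right i).eq, mul_inv_cancel_right, ← pow_succ']
      have hzp := CfsgLib.MaxClassRank.pow_mem_fil_succ hn hG hcl (show 2 ≤ n - 3 by omega) hz
      rw [show n - 3 + 1 = n - 2 by omega] at hzp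
      rw [← h1, X.comm_last hzp X.y_mem]
    have hord : orderOf ⁅z, y⁆ = p := orderOf_eq_prime hkp hk
    suffices h : ⁅fil S (n - 3), E.subgroupOf S⁆ = zpowers ⁅z, y⁆ by
      rw [h, Nat.card_zpowers, hord]
    refine le_antisymm ?_ (zpowers_le.mpr (commutator_mem_commutator hz X.y_mem))
    rw [commutator_le]
    intro a ha b hb
    haveI := CfsgLib.PolySeq.fil_normal (G := S) (n - 3 + 1)
    rw [← CfsgLib.MaxClassRank.fil_layer hn hG hcl (by omega) hz hz'] at ha
    obtain ⟨u, hu, v, hv, rfl⟩ := mem_sup_of_normal_right.mp ha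
    rw [show n - 3 + 1 = n - 2 by omega] at hv
    obtain ⟨i, rfl⟩ := (mem_powers_iff_mem_zpowers (x := z)).mpr hu
    obtain ⟨j, hj⟩ := X.decomp b hb
    have hb' : b = y ^ j * ((y ^ j)⁻¹ * b) := (mul_inv_cancel_left _ _).symm
    have hvb : ⁅v, b⁆ = 1 := X.comm_last hv hb
    have hzc : ⁅z ^ i, (y ^ j)⁻¹ * b⁆ = 1 := by
      have h := fil_commutator_mem (pow_mem hz i) hj
      rw [CfsgLib.MaxClassRank.fil_eq_bot hn hG hcl (by omega), mem_bot] at h
      exact h
    have e1 : ⁅z ^ i * v, b⁆ = ⁅z ^ i, b⁆ := by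
      have e : ⁅z ^ i * v, b⁆ = z ^ i * ⁅v, b⁆ * (z ^ i)⁻¹ * ⁅z ^ i, b⁆ := by
        simp only [commutatorElement_def]; group
      rw [e, hvb, mul_one, mul_inv_cancel, one_mul]
    have e2 : ⁅z ^ i, b⁆ = ⁅z ^ i, y ^ j⁆ := by
      have e : ⁅z ^ i, y ^ j * ((y ^ j)⁻¹ * b)⁆ = ⁅z ^ i, y ^ j⁆ * (y ^ j * ⁅z ^ i, (y ^ j)⁻¹ * b⁆ * (y ^ j)⁻¹) := by
        simp only [commutatorElement_def]; group
      rw [mul_inv_cancel_left] at e
      rw [e, hzc, mul_one, mul_inv_cancel, mul_one]
    simp only
    rw [e1, e2]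
    have hzi : ∀ i : ℕ, ⁅z ^ i, y⁆ = ⁅z, y⁆ ^ i := by
      intro i
      induction i with
      | zero => rw [pow_zero, pow_zero, commutatorElement_one_left]
      | succ i ih =>
        have e : ⁅z ^ (i + 1), y⁆ = z ^ i * ⁅z, y⁆ * (z ^ i)⁻¹ * ⁅z ^ i, y⁆ := by
          simp only [commutatorElement_def, pow_succ]; group
        rw [e, ih, ← (hkz.pow_right i).eq, mul_inv_cancel_right, ← pow_succ']
    have hyj : ∀ j : ℕ, ⁅z ^ i, y ^ j⁆ = (⁅z, y⁆ ^ i) ^ j := by
      intro j
      induction j with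
      | zero => rw [pow_zero, pow_zero, commutatorElement_one_right]
      | succ j ih =>
        have e : ⁅z ^ i, y ^ (j + 1)⁆ = ⁅z ^ i, y ^ j⁆ * (y ^ j * ⁅z ^ i, y⁆ * (y ^ j)⁻¹) := by
          simp only [commutatorElement_def, pow_succ]; group
        rw [e, ih, hzi, ← ((hky.pow_left i).pow_right j).eq, mul_inv_cancel_right, ← pow_succ]
    rw [hyj]
    exact pow_mem (pow_mem (mem_zpowers _) i) j
  · rw [commutator_le]
    intro a ha b _
    have := fil_commutator_mem (j := 1) ha (mem_top b)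
    rwa [show n - 3 + 1 = n - 2 by omega] at this

/-- Below `n - 3` there is no such essential subgroup. -/
theorem false_of_le (h3 : 3 ≤ c) (h4 : c + 4 ≤ n) : False := by
  obtain ⟨K, hKc, hKle, hKi⟩ := X.exists_bottom h3 (by omega) (X.inv_fil' (by omega) (by omega))
  exact X.false_of_invariant hKc hKle hKi (X.inv_low h3 h4)

theorem inv_last_bottom (h2 : c = 2) (h8 : 8 ≤ n) : Inv F (tr X.le (fil S (n - 1))) := by
  rw [← X.last.pairing_eq h8]
  exact X.inv_commutator' (X.fil_le' (by omega)) (X.fil_le' (by omega)) (X.inv_fil' (by omega) (by omega))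
    (X.inv_fil' (by omega) (by omega))

/-- The last two-step centralizer is not essential for `n ≥ 8`. -/
theorem false_of_eq_two (h2 : c = 2) (h8 : 8 ≤ n) : False := by
  refine X.false_of_invariant (K := fil S (n - 1)) ?_ (fil_antitone (by omega)) (X.inv_last_bottom h2 h8) ?_
  · rw [CfsgLib.MaxClassRank.card_fil X.last.hn X.last.hG X.last.hc (by omega) (by omega),
      show n - (n - 1) = 1 by omega, pow_one]
  refine inv_of_comm (A := tr X.le (fil S (n - 3))) (X.inv_last_bottom h2 h8) (X.inv_fil' (by omega) (by omega))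
    fun x => ⟨fun hx a ha => ?_, fun hx => ?_⟩
  · have h := fil_commutator_mem (mem_tr.mp hx) (mem_tr.mp ha)
    rw [show c + (n - 3) = n - 1 by omega] at h
    exact h
  · by_contra hne
    obtain ⟨z, hz, hz'⟩ := CfsgLib.MaxClassGood.exists_gen X.last.hn X.last.hG X.last.hc (j := n - 3) (by omega)
      (by omega)
    obtain ⟨a, rfl⟩ := X.exists_lift (X.fil_le' (k := n - 3) (by omega) hz)
    refine (X.last.comm_exact (k := n - 3) (by omega) (by omega) hz hz' (X.outside x.2 hne)).2 ?_
    rw [show n - 3 + 2 = n - 1 by omega, ← commutatorElement_inv]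
    exact inv_mem (hx a hz)

end LastEss

end CfsgLib.MaxClassResidual
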