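import Cfsg.Agent.Lib.MaxClassResidual.Small
import Cfsg.Agent.Lib.MaxClassResidual.ExcData
import Cfsg.Agent.Lib.MaxClassResidual.LastSeries
import Cfsg.Agent.Lib.Fusion.MaxClassCube.Main

/-!
The configuration attached to an essential subgroup of the first two-step centralizer when the last
two-step centralizer differs from it.
-/

set_option autoImplicit false
set_option linter.unusedSectionVars false
set_option linter.style.haveILetI false

namespace CfsgLib.MaxClassResidual

open Cfsg Cfsg.FusionSystem Subgroup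
open CfsgLib.PolySeq (fil fil_antitone fil_commutator_mem)
open CfsgLib.MaxClassGood (twoStep mem_twoStep)

variable {Ω : Type*} [Group Ω] {S : Subgroup Ω} [Finite S] {p : ℕ} [hpf : Fact p.Prime] {F : FusionSystem S}
  {n : ℕ}

/-- The automorphisms normalising the induced automorphisms of an overgroup, with the extension of the
maps given. -/
theorem ext_autIn_of_mapExt (hS : IsPGroup p S) (hF : F.IsSaturated p) {K T : Subgroup S} (hKT : K ≤ T)
    (hK : F.IsEssential p (K.map S.subtype)) {η : MulAut K} (hη : η ∈ autIn F K) {Q : Subgroup S} (hKQ : K < Q)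
    (hQN : Q ≤ normalizer (K : Set S))
    (hc : ∀ q : normalizer (K : Set S), (q : S) ∈ Q → ∃ q' : normalizer (K : Set S),
      η * K.normalizerMonoidHom q * η⁻¹ = K.normalizerMonoidHom q')
    (hext : ∀ σ : Q.map S.subtype →* Ω, σ ∈ F.Hom (Q.map S.subtype) →
      (∀ x : Q.map S.subtype, (x : Ω) ∈ K.map S.subtype → σ x ∈ K.map S.subtype) →
      MapExt F (T.map S.subtype) σ) :
    ∃ α ∈ autIn F T, ∀ e : K, (((α ⟨(e : S), hKT e.2⟩) : T) : S) = ((η e : K) : S) := by
  obtain ⟨φ, hφ, he⟩ := mem_autIn.mp hη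
  have hrφ : φ.range = (K.map S.subtype) := by
    ext y
    constructor
    · rintro ⟨z, rfl⟩
      obtain ⟨x, rfl⟩ := (upEquiv K).surjective z
      rw [he]; exact ⟨_, (η x).2, rfl⟩
    · rintro ⟨z, hz, rfl⟩
      exact ⟨upEquiv K (η⁻¹ ⟨z, hz⟩), by rw [he, MulAut.apply_inv_self]; rfl⟩
  have hnorm : Q.map S.subtype ≤ extender S (K.map S.subtype) φ := by
    rintro _ ⟨q, hq, rfl⟩
    rw [mem_extender_iff (F.apply_mem hφ)]
    refine ⟨q.2, mem_normalizer_map.mpr (hQN hq), ?_⟩
    obtain ⟨q', hq'⟩ := hc ⟨q, hQN hq⟩ hq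
    refine ⟨((q' : S) : Ω), (q' : S).2, fun y hy => ?_⟩
    obtain ⟨x, rfl⟩ := (upEquiv K).surjective y
    have e1 : (⟨(q : Ω) * (upEquiv K x : (K.map S.subtype)) * (q : Ω)⁻¹, hy⟩ : (K.map S.subtype)) =
        upEquiv K (K.normalizerMonoidHom ⟨q, hQN hq⟩ x) := Subtype.ext rfl
    show φ ⟨(q : Ω) * (upEquiv K x : (K.map S.subtype)) * (q : Ω)⁻¹, hy⟩ = _
    rw [e1, he, he]
    have h2 := congrArg (fun a : MulAut K => ((a (η x) : K) : S).1) hq'
    simp only [MulAut.mul_apply, MulAut.inv_apply_self] at h2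
    exact h2
  obtain ⟨ψ, hψ, hψe⟩ := (hF.isReceptive_of_isFullyNormalized hS hK.2.1).2 (K.map S.subtype) φ hφ hrφ
  have hσ := F.restrict_mem hψ hnorm
  obtain ⟨β, hβ, hb⟩ := hext _ hσ fun x hx => by
    have h := hψe (x : Ω) hx (hnorm x.2)
    show ψ _ ∈ K.map S.subtype
    rw [show Subgroup.inclusion hnorm x = ⟨(x : Ω), hnorm x.2⟩ from rfl, h]
    exact hrφ.le ⟨_, rfl⟩
  refine ⟨(MulAut.congr (upEquiv T)).symm β, ?_, fun e => ?_⟩
  · show MulAut.congr (upEquiv T) _ ∈ F.autGroup _
    rw [MulEquiv.apply_symm_apply]; exact hβ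
  · apply Subtype.ext
    have h1 := hb ⟨((e : S) : Ω), mem_map_of_mem _ (hKQ.le e.2)⟩ (mem_map_of_mem _ (hKT e.2))
    have h2 := hψe ((e : S) : Ω) ⟨(e : S), e.2, rfl⟩ (hnorm ⟨(e : S), hKQ.le e.2, rfl⟩)
    rw [← he]
    refine Eq.trans ?_ (h1.trans h2)
    show (((upEquiv T).symm (β (upEquiv T ⟨(e : S), hKT e.2⟩)) : T) : S).1 = _
    rw [coe_upEquiv_symm]
    rfl

/-- A proper subgroup of a group of order `p ^ (k + 1)`. -/
theorem card_le_pow_of_lt {X : Type*} [Group X] [Finite X] {A B : Subgroup X} (h : A < B) {k : ℕ}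
    (hB : Nat.card B = p ^ (k + 1)) : Nat.card A ≤ p ^ k := by
  obtain ⟨j, -, hj⟩ := (Nat.dvd_prime_pow hpf.out).mp (hB ▸ card_dvd_of_le h.le)
  have h1 : Nat.card A < Nat.card B :=
    lt_of_le_of_ne (Subgroup.card_le_of_le h.le) fun e => h.ne (eq_of_le_of_card_ge h.le e.ge)
  rw [hj, hB, Nat.pow_lt_pow_iff_right hpf.out.one_lt] at h1
  exact hj ▸ Nat.pow_le_pow_right hpf.out.pos (by omega)

/-- The maps on overgroups come from the automorphisms of the first two-step centralizer. -/
theorem exc_ext (hS : IsPGroup p S) (hF : F.IsSaturated p) (hp : 5 ≤ p) (D : LastData p n S) {K : Subgroup S}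
    (hKT : K ≤ twoStep S 2) (hKn : ¬ K.Normal) (hK : F.IsEssential p (K.map S.subtype))
    (hess : ∀ R, F.IsEssential p R → Nat.card K < Nat.card R →
      R.subgroupOf S = twoStep S 2 ∨ R.subgroupOf S = twoStep S (n - 2))
    {Q : Subgroup S} (hKQ : K < Q) (hQN : Q ≤ normalizer (K : Set S)) {σ : Q.map S.subtype →* Ω}
    (hσ : σ ∈ F.Hom (Q.map S.subtype))
    (hσK : ∀ x : Q.map S.subtype, (x : Ω) ∈ K.map S.subtype → σ x ∈ K.map S.subtype) :
    MapExt F ((twoStep S 2).map S.subtype) σ := by
  classical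
  have hpp : p.Prime := hpf.out
  have h6 := D.h6
  have hn := D.hn
  have hG := D.hG
  have hcl := D.hc
  have hT : CharIn F ((twoStep S 2).map S.subtype) := twoStep_charIn 2
  have hcard : Nat.card K < Nat.card (Q.map S.subtype) := by
    rw [card_map_of_injective S.subtype_injective]
    exact lt_of_le_of_ne (card_le_of_le hKQ.le) fun e => hKQ.ne (eq_of_le_of_card_ge hKQ.le e.ge)
  rcases Nat.lt_or_ge n 8 with h8 | h8
  swap
  · have hess' : ∀ R, F.IsEssential p R → Nat.card K < Nat.card R → R = (twoStep S 2).map S.subtype := by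
      intro R hR hRc
      refine eq_map_of_subgroupOf hR.1.1 ((hess R hR hRc).resolve_right fun h => ?_)
      obtain ⟨y', c', Y⟩ := exists_lastEss D hF hR h.le (fun h1 => by
        rw [h] at h1
        have h2 := D.inf_eq
        rw [inf_eq_left.mpr h1] at h2
        have h3 := D.index_last
        rw [h2, CfsgLib.MaxClassDegree.fil_two_index hn hG hcl, pow_two] at h3
        nlinarith [hpp.two_le])
      refine Y.false_of_eq_two ?_ h8
      have h1 := Y.card
      have h2 := (twoStep S (n - 2)).card_mul_index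
      rw [h] at h1
      rw [D.index_last, h1, hG, ← pow_succ] at h2
      have := Nat.pow_right_injective hpp.two_le h2
      have := Y.hc2
      have := Y.hcn
      omega
    by_cases hQT : Q.map S.subtype ≤ (twoStep S 2).map S.subtype
    · exact extends_inside hS hF _ hT hess' hσ hcard hQT
    · exact (extends_outside hS hF _ {(twoStep S 2).map S.subtype} (fun U hU => (Set.mem_singleton_iff.mp hU) ▸ hT)
        (fun R hR hRc => ⟨_, rfl, (hess' R hR hRc).le⟩) hσ hcard
        (fun U hU => (Set.mem_singleton_iff.mp hU) ▸ hQT)).restrict hT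
  have h6n : n = 6 := by
    rcases Nat.lt_or_ge n 7 with h | h
    · omega
    · have := D.even
      rw [show n = 7 by omega] at this
      exact absurd this (by decide)
  have hcen : centralizer (K : Set S) ≤ K := centralizer_le K hK.1
  have h3 := card_ge_of_not_normal hn (by omega) hG hcl (Or.inr D) hKT hcen hKn
  have hK4 : p ^ 4 ≤ Nat.card K := by
    rw [show Nat.card K = Nat.card (K.map S.subtype) from (card_map_of_injective S.subtype_injective).symm]
    refine Cfsg.MaxClassCube.four_le_card hS hG (by omega) hp hcl hF hK ?_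
    rintro (⟨h, -⟩ | ⟨h, hx, -⟩)
    · rw [card_map_of_injective S.subtype_injective] at h
      rw [h, Nat.pow_le_pow_iff_right hpp.one_lt] at h3
      omega
    · have hc3 : Nat.card K = p ^ 3 := by rwa [card_map_of_injective S.subtype_injective] at h
      have hna : ¬ IsMulCommutative K := fun hab => by
        have hab' : ∀ a b : K.map S.subtype, a * b = b * a := fun a b => by
          obtain ⟨a, rfl⟩ := (upEquiv K).surjective a
          obtain ⟨b, rfl⟩ := (upEquiv K).surjective b
          rw [← map_mul, ← map_mul, hab.is_comm.comm]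
        have h2 := hx.2
        rw [show center (K.map S.subtype) = ⊤ from eq_top_iff.mpr fun a _ =>
          mem_center_iff.mpr fun b => hab' b a, card_top, h] at h2
        exact absurd h2 (ne_of_gt (by
          calc p = p ^ 1 := (pow_one p).symm
            _ < p ^ 3 := Nat.pow_lt_pow_right hpp.one_lt (by norm_num)))
      obtain ⟨x, hxK, hx1, -⟩ := D.pearl_shape hc3 hna hcen
      exact hx1 (hKT hxK)
  have hT5 : Nat.card (twoStep S 2) = p ^ 5 := by
    have h := (twoStep S 2).card_mul_index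
    rw [D.index_one, hG, h6n, pow_succ] at h
    exact Nat.eq_of_mul_eq_mul_right hpp.pos h
  have hKne : K ≠ twoStep S 2 := fun e => hKn (e ▸ inferInstance)
  have hK4' : Nat.card K = p ^ 4 :=
    le_antisymm (card_le_pow_of_lt (lt_of_le_of_ne hKT hKne) hT5) hK4
  have hNcard : ∀ A : Subgroup S, K < A → p ^ 5 ≤ Nat.card A := fun A hA => by
    have h := CfsgLib.MaxClassGood.card_grow hG hA
    rwa [hK4', ← pow_succ] at h
  have hK2 : ¬ K ≤ twoStep S (n - 2) := fun h => by
    have hle : K ≤ fil S 2 := fun x hx => D.inf_eq.le ⟨h hx, hKT hx⟩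
    have he : K = fil S 2 := eq_of_le_of_card_ge hle (by
      rw [hK4', CfsgLib.MaxClassRank.card_fil hn hG hcl le_rfl (by omega), h6n])
    exact hKn (he ▸ (inferInstanceAs ((⊤ : Subgroup S).lowerCentralSeries _).Normal))
  by_cases hQT : Q ≤ twoStep S 2
  swap
  · refine (extends_outside hS hF _ {(twoStep S 2).map S.subtype, (twoStep S (n - 2)).map S.subtype}
      (fun U hU => ?_) (fun R hR hRc => ?_) hσ hcard (fun U hU => ?_)).restrict hT
    · rcases hU with rfl | rfl
      exacts [hT, twoStep_charIn (n - 2)]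
    · rcases hess R hR hRc with h | h
      · exact ⟨_, Or.inl rfl, (eq_map_of_subgroupOf hR.1.1 h).le⟩
      · exact ⟨_, Or.inr rfl, (eq_map_of_subgroupOf hR.1.1 h).le⟩
    · rcases hU with rfl | rfl
      · exact fun h => hQT ((map_le_map_iff_of_injective S.subtype_injective).mp h)
      · exact fun h => hK2 (hKQ.le.trans ((map_le_map_iff_of_injective S.subtype_injective).mp h))
  have hQeq : Q = twoStep S 2 := eq_of_le_of_card_ge hQT (hT5 ▸ hNcard Q hKQ)
  have hNT : normalizer (K : Set S) = twoStep S 2 := by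
    refine (eq_of_le_of_card_ge (hQeq ▸ hQN) ?_).symm
    rw [hT5]
    refine card_le_pow_of_lt (lt_top_iff_ne_top.mpr fun e => hKn (normalizer_eq_top_iff.mp e)) ?_
    rw [card_top, hG, h6n]
  subst hQeq
  have himg : σ.range ≤ (twoStep S 2).map S.subtype := by
    rintro _ ⟨x, rfl⟩
    obtain ⟨g, hg⟩ : ∃ g : S, (g : Ω) = σ x := ⟨⟨σ x, F.apply_mem hσ x⟩, rfl⟩
    refine ⟨g, hNT.le ?_, hg⟩
    refine mem_normalizer_map.mp (mem_normalizer_of_conj (map_subtype_le' K) fun a ha => ?_)
    rw [subgroupOf, comap_map_eq_self_of_injective S.subtype_injective] at ha ⊢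
    obtain ⟨k, rfl⟩ : ∃ k : S, k = a := ⟨a, rfl⟩
    haveI : Finite (K.map S.subtype) := finite_of_le (map_subtype_le' K)
    -- the restriction to `K` is onto `K`
    have hKle : K.map S.subtype ≤ (twoStep S 2).map S.subtype := map_mono hKT
    have hr : (σ.comp (Subgroup.inclusion hKle)).range = K.map S.subtype := by
      refine eq_of_le_of_card_ge (by rintro _ ⟨u, rfl⟩; exact hσK _ u.2) ?_
      exact le_of_eq (Nat.card_congr (MonoidHom.ofInjective
        (show Function.Injective (σ.comp (Subgroup.inclusion hKle)) from fun a b e =>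
          Subgroup.inclusion_injective hKle (F.injective_of_mem hσ e))).toEquiv)
    obtain ⟨u, hu⟩ : (k : Ω) ∈ (σ.comp (Subgroup.inclusion hKle)).range := hr.ge ⟨k, ha, rfl⟩
    have hxu : ((x : Ω) * (u : Ω) * (x : Ω)⁻¹) ∈ K.map S.subtype := by
      obtain ⟨xg, hxg, hxe⟩ := x.2
      rw [← hxe]
      exact (mem_normalizer_iff.mp (mem_normalizer_map.mpr (hNT.ge hxg)) _).mp u.2
    have h := hσK (x * Subgroup.inclusion hKle u * x⁻¹) hxu
    rw [map_mul, map_mul, map_inv, ← hg, show σ (Subgroup.inclusion hKle u) = (k : Ω) from hu] at h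
    exact (mem_map_iff_mem S.subtype_injective).mp (show S.subtype (g * k * g⁻¹) ∈ K.map S.subtype from h)
  haveI : Finite ((twoStep S 2).map S.subtype) := finite_of_le (map_subtype_le' _)
  have hr := eq_of_le_of_card_ge himg
    (le_of_eq (Nat.card_congr (MonoidHom.ofInjective (F.injective_of_mem hσ)).toEquiv))
  exact ⟨F.isoOf hσ hr, F.isoOf_mem_autGroup hσ hr, fun x hx => rfl⟩

/-- The configuration attached to an essential subgroup. -/
noncomputable def excDataOf (hS : IsPGroup p S) (hF : F.IsSaturated p) (hp : 5 ≤ p) (D : LastData p n S)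
    {K : Subgroup S} (hKT : K ≤ twoStep S 2) (hKn : ¬ K.Normal) (hK : F.IsEssential p (K.map S.subtype))
    (hess : ∀ R, F.IsEssential p R → Nat.card K < Nat.card R →
      R.subgroupOf S = twoStep S 2 ∨ R.subgroupOf S = twoStep S (n - 2)) : ExcData p n S where
  last := D
  hp := hp
  H := autIn F (twoStep S 2)
  hSH := fun g => conjNormal_mem_autIn (twoStep S 2) g
  hSyl := not_dvd_relIndex_normal hS hF (twoStep S 2)
  E := K
  hET := hKT
  hcen := centralizer_le K hK.1
  hnn := hKn
  A := autIn F K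
  hPA := conj_mem_autIn K
  hSylA := not_dvd_relIndex hS hF hK.2.1
  hrad := fun _ hQA hQn hQp => radical_autIn hS hF hK hQA hQn hQp
  ext := fun _ hη _ hKQ hQN hc => ext_autIn_of_mapExt hS hF hKT hK hη hKQ hQN hc
    fun _ hσ hσK => exc_ext hS hF hp D hKT hKn hK hess hKQ hQN hσ hσK
  grp := fun M _ hMK hinv => ⟨autIn F M, fun g => conjNormal_mem_autIn M g, not_dvd_relIndex_normal hS hF M,
    fun η hη => restrict_autIn hMK hη (hinv η hη)⟩

end CfsgLib.MaxClassResidual
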