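import Cfsg.Agent.Lib.MaxClassResidual.ExcQuot

/-!
When the last layer is invariant, the quotient by it is a configuration with all two-step centralizers
equal, which is impossible.
-/

set_option autoImplicit false
set_option linter.unusedSectionVars false
set_option linter.style.haveILetI false

namespace CfsgLib.MaxClassResidual

open scoped commutatorElement
open Subgroup
open CfsgLib.PolySeq (fil fil_antitone fil_commutator_mem)
open CfsgLib.MaxClassGood (twoStep mem_twoStep)

namespace ExcData

variable {p n : ℕ} [hpf : Fact p.Prime] {S : Type*} [Group S] [Finite S] (X : ExcData p n S)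

/-- Reduction modulo the last layer on a subgroup. -/
def redOn (K : Subgroup S) : K →* K.map (QuotientGroup.mk' (fil S (n - 1))) :=
  (QuotientGroup.mk' (fil S (n - 1))).subgroupMap K

theorem redOn_surjective (K : Subgroup S) : Function.Surjective (redOn (n := n) K) :=
  (QuotientGroup.mk' (fil S (n - 1))).subgroupMap_surjective K

theorem coe_redOn (K : Subgroup S) (e : K) :
    ((redOn (n := n) K e : K.map (QuotientGroup.mk' (fil S (n - 1)))) : S ⧸ fil S (n - 1)) =
      QuotientGroup.mk' (fil S (n - 1)) (e : S) := rfl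

theorem mem_ker_redOn {K : Subgroup S} {e : K} : e ∈ (redOn (n := n) K).ker ↔ (e : S) ∈ fil S (n - 1) := by
  rw [MonoidHom.mem_ker, ← Subtype.val_inj, OneMemClass.coe_one, coe_redOn]
  exact QuotientGroup.eq_one_iff _

theorem redOn_eq_iff {K : Subgroup S} {a b : K} :
    redOn (n := n) K a = redOn K b ↔ (a : S)⁻¹ * (b : S) ∈ fil S (n - 1) := by
  rw [← Subtype.val_inj, coe_redOn, coe_redOn]
  exact QuotientGroup.eq

instance : Finite (MulAut X.E) := Finite.of_injective (fun f => (f : X.E → X.E)) DFunLike.coe_injective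

/-- No configuration whose automorphisms preserve the last layer. -/
theorem false_of_invariant_last
    (hinv : ∀ η ∈ X.A, ∀ e : X.E, (e : S) ∈ fil S (n - 1) → ((η e : X.E) : S) ∈ fil S (n - 1)) : False := by
  classical
  have hpp : p.Prime := hpf.out
  set q := QuotientGroup.mk' (fil S (n - 1)) with hq
  have hZE := X.last_le_E
  have hcomap : (X.E.map q).comap q = X.E := by
    rw [comap_map_eq, QuotientGroup.ker_mk', sup_eq_left]
    exact hZE
  let fE := redOn (n := n) X.E
  have hfE : Function.Surjective fE := redOn_surjective X.E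
  have hAs : X.A ≤ stabW fE.ker := fun a ha =>
    mem_stabW_of_le fun e he => mem_ker_redOn.mpr (hinv a ha e (mem_ker_redOn.mp he))
  set Zs : Subgroup X.E := (fil S (n - 1)).subgroupOf X.E with hZs
  have hZc : Nat.card Zs = p := by
    rw [hZs, Nat.card_congr (subgroupOfEquivOfLe hZE).toEquiv, X.last.card_last]
  have hfixcE : ∀ g : normalizer (X.E : Set S), X.cE g ∈ fixW Zs := fun g e he => by
    refine Subtype.ext ?_
    rw [coe_cE, ← X.last.central_last (mem_subgroupOf.mp he) g, mul_inv_cancel_right]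
  have hfnorm : ∀ a ∈ X.A, ∀ b ∈ fixW Zs, a * b * a⁻¹ ∈ fixW Zs := fun a ha b hb e he => by
    have h1 := hb (a⁻¹ e) (mem_subgroupOf.mpr (hinv a⁻¹ (inv_mem ha) e (mem_subgroupOf.mp he)))
    rw [MulAut.mul_apply, MulAut.mul_apply, h1, MulAut.apply_inv_self]
  have hpow : ∀ α : MulAut X.E, α ∈ fixW Zs → (∀ e : X.E, fE (α e) = fE e) → α ^ p = 1 := fun α h1 h2 =>
    pow_eq_one_of_stabilises hZc h1 fun e => mem_subgroupOf.mpr (by
      have h := (redOn_eq_iff).mp (h2 e).symm
      exact h)
  -- the kernel lies in the inner automorphisms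
  let K : Subgroup (MulAut X.E) :=
    { carrier := {α | α ∈ X.A ∧ α ∈ fixW Zs ∧ ∀ e, fE (α e) = fE e}
      one_mem' := ⟨one_mem _, one_mem _, fun _ => rfl⟩
      mul_mem' := fun {a b} ha hb => ⟨mul_mem ha.1 hb.1, mul_mem ha.2.1 hb.2.1, fun e => by
        rw [MulAut.mul_apply, ha.2.2, hb.2.2]⟩
      inv_mem' := fun {a} ha => ⟨inv_mem ha.1, inv_mem ha.2.1, fun e => by
        have h := ha.2.2 (a⁻¹ e)
        rw [MulAut.apply_inv_self] at h
        exact h.symm⟩ }
  have hKinn : K ≤ innE X.E := by
    have key : ∀ a ∈ X.A, ∀ b ∈ K, a * b * a⁻¹ ∈ K := fun a ha b hb =>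
      ⟨mul_mem (mul_mem ha hb.1) (inv_mem ha), hfnorm a ha b hb.2.1, fun e => by
        have h := congrArg (descend fE hfE ⟨a, hAs ha⟩) (hb.2.2 (a⁻¹ e))
        rw [descend_apply, descend_apply, MulAut.apply_inv_self] at h
        rw [MulAut.mul_apply, MulAut.mul_apply]
        exact h⟩
    refine X.hrad K (fun a ha => ha.1) (fun a ha => mem_normalizer_iff.mpr fun b => ⟨key a ha b, fun h => ?_⟩)
      fun a => ⟨1, Subtype.ext (by rw [pow_one, Subgroup.coe_pow]; exact hpow _ a.2.2.1 a.2.2.2)⟩
    have := key a⁻¹ (inv_mem ha) _ h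
    simpa [mul_assoc] using this
  -- conjugation downstairs
  have hNmem : ∀ g : S, q g ∈ normalizer (X.E.map q : Set (S ⧸ fil S (n - 1))) → g ∈ normalizer (X.E : Set S) := by
    intro g hg
    refine mem_normalizer_iff.mpr fun e => ?_
    conv_lhs => rw [← hcomap, mem_comap]
    conv_rhs => rw [← hcomap, mem_comap, map_mul, map_mul, map_inv]
    exact mem_normalizer_iff.mp hg (q e)
  have hNmap : ∀ g ∈ normalizer (X.E : Set S), q g ∈ normalizer (X.E.map q : Set (S ⧸ fil S (n - 1))) :=
    fun g hg => le_normalizer_map q (mem_map_of_mem q hg)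
  have hcEd : ∀ g : normalizer (X.E : Set S), descend fE hfE ⟨X.cE g, hAs (X.hPA g)⟩ =
      (X.E.map q).normalizerMonoidHom ⟨q g, hNmap g g.2⟩ := fun g =>
    descend_eq _ _ fun e => Subtype.ext (by
      show q ((X.cE g e : X.E) : S) = q (g : S) * q (e : S) * (q (g : S))⁻¹
      rw [X.coe_cE, map_mul, map_mul, map_inv])
  have hcentmem : ∀ g : S, q g ∈ centralizer (X.E.map q : Set (S ⧸ fil S (n - 1))) → g ∈ X.E := by
    intro g hg
    have hgN : g ∈ normalizer (X.E : Set S) := hNmem g (mem_normalizer_iff.mpr fun y => by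
      constructor
      · intro hy
        rw [← mem_centralizer_iff.mp hg y hy, mul_inv_cancel_right]
        exact hy
      · intro hy
        have h := mem_centralizer_iff.mp hg _ hy
        rw [inv_mul_cancel_right] at h
        rw [← mul_left_cancel h] at hy
        exact hy)
    refine X.mem_of_inn (g := ⟨g, hgN⟩) (hKinn ⟨X.hPA _, hfixcE _, fun e => Subtype.ext ?_⟩)
    show q ((X.cE ⟨g, hgN⟩ e : X.E) : S) = q (e : S)
    rw [X.coe_cE, map_mul, map_mul, map_inv, ← mem_centralizer_iff.mp hg (q e) (mem_map_of_mem q e.2),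
      mul_inv_cancel_right]
  let D : Data p (S ⧸ fil S (n - 1)) :=
    { toHData := X.quotHData
      E := X.E.map q
      hET := by
        rintro _ ⟨e, he, rfl⟩
        exact (X.last.mem_frameQ_T e).mpr (X.hET he)
      hcen := fun gb hg => by
        obtain ⟨g, rfl⟩ := QuotientGroup.mk'_surjective (fil S (n - 1)) gb
        exact mem_map_of_mem q (hcentmem g hg)
      hnn := fun h => X.hnn (hcomap ▸ (h.comap q))
      A := descendGroup fE hfE X.A
      hPA := fun gb => by
        obtain ⟨g, hg⟩ := QuotientGroup.mk'_surjective (fil S (n - 1)) (gb : S ⧸ fil S (n - 1))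
        have hgN : g ∈ normalizer (X.E : Set S) := hNmem g (hg.symm ▸ gb.2)
        refine (mem_descendGroup _ _).mpr ⟨_, X.hPA ⟨g, hgN⟩, hAs (X.hPA _), ?_⟩
        rw [show gb = ⟨q g, hNmap g hgN⟩ from Subtype.ext hg.symm]
        exact hcEd ⟨g, hgN⟩
      hSylA := fun hd => by
        have hR : X.cE.range ≤ stabW fE.ker := by rintro _ ⟨g, rfl⟩; exact hAs (X.hPA g)
        have he : descendGroup fE hfE X.cE.range ≤ (X.E.map q).normalizerMonoidHom.range := by
          intro b hb
          obtain ⟨a, ⟨g, rfl⟩, hs, rfl⟩ := (mem_descendGroup _ _).mp hb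
          exact ⟨_, (hcEd g).symm⟩
        have h := (hd.trans (relIndex_dvd_of_le_left _ he)).trans
          (relIndex_descendGroup fE hfE (A := X.A) hR)
        rw [inf_eq_left.mpr hAs] at h
        exact X.hSylA h
      hrad := fun Q hQA hQn hQp b hb => by
        let Qt : Subgroup (MulAut X.E) :=
          { carrier := {α | ∃ h : α ∈ X.A, α ∈ fixW Zs ∧ descend fE hfE ⟨α, hAs h⟩ ∈ Q}
            one_mem' := ⟨one_mem _, one_mem _, by
              rw [show (⟨(1 : MulAut X.E), hAs (one_mem X.A)⟩ : stabW fE.ker) = 1 from rfl, map_one]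
              exact one_mem Q⟩
            mul_mem' := fun {a b} ⟨ha, ha1, ha2⟩ ⟨hb, hb1, hb2⟩ => ⟨mul_mem ha hb, mul_mem ha1 hb1, by
              rw [show (⟨a * b, hAs (mul_mem ha hb)⟩ : stabW fE.ker) = ⟨a, hAs ha⟩ * ⟨b, hAs hb⟩ from rfl, map_mul]
              exact mul_mem ha2 hb2⟩
            inv_mem' := fun {a} ⟨ha, ha1, ha2⟩ => ⟨inv_mem ha, inv_mem ha1, by
              rw [show (⟨a⁻¹, hAs (inv_mem ha)⟩ : stabW fE.ker) = (⟨a, hAs ha⟩ : stabW fE.ker)⁻¹ from rfl, map_inv]
              exact inv_mem ha2⟩ }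
        have key : ∀ a ∈ X.A, ∀ c ∈ Qt, a * c * a⁻¹ ∈ Qt := by
          rintro a ha c ⟨hc, hc1, hc2⟩
          refine ⟨mul_mem (mul_mem ha hc) (inv_mem ha), hfnorm a ha c hc1, ?_⟩
          rw [show (⟨a * c * a⁻¹, hAs (mul_mem (mul_mem ha hc) (inv_mem ha))⟩ : stabW fE.ker) =
            ⟨a, hAs ha⟩ * ⟨c, hAs hc⟩ * (⟨a, hAs ha⟩ : stabW fE.ker)⁻¹ from rfl, map_mul, map_mul, map_inv]
          exact (mem_normalizer_iff.mp (hQn ((mem_descendGroup _ _).mpr ⟨a, ha, hAs ha, rfl⟩)) _).mp hc2
        have hQt : Qt ≤ innE X.E := by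
          refine X.hrad Qt (fun a ha => ha.1) (fun a ha => mem_normalizer_iff.mpr fun c => ⟨key a ha c, fun h => ?_⟩) ?_
          · have := key a⁻¹ (inv_mem ha) _ h
            simpa [mul_assoc] using this
          · rintro ⟨α, ha, ha1, ha2⟩
            obtain ⟨k, hk⟩ := hQp ⟨_, ha2⟩
            refine ⟨k + 1, Subtype.ext ?_⟩
            show α ^ p ^ (k + 1) = 1
            rw [pow_succ, pow_mul]
            refine hpow _ (pow_mem ha1 _) fun e => ?_
            have h1 : descend fE hfE (⟨α, hAs ha⟩ ^ p ^ k) = 1 := by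
              rw [map_pow]; exact congrArg Subtype.val hk
            have h2 := descend_apply fE hfE (⟨α, hAs ha⟩ ^ p ^ k) e
            rw [h1, MulAut.one_apply, Subgroup.coe_pow] at h2
            exact h2.symm
        obtain ⟨a, ha, has, rfl⟩ := (mem_descendGroup _ _).mp (hQA hb)
        -- a lift fixing the last layer
        obtain ⟨k, hk⟩ := hQp ⟨_, hb⟩
        have hk' : descend fE hfE ⟨a, has⟩ ^ p ^ k = 1 := congrArg Subtype.val hk
        have hcop : (p - 1).Coprime (p ^ k) := Nat.Coprime.pow_right k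
          (show Nat.Coprime p (p - 1) from hpp.coprime_iff_not_dvd.mpr fun h => by
            have := X.hp
            have := Nat.le_of_dvd (show 0 < p - 1 by omega) h
            omega).symm
        have hz1 : ∀ e ∈ Zs, (a ^ (p - 1)) e = e := by
          intro e he
          rcases eq_or_ne e 1 with rfl | hne
          · rw [map_one]
          refine pow_fix_of_zpow (p := p) ?_ ?_ hne
          · exact Subtype.ext (by rw [SubmonoidClass.coe_pow]; exact X.last.pow_last_one (mem_subgroupOf.mp he))
          · have hgen : zpowers e = Zs := by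
              refine eq_of_le_of_card_ge (zpowers_le.mpr he) ?_
              rw [hZc, Nat.card_zpowers]
              refine le_of_eq (orderOf_eq_prime ?_ hne).symm
              exact Subtype.ext (by rw [SubmonoidClass.coe_pow]; exact X.last.pow_last_one (mem_subgroupOf.mp he))
            rw [hgen]
            exact mem_subgroupOf.mpr (hinv a ha e (mem_subgroupOf.mp he))
        obtain ⟨j, hj⟩ := exists_pow_eq_self_of_coprime (x := descend fE hfE ⟨a, has⟩)
          (hcop.coprime_dvd_right (orderOf_dvd_of_pow_eq_one hk'))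
        have hmem : (a ^ (p - 1)) ^ j ∈ Qt := by
          refine ⟨pow_mem (pow_mem ha _) _, pow_mem (show a ^ (p - 1) ∈ fixW Zs from hz1) _, ?_⟩
          rw [show (⟨(a ^ (p - 1)) ^ j, hAs (pow_mem (pow_mem ha _) _)⟩ : stabW fE.ker) = (⟨a, has⟩ ^ (p - 1)) ^ j
            from rfl, map_pow, map_pow, hj]
          exact hb
        obtain ⟨e, he⟩ := hQt hmem
        refine ⟨fE e, ?_⟩
        rw [← hj, ← map_pow, ← map_pow]
        refine (descend_eq _ _ fun x => ?_).symm
        rw [Subgroup.coe_pow, Subgroup.coe_pow]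
        show fE (((a ^ (p - 1)) ^ j) x) = _
        rw [← he, MulAut.conj_apply, MulAut.conj_apply, map_mul, map_mul, map_inv]
      ext := fun b hb Q hEQ hQN hc => by
        obtain ⟨η, hη, has, rfl⟩ := (mem_descendGroup _ _).mp hb
        obtain ⟨α, hα, he⟩ := X.ext η hη (Q.comap q)
          (lt_of_le_of_ne (fun e he => mem_comap.mpr (hEQ.le (mem_map_of_mem q he))) fun h => hEQ.ne (by
            rw [h, map_comap_eq_self_of_surjective (QuotientGroup.mk'_surjective _)]))
          (fun g hg => hNmem g (hQN hg))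
          (fun g hg => by
            obtain ⟨g', -, hg'⟩ := hc ⟨q g, hNmap g g.2⟩ hg
            obtain ⟨g1, hg1⟩ := QuotientGroup.mk'_surjective (fil S (n - 1)) (g' : S ⧸ fil S (n - 1))
            have hg1N : g1 ∈ normalizer (X.E : Set S) := hNmem g1 (hg1.symm ▸ g'.2)
            set c := η * X.cE g * η⁻¹ with hcdef
            have hcA : c ∈ X.A := mul_mem (mul_mem hη (X.hPA g)) (inv_mem hη)
            have hd : descend fE hfE ⟨c, hAs hcA⟩ = descend fE hfE ⟨X.cE ⟨g1, hg1N⟩, hAs (X.hPA _)⟩ := by
              rw [hcEd ⟨g1, hg1N⟩, show (⟨q g1, hNmap g1 hg1N⟩ : normalizer (X.E.map q : Set (S ⧸ fil S (n - 1)))) = g'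
                from Subtype.ext hg1, ← hg', show (⟨c, hAs hcA⟩ : stabW fE.ker) =
                  ⟨η, has⟩ * ⟨X.cE g, hAs (X.hPA g)⟩ * (⟨η, has⟩ : stabW fE.ker)⁻¹ from rfl,
                map_mul, map_mul, map_inv, hcEd g]
            obtain ⟨e, he⟩ := hKinn (show (X.cE ⟨g1, hg1N⟩)⁻¹ * c ∈ K from
              ⟨mul_mem (inv_mem (X.hPA _)) hcA, mul_mem (inv_mem (hfixcE _)) (hfnorm η hη _ (hfixcE g)), fun x => by
                have h1 := descend_apply fE hfE ((⟨X.cE ⟨g1, hg1N⟩, hAs (X.hPA _)⟩ : stabW fE.ker)⁻¹ * ⟨c, hAs hcA⟩) x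
                rw [map_mul, map_inv, hd, inv_mul_cancel, MulAut.one_apply] at h1
                exact h1.symm⟩)
            refine ⟨⟨g1, hg1N⟩ * ⟨e, le_normalizer e.2⟩, ?_⟩
            rw [map_mul]
            show c = X.cE ⟨g1, hg1N⟩ * X.E.normalizerMonoidHom ⟨e, le_normalizer e.2⟩
            rw [show X.E.normalizerMonoidHom ⟨(e : S), le_normalizer e.2⟩ = MulAut.conj e from
              MulEquiv.ext fun y => Subtype.ext rfl, he, mul_inv_cancel_left])
        refine ⟨descend X.redT X.redT_surjective ⟨α, X.mem_stab_redT α⟩,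
          (mem_descendGroup _ _).mpr ⟨α, hα, X.mem_stab_redT α, rfl⟩, fun eb => ?_⟩
        obtain ⟨e, rfl⟩ := hfE eb
        exact (congrArg Subtype.val (descend_apply X.redT X.redT_surjective ⟨α, X.mem_stab_redT α⟩
          ⟨(e : S), X.hET e.2⟩)).trans ((congrArg q (he e)).trans
            (congrArg Subtype.val (descend_apply fE hfE ⟨η, has⟩ e)).symm)
      grp := fun Mb hMn hMb hMinv => by
        have hME : Mb.comap q ≤ X.E := (comap_mono hMb).trans hcomap.le
        haveI : (Mb.comap q).Normal := hMn.comap q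
        have hMA : ∀ η ∈ X.A, ∀ e : X.E, (e : S) ∈ Mb.comap q → ((η e : X.E) : S) ∈ Mb.comap q := by
          intro η hη e he
          have h := hMinv _ ((mem_descendGroup _ _).mpr ⟨η, hη, hAs hη, rfl⟩) (fE e) he
          rw [descend_apply] at h
          exact h
        obtain ⟨G, hG1, hG2, hG3⟩ := X.grp (Mb.comap q) hME hMA
        let fM : Mb.comap q →* Mb := q.subgroupComap Mb
        have hfM : Function.Surjective fM :=
          MonoidHom.subgroupComap_surjective_of_surjective q Mb (QuotientGroup.mk'_surjective _)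
        have hker : ∀ {x : Mb.comap q}, x ∈ fM.ker ↔ (x : S) ∈ fil S (n - 1) := fun {x} => by
          rw [MonoidHom.mem_ker, ← Subtype.val_inj, OneMemClass.coe_one]
          exact QuotientGroup.eq_one_iff _
        haveI : Finite (MulAut (Mb.comap q)) :=
          Finite.of_injective (fun f => (f : Mb.comap q → Mb.comap q)) DFunLike.coe_injective
        have hR : (MulAut.conjNormal : S →* MulAut (Mb.comap q)).range ≤ stabW fM.ker := by
          rintro _ ⟨g, rfl⟩
          refine mem_stabW_of_le fun x hx => hker.mpr ?_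
          rw [MulAut.conjNormal_apply]
          exact (CfsgLib.PolySeq.fil_normal (G := S) _).conj_mem _ (hker.mp hx) g
        have hd : ∀ g : S, descend fM hfM ⟨MulAut.conjNormal g, hR ⟨g, rfl⟩⟩ = MulAut.conjNormal (q g) := fun g =>
          descend_eq _ _ fun x => Subtype.ext (by
            show q ((MulAut.conjNormal g x : Mb.comap q) : S) = ((MulAut.conjNormal (q g) (fM x) : Mb) : S ⧸ fil S (n - 1))
            rw [MulAut.conjNormal_apply, MulAut.conjNormal_apply, map_mul, map_mul, map_inv]
            rfl)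
        refine ⟨descendGroup fM hfM G, fun gb => ?_, fun hdv => ?_, fun b hb => ?_⟩
        · obtain ⟨g, rfl⟩ := QuotientGroup.mk'_surjective (fil S (n - 1)) gb
          exact (mem_descendGroup _ _).mpr ⟨_, hG1 g, hR ⟨g, rfl⟩, hd g⟩
        · have he : descendGroup fM hfM (MulAut.conjNormal : S →* MulAut (Mb.comap q)).range ≤
              (MulAut.conjNormal : S ⧸ fil S (n - 1) →* MulAut Mb).range := by
            intro b hb
            obtain ⟨a, ⟨g, rfl⟩, hs, rfl⟩ := (mem_descendGroup _ _).mp hb
            exact ⟨_, (hd g).symm⟩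
          refine hG2 ((hdv.trans (relIndex_dvd_of_le_left _ he)).trans
            ((relIndex_descendGroup fM hfM (A := G) hR).trans ?_))
          exact Dvd.intro _ (relIndex_mul_relIndex _ _ _
            (show (MulAut.conjNormal : S →* MulAut (Mb.comap q)).range ≤ G ⊓ stabW fM.ker
              from le_inf (by rintro _ ⟨g, rfl⟩; exact hG1 g) hR) inf_le_left)
        · obtain ⟨η, hη, has, rfl⟩ := (mem_descendGroup _ _).mp hb
          obtain ⟨γ, hγ, hγe⟩ := hG3 η hη
          have hγs : γ ∈ stabW fM.ker := mem_stabW_of_le fun x hx => hker.mpr (by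
            rw [hγe x]; exact hinv η hη _ (hker.mp hx))
          refine ⟨descend fM hfM ⟨γ, hγs⟩, (mem_descendGroup _ _).mpr ⟨γ, hγ, hγs, rfl⟩, fun mb => ?_⟩
          obtain ⟨x, rfl⟩ := hfM mb
          exact (congrArg Subtype.val (descend_apply fM hfM ⟨γ, hγs⟩ x)).trans ((congrArg q (hγe x)).trans
            (congrArg Subtype.val (descend_apply fE hfE ⟨η, has⟩ ⟨(x : S), hME x.2⟩)).symm) }
  exact D.impossible

end ExcData

end CfsgLib.MaxClassResidual
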