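import Cfsg.Agent.Lib.MaxClassResidual.ExcQuot

/-!
The images of the last layer outside it: their centralizers, layers and the shape of the subgroup.
-/

set_option autoImplicit false
set_option linter.unusedSectionVars false
set_option linter.style.haveILetI false
set_option linter.unusedVariables false

namespace CfsgLib.MaxClassResidual

open scoped commutatorElement
open Subgroup
open CfsgLib.PolySeq (fil fil_antitone fil_commutator_mem)
open CfsgLib.MaxClassGood (twoStep mem_twoStep)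

namespace ExcData

variable {p n : ℕ} [hpf : Fact p.Prime] {S : Type*} [Group S] [Finite S] (X : ExcData p n S)

instance finite_autE : Finite (MulAut X.E) := Finite.of_injective (fun f => (f : X.E → X.E)) DFunLike.coe_injective

theorem ne_one_of_moved {a : MulAut X.E} {e0 : X.E} (hw : ((a e0 : X.E) : S) ∉ fil S (n - 1)) : e0 ≠ 1 := fun h =>
  hw (by rw [h, map_one]; exact one_mem _)

theorem pow_last_E {e0 : X.E} (he0 : (e0 : S) ∈ fil S (n - 1)) : e0 ^ p = 1 :=
  Subtype.ext (by rw [SubmonoidClass.coe_pow]; exact X.last.pow_last_one he0)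

theorem last_zpowers {e0 : X.E} (he0 : (e0 : S) ∈ fil S (n - 1)) (hne : e0 ≠ 1) {e : X.E}
    (he : (e : S) ∈ fil S (n - 1)) : ∃ j : ℤ, e0 ^ j = e := by
  set Zs : Subgroup X.E := (fil S (n - 1)).subgroupOf X.E
  have hgen : zpowers e0 = Zs := by
    refine eq_of_le_of_card_ge (zpowers_le.mpr (mem_subgroupOf.mpr he0)) ?_
    rw [Nat.card_congr (subgroupOfEquivOfLe X.last_le_E).toEquiv, X.last.card_last, Nat.card_zpowers,
      orderOf_eq_prime (X.pow_last_E he0) hne]
  exact mem_zpowers_iff.mp (hgen ▸ mem_subgroupOf.mpr he)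

theorem moved_central (a : MulAut X.E) {e0 : X.E} (he0 : (e0 : S) ∈ fil S (n - 1)) (e : X.E) :
    a e0 * e = e * a e0 := by
  have h : e0 * a⁻¹ e = a⁻¹ e * e0 := Subtype.ext (X.last.central_last he0 _)
  have := congrArg a h
  rwa [map_mul, map_mul, MulAut.apply_inv_self] at this

/-- A moved element of the last layer is centralized by no element normalizing the subgroup outside it. -/
theorem moved_not_comm {a : MulAut X.E} (ha : a ∈ X.A) {e0 : X.E} (he0 : (e0 : S) ∈ fil S (n - 1))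
    (hw : ((a e0 : X.E) : S) ∉ fil S (n - 1)) {g : normalizer (X.E : Set S)} (hg : (g : S) ∉ X.E) :
    (g : S) * (a e0 : X.E) ≠ (a e0 : X.E) * g := by
  intro hgw
  set Pc : Subgroup (normalizer (X.E : Set S)) :=
    (centralizer ({((a e0 : X.E) : S)} : Set S)).subgroupOf _ with hPc
  set K : Subgroup (MulAut X.E) := X.A ⊓ fixW (zpowers e0) with hK
  have hRK : X.cE.range ≤ K := by
    rintro _ ⟨y, rfl⟩
    refine ⟨X.hPA y, fun x hx => Subtype.ext ?_⟩
    obtain ⟨j, rfl⟩ := mem_zpowers_iff.mp hx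
    have hz : ((e0 ^ j : X.E) : S) ∈ fil S (n - 1) := by rw [SubgroupClass.coe_zpow]; exact zpow_mem he0 j
    rw [coe_cE, ← X.last.central_last hz, mul_inv_cancel_right]
  have hconj : ∀ y ∈ Pc, a⁻¹ * X.cE y * a ∈ K := by
    intro y hy
    refine ⟨(mul_mem (mul_mem (inv_mem ha) (X.hPA y)) ha : a⁻¹ * X.cE y * a ∈ X.A), fun x hx => ?_⟩
    obtain ⟨j, rfl⟩ := mem_zpowers_iff.mp hx
    rw [map_zpow]
    congr 1
    have h1 : X.cE y (a e0) = a e0 := Subtype.ext (by
      rw [coe_cE, mem_centralizer_singleton_iff.mp (mem_subgroupOf.mp hy), mul_inv_cancel_right])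
    rw [MulAut.mul_apply, MulAut.mul_apply, h1, MulAut.inv_apply_self]
  have hP : IsPGroup p X.cE.range :=
    ((IsPGroup.of_card X.last.hG).to_subgroup (normalizer (X.E : Set S))).of_surjective X.cE.rangeRestrict
      X.cE.rangeRestrict_surjective
  let R : Sylow p K := (show IsPGroup p (X.cE.range.subgroupOf K) from
    hP.comap_of_injective _ K.subtype_injective).toSylow (fun hd => X.hSylA (hd.trans
      (Dvd.intro _ (relIndex_mul_relIndex _ _ _ hRK inf_le_left))))
  let W : Subgroup (MulAut X.E) := (Pc.map X.cE).map (MulAut.conj a⁻¹).toMonoidHom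
  have hWK : W ≤ K := by
    rintro _ ⟨_, ⟨y, hy, rfl⟩, rfl⟩
    simpa using hconj y hy
  have hWp : IsPGroup p (W.subgroupOf K) :=
    ((((IsPGroup.of_card X.last.hG).to_subgroup _).to_subgroup Pc).map X.cE |>.map _).comap_of_injective _
      K.subtype_injective
  obtain ⟨R', hR'⟩ := hWp.exists_le_sylow
  obtain ⟨k, hk⟩ := MulAction.exists_smul_eq K R' R
  obtain ⟨α, hα, he⟩ := X.ext ((k : MulAut X.E) * a⁻¹) (mul_mem k.2.1 (inv_mem ha))
    (Pc.map (normalizer (X.E : Set S)).subtype)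
    (lt_of_le_of_ne (fun e he => ⟨⟨e, le_normalizer he⟩, mem_subgroupOf.mpr (mem_centralizer_singleton_iff.mpr
        (congrArg Subtype.val (X.moved_central a he0 ⟨e, he⟩)).symm), rfl⟩)
      fun h => hg (h.ge ⟨g, mem_subgroupOf.mpr (mem_centralizer_singleton_iff.mpr hgw), rfl⟩))
    (map_subtype_le _)
    (fun q hq => by
      obtain ⟨y, hy, hyq⟩ := hq
      obtain rfl : y = q := Subtype.ext hyq
      have hmem : (⟨a⁻¹ * X.cE y * a, hconj y hy⟩ : K) ∈ (R' : Subgroup K) :=
        hR' (mem_subgroupOf.mpr ⟨X.cE y, mem_map_of_mem _ hy, by simp⟩)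
      have hR : k * ⟨a⁻¹ * X.cE y * a, hconj y hy⟩ * k⁻¹ ∈ (R : Subgroup K) := by
        rw [← hk]; exact ⟨_, hmem, rfl⟩
      obtain ⟨q', hq'⟩ := mem_subgroupOf.mp hR
      refine ⟨q', ?_⟩
      have e1 : X.E.normalizerMonoidHom q' = (k : MulAut X.E) * (a⁻¹ * X.cE y * a) * (k : MulAut X.E)⁻¹ := hq'
      rw [e1, show X.E.normalizerMonoidHom y = X.cE y from rfl, mul_inv_rev, inv_inv]
      group)
  have h1 := he (a e0)
  rw [MulAut.mul_apply, MulAut.inv_apply_self, k.2.2 e0 (mem_zpowers e0)] at h1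
  refine hw ?_
  have h2 := X.last.last_invariant α⁻¹ (u := α ⟨_, X.hET (a e0).2⟩) (by rw [h1]; exact he0)
  rwa [MulAut.inv_apply_self] at h2

/-- The centralizer of a moved element of the last layer is inside the subgroup. -/
theorem moved_centralizer {a : MulAut X.E} (ha : a ∈ X.A) {e0 : X.E} (he0 : (e0 : S) ∈ fil S (n - 1))
    (hw : ((a e0 : X.E) : S) ∉ fil S (n - 1)) : centralizer ({((a e0 : X.E) : S)} : Set S) ≤ X.E := by
  intro g hg
  by_contra hgE
  set C := centralizer ({((a e0 : X.E) : S)} : Set S)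
  have hEC : X.E ≤ C := fun e he =>
    mem_centralizer_singleton_iff.mpr (congrArg Subtype.val (X.moved_central a he0 ⟨e, he⟩)).symm
  haveI : Group.IsNilpotent C := ((IsPGroup.of_card X.last.hG).to_subgroup C).isNilpotent
  have hlt : X.E.subgroupOf C < ⊤ := lt_top_iff_ne_top.mpr fun h =>
    hgE (mem_subgroupOf.mp (h.ge (mem_top (⟨g, hg⟩ : C))))
  obtain ⟨y, hyN, hyE⟩ := SetLike.exists_of_lt (Group.normalizerCondition_of_isNilpotent _ hlt)
  have hyN' : (y : S) ∈ normalizer (X.E : Set S) := by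
    refine mem_normalizer_iff.mpr fun e => ?_
    constructor
    · intro he
      exact ((mem_normalizer_iff.mp hyN) ⟨e, hEC he⟩).mp he
    · intro he
      have heC : e ∈ C := by
        have := mul_mem (mul_mem (inv_mem y.2) (hEC he)) y.2
        simpa [mul_assoc] using this
      exact ((mem_normalizer_iff.mp hyN) ⟨e, heC⟩).mpr he
  exact X.moved_not_comm ha he0 hw (g := ⟨y, hyN'⟩) (fun h => hyE (mem_subgroupOf.mpr h))
    (mem_centralizer_singleton_iff.mp y.2)

/-- The layer of a moved element. -/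
theorem moved_layer {a : MulAut X.E} (ha : a ∈ X.A) {e0 : X.E} (he0 : (e0 : S) ∈ fil S (n - 1))
    (hw : ((a e0 : X.E) : S) ∉ fil S (n - 1)) :
    ∃ m, 1 ≤ m ∧ m + 2 ≤ n ∧ ((a e0 : X.E) : S) ∈ X.last.TL m ∧ ((a e0 : X.E) : S) ∉ X.last.TL (m + 1) ∧
      X.last.TL (n - m) ≤ X.E ∧ ¬ X.last.TL (n - 1 - m) ≤ X.E := by
  obtain ⟨m, h1, hm, hm1, hm2⟩ := X.last.exists_layer (X.hET (a e0).2) hw
  refine ⟨m, h1, hm, hm1, hm2, fun x hx => X.moved_centralizer ha he0 hw
    (mem_centralizer_singleton_iff.mpr (X.last.comm_one (by omega) hx hm1)), fun hle => ?_⟩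
  obtain ⟨v, hv, hne⟩ := X.last.partner m h1 hm _ hm1 hm2
  exact hne (congrArg Subtype.val (X.moved_central a he0 ⟨v, hle hv⟩))

/-- All moved elements have the same layer. -/
theorem moved_layer_unique {a : MulAut X.E} (ha : a ∈ X.A) {e0 : X.E} (he0 : (e0 : S) ∈ fil S (n - 1))
    (hw : ((a e0 : X.E) : S) ∉ fil S (n - 1)) {m : ℕ} (hm : m + 2 ≤ n) (hle : X.last.TL (n - m) ≤ X.E)
    (hnle : ¬ X.last.TL (n - 1 - m) ≤ X.E) :
    ((a e0 : X.E) : S) ∈ X.last.TL m ∧ ((a e0 : X.E) : S) ∉ X.last.TL (m + 1) := by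
  obtain ⟨m', h1', hm', hw1, hw2, hle', hnle'⟩ := X.moved_layer ha he0 hw
  obtain rfl : m' = m := by
    rcases Nat.lt_trichotomy m' m with h | h | h
    · exact absurd ((X.last.TL_anti (by omega)).trans hle) hnle'
    · exact h
    · exact absurd ((X.last.TL_anti (by omega)).trans hle') hnle
  exact ⟨hw1, hw2⟩

/-- An element whose commutators with the subgroup lie in the last layer is central in it. -/
theorem central_of_comm {a : MulAut X.E} (ha : a ∈ X.A) {e0 : X.E} (he0 : (e0 : S) ∈ fil S (n - 1))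
    (hw : ((a e0 : X.E) : S) ∉ fil S (n - 1)) {m : ℕ} (h1 : 1 ≤ m) (hm : m + 2 ≤ n)
    (hle : X.last.TL (n - m) ≤ X.E) (hwm' : ((a e0 : X.E) : S) ∉ X.last.TL (m + 1)) {y : X.E}
    (hy : ∀ e : X.E, ⁅(y : S), (e : S)⁆ ∈ fil S (n - 1)) (e : X.E) : y * e = e * y := by
  have hne := X.ne_one_of_moved hw
  have hpw : ((a e0 : X.E) : S) ^ p = 1 := by
    rw [← SubmonoidClass.coe_pow, ← map_pow, X.pow_last_E he0, map_one]; rfl
  have himg : ∀ f : X.E, ∃ j : ℤ, ⁅((a y : X.E) : S), (f : S)⁆ = ((a e0 : X.E) : S) ^ j := by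
    intro f
    obtain ⟨j, hj⟩ := X.last_zpowers he0 hne (e := ⁅y, a⁻¹ f⁆) (hy _)
    refine ⟨j, ?_⟩
    have h := congrArg a hj
    rw [map_zpow, map_commutatorElement, MulAut.apply_inv_self] at h
    rw [← SubgroupClass.coe_zpow, h]
    rfl
  have hcen : ∀ f : X.E, ⁅((a y : X.E) : S), (f : S)⁆ = 1 := by
    by_cases hym : ((a y : X.E) : S) ∈ X.last.TL m
    · intro f
      obtain ⟨j, hj⟩ := himg f
      rw [hj]
      refine zpow_mem_elim hpw hwm' ?_
      rw [← hj, X.last.TL_of_two (by omega)]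
      exact fil_commutator_mem (j := 1) (X.last.TL_le_fil hym) (mem_top _)
    · exfalso
      obtain ⟨l, hl1, hl, hyl, hyl'⟩ := X.last.exists_layer (X.hET (a y).2) fun h => hym (by
        rcases Nat.lt_or_ge 1 m with h2 | h2
        · rw [X.last.TL_of_two h2]; exact fil_antitone (by omega) h
        · rw [X.last.TL_of_le h2]; exact X.hET (a y).2)
      have hlm : l < m := by
        by_contra hcon
        exact hym (X.last.TL_anti (not_lt.mp hcon) hyl)
      obtain ⟨v, hv, hne'⟩ := X.last.partner l hl1 hl _ hyl hyl'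
      obtain ⟨j, hj⟩ := himg ⟨v, hle (X.last.TL_anti (by omega) hv)⟩
      refine hne' (commutatorElement_eq_one_iff_mul_comm.mp ?_)
      change ⁅((a y : X.E) : S), v⁆ = _ at hj
      rw [hj]
      refine zpow_mem_elim hpw hw ?_
      rw [← hj]
      exact X.last.comm_mem (j := l) (k := n - 1 - l) hl1 (by omega) (by omega) (by omega) hyl hv
  have h : a y * a e = a e * a y :=
    Subtype.ext (commutatorElement_eq_one_iff_mul_comm.mp (hcen (a e)))
  rw [← map_mul, ← map_mul] at h
  exact a.injective h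

/-- The subgroup lies in the layers from that of a moved element on. -/
theorem le_layer {a : MulAut X.E} (ha : a ∈ X.A) {e0 : X.E} (he0 : (e0 : S) ∈ fil S (n - 1))
    (hw : ((a e0 : X.E) : S) ∉ fil S (n - 1)) {m : ℕ} (h1 : 1 ≤ m) (hm : m + 2 ≤ n)
    (hle : X.last.TL (n - m) ≤ X.E) (hwm' : ((a e0 : X.E) : S) ∉ X.last.TL (m + 1)) :
    X.E ≤ X.last.TL m := by
  have key : ∀ d, d ≤ m → X.E ≤ X.last.TL d := by
    intro d
    induction d with
    | zero => intro _; rw [X.last.TL_of_le (by omega)]; exact X.hET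
    | succ d ih =>
      intro hd e he
      rcases Nat.eq_zero_or_pos d with rfl | hd0
      · rw [X.last.TL_of_le (by omega)]; exact X.hET he
      by_contra hne
      obtain ⟨v, hv, hev⟩ := X.last.partner d hd0 (by omega) e (ih (by omega) he) hne
      have hvE : v ∈ X.E := hle (X.last.TL_anti (by omega) hv)
      have h := X.central_of_comm ha he0 hw h1 hm hle hwm' (y := ⟨v, hvE⟩) (fun f =>
        X.last.comm_mem (j := n - 1 - d) (k := d) (by omega) hd0 (by omega) (by omega) hv (ih (by omega) f.2))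
        ⟨e, he⟩
      exact hev (congrArg Subtype.val h).symm
  exact key m le_rfl

/-- The layer of a moved element lies in the lower half. -/
theorem layer_lt {a : MulAut X.E} (ha : a ∈ X.A) {e0 : X.E} (he0 : (e0 : S) ∈ fil S (n - 1))
    (hw : ((a e0 : X.E) : S) ∉ fil S (n - 1)) {m : ℕ} (h1 : 1 ≤ m) (hm : m + 2 ≤ n)
    (hle : X.last.TL (n - m) ≤ X.E) (hwm' : ((a e0 : X.E) : S) ∉ X.last.TL (m + 1)) : 2 * m + 2 ≤ n := by
  by_contra h
  obtain ⟨r, hr⟩ := X.last.even
  have h2 := X.le_layer ha he0 hw h1 hm hle hwm'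
  have h3 : X.E = X.last.TL m := le_antisymm h2 ((X.last.TL_anti (by omega)).trans hle)
  exact X.hnn (h3.symm ▸ (inferInstance : (X.last.TL m).Normal))

end ExcData

end CfsgLib.MaxClassResidual
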