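import Cfsg.Agent.Lib.MaxClassResidual.ExcBasic
import Cfsg.Agent.Lib.MaxClassResidual.Descend

/-!
The automorphisms of the first two-step centralizer modulo the last layer.
-/

set_option autoImplicit false
set_option linter.unusedSectionVars false
set_option linter.style.haveILetI false

namespace CfsgLib.MaxClassResidual

open scoped commutatorElement
open Subgroup
open CfsgLib.PolySeq (fil fil_antitone fil_commutator_mem)
open CfsgLib.MaxClassGood (twoStep mem_twoStep)

namespace ExcData

variable {p n : ℕ} [hpf : Fact p.Prime] {S : Type*} [Group S] [Finite S] (X : ExcData p n S)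

/-- Reduction modulo the last layer on the two-step centralizer. -/
def redT : twoStep S 2 →* X.last.frameQ.T :=
  ((QuotientGroup.mk' (fil S (n - 1))).comp (twoStep S 2).subtype).codRestrict _
    fun t => (X.last.mem_frameQ_T _).mpr t.2

theorem coe_redT (t : twoStep S 2) :
    ((X.redT t : X.last.frameQ.T) : S ⧸ fil S (n - 1)) = QuotientGroup.mk' (fil S (n - 1)) (t : S) := rfl

theorem redT_surjective : Function.Surjective X.redT := by
  rintro ⟨y, hy⟩
  obtain ⟨g, rfl⟩ := QuotientGroup.mk'_surjective (fil S (n - 1)) y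
  exact ⟨⟨g, (X.last.mem_frameQ_T g).mp hy⟩, rfl⟩

theorem mem_ker_redT {t : twoStep S 2} : t ∈ X.redT.ker ↔ (t : S) ∈ fil S (n - 1) := by
  rw [MonoidHom.mem_ker, ← Subtype.val_inj, OneMemClass.coe_one, coe_redT]
  exact QuotientGroup.eq_one_iff _

theorem mem_stab_redT (α : MulAut (twoStep S 2)) : α ∈ stabW X.redT.ker := by
  haveI : Finite (MulAut (twoStep S 2)) := Finite.of_injective (fun f => (f : twoStep S 2 → twoStep S 2)) DFunLike.coe_injective
  exact mem_stabW_of_le fun t ht => X.mem_ker_redT.mpr (X.last.last_invariant α (X.mem_ker_redT.mp ht))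

theorem descend_conj (g : S) :
    descend X.redT X.redT_surjective ⟨MulAut.conjNormal g, X.mem_stab_redT _⟩ =
      X.last.frameQ.cT (QuotientGroup.mk' (fil S (n - 1)) g) := by
  refine descend_eq _ _ fun t => Subtype.ext ?_
  rw [Frame.coe_cT, coe_redT, coe_redT, MulAut.conjNormal_apply, map_mul, map_mul, map_inv]

/-- The automorphisms induced modulo the last layer. -/
noncomputable def quotHData : HData p (S ⧸ fil S (n - 1)) where
  toFrame := X.last.frameQ
  hp := X.hp
  H := descendGroup X.redT X.redT_surjective X.H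
  hSH := fun gb => by
    obtain ⟨g, rfl⟩ := QuotientGroup.mk'_surjective (fil S (n - 1)) gb
    exact (mem_descendGroup _ _).mpr ⟨_, X.hSH g, X.mem_stab_redT _, X.descend_conj g⟩
  hSyl := fun hd => by
    have hR : (MulAut.conjNormal : S →* MulAut (twoStep S 2)).range ≤ stabW X.redT.ker :=
      fun a _ => X.mem_stab_redT a
    have he : descendGroup X.redT X.redT_surjective (MulAut.conjNormal : S →* MulAut (twoStep S 2)).range =
        X.last.frameQ.cT.range := by
      refine le_antisymm (fun b hb => ?_) (fun b hb => ?_)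
      · obtain ⟨a, ⟨g, rfl⟩, hs, rfl⟩ := (mem_descendGroup _ _).mp hb
        exact ⟨_, (X.descend_conj g).symm⟩
      · obtain ⟨gb, rfl⟩ := hb
        obtain ⟨g, rfl⟩ := QuotientGroup.mk'_surjective (fil S (n - 1)) gb
        exact (mem_descendGroup _ _).mpr ⟨_, ⟨g, rfl⟩, X.mem_stab_redT _, X.descend_conj g⟩
    rw [← he] at hd
    have h := hd.trans (relIndex_descendGroup X.redT X.redT_surjective (A := X.H) hR)
    rw [inf_eq_left.mpr (show X.H ≤ stabW X.redT.ker from fun a _ => X.mem_stab_redT a)] at h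
    exact X.hSyl h

/-- An automorphism of order prime to `p` fixing the layers `n - 3` on modulo the last is trivial modulo
the last layer. -/
theorem mod_last_trivial {α : MulAut (twoStep S 2)} (hα : α ∈ X.H) (ho : (orderOf α).Coprime p)
    (hfix : ∀ g : twoStep S 2, (g : S) ∈ fil S (n - 3) →
      (g : S)⁻¹ * ((α g : twoStep S 2) : S) ∈ fil S (n - 1)) (t : twoStep S 2) :
    (t : S)⁻¹ * ((α t : twoStep S 2) : S) ∈ fil S (n - 1) := by
  have h6 := X.last.h6
  set b := descend X.redT X.redT_surjective ⟨α, X.mem_stab_redT α⟩ with hb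
  have hbH : b ∈ X.quotHData.H := (mem_descendGroup _ _).mpr ⟨α, hα, X.mem_stab_redT α, rfl⟩
  have hbo : (orderOf b).Coprime p := ho.coprime_dvd_left
    ((orderOf_map_dvd (descend X.redT X.redT_surjective) ⟨α, X.mem_stab_redT α⟩).trans
      (by rw [← Subgroup.orderOf_coe]))
  have h1 : b = 1 := by
    refine X.quotHData.eq_one_of_fix hbH hbo fun u hu => ?_
    obtain ⟨g, rfl⟩ := X.redT_surjective u
    change _ ∈ fil (S ⧸ fil S (n - 1)) (n - 1 - 2) at hu
    rw [show n - 1 - 2 = n - 3 by omega, coe_redT, CfsgLib.MaxClassGood.mem_fil_quot (by omega)] at hu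
    exact (descend_apply X.redT X.redT_surjective ⟨α, X.mem_stab_redT α⟩ g).trans
      (Subtype.ext (QuotientGroup.eq.mpr (hfix g hu)).symm)
  have h2 : X.redT (α t) = X.redT t :=
    (descend_apply X.redT X.redT_surjective ⟨α, X.mem_stab_redT α⟩ t).symm.trans
      (show b (X.redT t) = X.redT t by rw [h1]; rfl)
  exact QuotientGroup.eq.mp (congrArg Subtype.val h2).symm

/-- Conjugation by the normalizer. -/
def cE : normalizer (X.E : Set S) →* MulAut X.E := X.E.normalizerMonoidHom

theorem coe_cE (g : normalizer (X.E : Set S)) (e : X.E) :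
    ((X.cE g e : X.E) : S) = (g : S) * e * (g : S)⁻¹ := rfl

theorem last_le_E : fil S (n - 1) ≤ X.E := fun _ hu =>
  X.hcen (mem_centralizer_iff.mpr fun e _ => (X.last.central_last hu e).symm)

theorem innE_le : innE X.E ≤ X.A := by
  rintro _ ⟨e, rfl⟩
  have h : MulAut.conj e = X.cE ⟨e, le_normalizer e.2⟩ := MulEquiv.ext fun y => Subtype.ext rfl
  rw [h]; exact X.hPA _

/-- The elements acting as inner automorphisms lie in the subgroup. -/
theorem mem_of_inn {g : normalizer (X.E : Set S)} (h : X.cE g ∈ innE X.E) : (g : S) ∈ X.E := by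
  obtain ⟨e, he⟩ := h
  have hc : (e : S)⁻¹ * g ∈ centralizer (X.E : Set S) := by
    refine mem_centralizer_iff.mpr fun y hy => ?_
    have h1 : (e : S) * y * (e : S)⁻¹ = (g : S) * y * (g : S)⁻¹ :=
      congrArg (fun α : MulAut X.E => ((α ⟨y, hy⟩ : X.E) : S)) he
    calc y * ((e : S)⁻¹ * g) = (e : S)⁻¹ * ((e : S) * y * (e : S)⁻¹) * g := by group
      _ = (e : S)⁻¹ * ((g : S) * y * (g : S)⁻¹) * g := by rw [h1]
      _ = (e : S)⁻¹ * g * y := by group
  simpa using mul_mem e.2 (X.hcen hc)

end ExcData

end CfsgLib.MaxClassResidual
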