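import Cfsg.Agent.Lib.MaxClassResidual.ExcMoved
import Cfsg.Agent.Lib.Fusion.OrderPFive.Torus

/-!
A moved last layer gives transvections on the subgroup and an involution inverting the plane they move.
-/

set_option autoImplicit false
set_option linter.unusedSectionVars false
set_option linter.style.haveILetI false

namespace CfsgLib.MaxClassResidual

open scoped commutatorElement
open Subgroup
open CfsgLib.PolySeq (fil fil_antitone fil_commutator_mem)
open CfsgLib.MaxClassGood (twoStep mem_twoStep)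

namespace ExcData

variable {p n : ℕ} [hpf : Fact p.Prime] {S : Type*} [Group S] [Finite S]

/-- An automorphism moving a generator of the last layer, and the layer of the image. -/
structure Moved (X : ExcData p n S) (η : MulAut X.E) (z0 : X.E) (m : ℕ) : Prop where
  hη : η ∈ X.A
  hz : (z0 : S) ∈ fil S (n - 1)
  hw : ((η z0 : X.E) : S) ∉ fil S (n - 1)
  one_le : 1 ≤ m
  two_mul : 2 * m + 2 ≤ n
  w_mem : ((η z0 : X.E) : S) ∈ X.last.TL m
  w_not : ((η z0 : X.E) : S) ∉ X.last.TL (m + 1)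
  up : X.last.TL (n - m) ≤ X.E
  not_up : ¬ X.last.TL (n - 1 - m) ≤ X.E
  low : X.E ≤ X.last.TL m

theorem exists_moved (X : ExcData p n S) {η : MulAut X.E} (hη : η ∈ X.A) {z0 : X.E}
    (hz : (z0 : S) ∈ fil S (n - 1)) (hw : ((η z0 : X.E) : S) ∉ fil S (n - 1)) : ∃ m, Moved X η z0 m := by
  obtain ⟨m, h1, hm, hm1, hm2, hle, hnle⟩ := X.moved_layer hη hz hw
  exact ⟨m, hη, hz, hw, h1, X.layer_lt hη hz hw h1 hm hle hm2, hm1, hm2, hle, hnle,
    X.le_layer hη hz hw h1 hm hle hm2⟩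

namespace Moved

variable {X : ExcData p n S} {η : MulAut X.E} {z0 : X.E} {m : ℕ} (M : Moved X η z0 m)

include M

theorem m_le : m + 4 ≤ n := by have := M.two_mul; have := X.last.h6; omega

theorem z_ne : z0 ≠ 1 := X.ne_one_of_moved M.hw

theorem pow_w : ((η z0 : X.E) : S) ^ p = 1 := by
  rw [← SubmonoidClass.coe_pow, ← map_pow, X.pow_last_E M.hz, map_one]; rfl

theorem w'_not_last : ((η⁻¹ z0 : X.E) : S) ∉ fil S (n - 1) := by
  intro h
  obtain ⟨j, hj⟩ := X.last_zpowers M.hz M.z_ne h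
  have hwj : (η z0 : X.E) ^ j = z0 := by rw [← map_zpow, hj, MulAut.apply_inv_self]
  have h1 : ((η z0 : X.E) : S) ^ j = 1 :=
    zpow_mem_elim M.pow_w M.hw (by rw [← SubgroupClass.coe_zpow, hwj]; exact M.hz)
  exact M.z_ne (hwj ▸ Subtype.ext (by rw [SubgroupClass.coe_zpow, h1]; rfl))

theorem w'_layer : ((η⁻¹ z0 : X.E) : S) ∈ X.last.TL m ∧ ((η⁻¹ z0 : X.E) : S) ∉ X.last.TL (m + 1) :=
  have h2 : m + 2 ≤ n := by have := M.m_le; omega
  X.moved_layer_unique (inv_mem M.hη) M.hz M.w'_not_last h2 M.up M.not_up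

theorem last_le_next : fil S (n - 1) ≤ X.last.TL (m + 1) := by
  have := M.m_le; have := M.one_le
  rw [X.last.TL_of_two (by omega)]
  exact fil_antitone (by omega)

theorem decomp {w : X.E} (hw : (w : S) ∈ X.last.TL m) (hw' : (w : S) ∉ X.last.TL (m + 1)) (e : X.E) :
    ∃ j : ℕ, (((w ^ j)⁻¹ * e : X.E) : S) ∈ X.last.TL (m + 1) := by
  obtain ⟨j, hj⟩ := X.last.layer_pow M.one_le (by have := M.m_le; omega) hw hw' (M.low e.2)
  exact ⟨j, by rw [Subgroup.coe_mul, Subgroup.coe_inv, SubmonoidClass.coe_pow]; exact hj⟩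

theorem exists_u : ∃ u ∈ X.last.TL (n - 1 - m), u ∉ X.E := Set.not_subset.mp M.not_up

theorem comm_u {u : S} (hu : u ∈ X.last.TL (n - 1 - m)) (e : X.E) : ⁅u, (e : S)⁆ ∈ fil S (n - 1) :=
  X.last.comm_mem (j := n - 1 - m) (k := m) (l := n - 1) (by have := M.two_mul; omega) M.one_le (by omega)
    (by have := M.two_mul; omega) hu
    (M.low e.2)

theorem u_normalizes {u : S} (hu : u ∈ X.last.TL (n - 1 - m)) : u ∈ normalizer (X.E : Set S) := by
  refine mem_normalizer_iff.mpr fun e => ⟨fun he => ?_, fun he => ?_⟩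
  · rw [show u * e * u⁻¹ = ⁅u, e⁆ * e by rw [commutatorElement_def]; group]
    exact mul_mem (X.last_le_E (M.comm_u hu ⟨e, he⟩)) he
  · have h := mul_mem (X.last_le_E (M.comm_u (inv_mem hu) ⟨_, he⟩)) he
    have e1 : ⁅u⁻¹, u * e * u⁻¹⁆ * (u * e * u⁻¹) = e := by rw [commutatorElement_def]; group
    rwa [e1] at h

theorem cE_u_apply {u : normalizer (X.E : Set S)} (hu : (u : S) ∈ X.last.TL (n - 1 - m)) (e : X.E) :
    ∃ s : ℤ, X.cE u e = z0 ^ s * e ∧ ((e : S) * u ≠ u * e → ¬ (p : ℤ) ∣ s) := by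
  obtain ⟨s, hs⟩ := X.last_zpowers M.hz M.z_ne (e := ⟨_, X.last_le_E (M.comm_u hu e)⟩) (M.comm_u hu e)
  have e1 : X.cE u e = z0 ^ s * e := by
    refine Subtype.ext ?_
    rw [Subgroup.coe_mul, hs, X.coe_cE]
    show _ = ⁅(u : S), (e : S)⁆ * (e : S)
    rw [commutatorElement_def]
    group
  refine ⟨s, e1, fun hne hd => hne ?_⟩
  obtain ⟨r, rfl⟩ := hd
  rw [zpow_mul, zpow_natCast, X.pow_last_E M.hz, one_zpow] at hs
  exact (commutatorElement_eq_one_iff_mul_comm.mp (congrArg Subtype.val hs).symm).symm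

theorem next_comm_u {u : S} (hu : u ∈ X.last.TL (n - 1 - m)) {e : S} (he : e ∈ X.last.TL (m + 1)) :
    u * e = e * u :=
  X.last.comm_one (by have := M.two_mul; omega) hu he

/-- The involution. -/
theorem exists_tau {u : normalizer (X.E : Set S)} (hu : (u : S) ∈ X.last.TL (n - 1 - m)) (huE : (u : S) ∉ X.E) :
    ∃ τ ∈ X.A, τ * τ = 1 ∧ τ * X.cE u * τ⁻¹ = X.cE u ∧ τ (η z0) = (η z0)⁻¹ ∧
      ∀ e : X.E, (e : S) ∈ X.last.TL (m + 1) → (e : S)⁻¹ * ((τ e : X.E) : S) ∈ fil S (n - 1) := by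
  classical
  have hpp : p.Prime := hpf.out
  have h1m := M.one_le
  have h2m := M.two_mul
  set w := η z0 with hwdef
  set w' := η⁻¹ z0 with hw'def
  set c := X.cE u with hcdef
  set d := η * c * η⁻¹ with hddef
  set P1 : Subgroup X.E := (X.last.TL (m + 1)).subgroupOf X.E with hP1
  set P2 : Subgroup X.E := P1.map η.toMonoidHom with hP2
  haveI hP1n : P1.Normal := (inferInstance : (X.last.TL (m + 1)).Normal).subgroupOf _
  haveI hP2n : P2.Normal := hP1n.map _ η.surjective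
  set K : Subgroup X.E := P1 ⊓ P2 with hKdef
  haveI hKn : K.Normal := normal_inf_normal P1 P2
  have hcP1 : ∀ e ∈ P1, c e = e := fun e he => Subtype.ext (by
    rw [hcdef, X.coe_cE, M.next_comm_u hu (mem_subgroupOf.mp he), mul_inv_cancel_right])
  have hdP2 : ∀ e ∈ P2, d e = e := by
    rintro _ ⟨e, he, rfl⟩
    show η (c (η⁻¹ (η e))) = η e
    rw [MulAut.inv_apply_self, hcP1 e he]
  have hzP1 : z0 ∈ P1 := mem_subgroupOf.mpr (M.last_le_next M.hz)
  have hwP2 : w ∈ P2 := ⟨z0, hzP1, rfl⟩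
  have hw'P1 : w' ∉ P1 := fun h => M.w'_layer.2 (mem_subgroupOf.mp h)
  have hwP1 : w ∉ P1 := fun h => M.w_not (mem_subgroupOf.mp h)
  have hzP2 : z0 ∉ P2 := by
    rintro ⟨e, he, he'⟩
    exact hw'P1 (by rw [hw'def, ← he']; show η⁻¹ (η e) ∈ P1; rw [MulAut.inv_apply_self]; exact he)
  have hzp : z0 ^ p = 1 := X.pow_last_E M.hz
  have hwp : w ^ p = 1 := by rw [hwdef, ← map_pow, hzp, map_one]
  have hw'p : w' ^ p = 1 := by rw [hw'def, ← map_pow, hzp, map_one]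
  have hzc : ∀ e : X.E, z0 * e = e * z0 := fun e => Subtype.ext (X.last.central_last M.hz _)
  have hwc : ∀ e : X.E, w * e = e * w := fun e => X.moved_central η M.hz e
  have hnc : ∀ {a : MulAut X.E} {e0 : X.E}, a ∈ X.A → (e0 : S) ∈ fil S (n - 1) →
      ((a e0 : X.E) : S) ∉ fil S (n - 1) → ((a e0 : X.E) : S) * u ≠ u * (a e0 : X.E) := fun ha h0 h1 h =>
    huE (X.moved_centralizer ha h0 h1 (mem_centralizer_singleton_iff.mpr h.symm))
  obtain ⟨s, hs, hsd⟩ := M.cE_u_apply hu w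
  obtain ⟨t, ht, htd⟩ := M.cE_u_apply hu w'
  rw [← hcdef] at hs ht
  have hdz : d z0 = z0 * w ^ t := by
    show η (c w') = _
    rw [ht, map_mul, map_zpow, hw'def, MulAut.apply_inv_self, ← hwdef, ((show Commute w z0 from hwc z0).zpow_left t).eq]
  have hcw : c w = w * z0 ^ s := by rw [hs, ((show Commute z0 w from hzc w).zpow_left s).eq]
  have hcz : c z0 = z0 := hcP1 z0 hzP1
  have hdw : d w = w := hdP2 w hwP2
  -- the plane
  set U : Subgroup X.E := zpowers z0 ⊔ zpowers w with hU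
  haveI hUn : (zpowers z0).Normal := ⟨fun e he g => by
    obtain ⟨j, rfl⟩ := mem_zpowers_iff.mp he
    rw [← ((show Commute z0 g from hzc g).zpow_left j).eq, mul_inv_cancel_right]
    exact zpow_mem (mem_zpowers z0) j⟩
  have hUK : ∀ e ∈ U, e ∈ K → e = 1 := by
    intro e he heK
    obtain ⟨_, ha, _, hb, rfl⟩ := mem_sup_of_normal_left.mp he
    obtain ⟨i, rfl⟩ := mem_zpowers_iff.mp ha
    obtain ⟨j, rfl⟩ := mem_zpowers_iff.mp hb
    have h1 : w ^ j = 1 := by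
      refine zpow_mem_elim hwp hwP1 ?_
      have := P1.mul_mem (P1.inv_mem (P1.zpow_mem hzP1 i)) heK.1
      rwa [inv_mul_cancel_left] at this
    simp only [h1, mul_one] at heK ⊢
    exact zpow_mem_elim hzp hzP2 heK.2
  have hgen : ∀ e : X.E, ∃ i : ℤ, ∃ j : ℕ, ∃ k ∈ K, e = w ^ j * (z0 ^ i * k) := by
    intro e
    obtain ⟨j, hj⟩ := M.decomp M.w_mem M.w_not e
    obtain ⟨i, hi⟩ := M.decomp M.w'_layer.1 M.w'_layer.2 (η⁻¹ ((w ^ j)⁻¹ * e))
    set f := (w ^ j)⁻¹ * e with hf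
    refine ⟨i, j, (z0 ^ (i : ℤ))⁻¹ * f, ⟨?_, ?_⟩, by rw [mul_inv_cancel_left, hf, mul_inv_cancel_left]⟩
    · exact P1.mul_mem (P1.inv_mem (P1.zpow_mem hzP1 i)) (mem_subgroupOf.mpr hj)
    · refine ⟨(w' ^ i)⁻¹ * η⁻¹ f, mem_subgroupOf.mpr hi, ?_⟩
      show η _ = _
      rw [map_mul, map_inv, map_pow, hw'def, MulAut.apply_inv_self, MulAut.apply_inv_self, zpow_natCast]
  have hagree : ∀ {a b : MulAut X.E}, a z0 = b z0 → a w = b w → (∀ k ∈ K, a k = b k) → a = b := by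
    intro a b h1 h2 h3
    refine MulEquiv.ext fun e => ?_
    obtain ⟨i, j, k, hk, rfl⟩ := hgen e
    rw [map_mul, map_mul, map_mul, map_mul, map_pow, map_pow, map_zpow, map_zpow, h1, h2, h3 k hk]
  -- the torus
  have hcomm : ∀ a b : X.E, a⁻¹ * b⁻¹ * a * b ∈ K := by
    have h1 : ∀ a b : X.E, a⁻¹ * b⁻¹ * a * b ∈ P1 := by
      intro a b
      rw [hP1, mem_subgroupOf, X.last.TL_of_two (by omega)]
      have h := fil_antitone (show m + 1 ≤ m + m by omega)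
        (fil_commutator_mem (X.last.TL_le_fil (inv_mem (M.low a.2))) (X.last.TL_le_fil (inv_mem (M.low b.2))))
      simpa [commutatorElement_def] using h
    refine fun a b => ⟨h1 a b, ⟨_, h1 (η⁻¹ a) (η⁻¹ b), ?_⟩⟩
    show η _ = _
    rw [map_mul, map_mul, map_mul, map_inv η, map_inv η, MulAut.apply_inv_self, MulAut.apply_inv_self]
  have hstab : ∀ {a : MulAut X.E}, a z0 ∈ U → a w ∈ U → a ∈ stabW U := fun {a} h1 h2 =>
    mem_stabW_of_le fun e he =>
      (sup_le (zpowers_le.mpr (show z0 ∈ U.comap a.toMonoidHom from h1))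
        (zpowers_le.mpr (show w ∈ U.comap a.toMonoidHom from h2)) : U ≤ U.comap a.toMonoidHom) he
  have hzU : z0 ∈ U := mem_sup_left (mem_zpowers z0)
  have hwU : w ∈ U := mem_sup_right (mem_zpowers w)
  let A' : Subgroup (MulAut X.E) := X.A ⊓ fixW K ⊓ stabW U
  have hcA : c ∈ A' := ⟨⟨X.hPA u, fun e he => hcP1 e he.1⟩,
    hstab (by rw [hcz]; exact hzU) (by rw [hcw]; exact mul_mem hwU (zpow_mem hzU s))⟩
  have hdA : d ∈ A' := ⟨⟨(mul_mem (mul_mem M.hη (X.hPA u)) (inv_mem M.hη) : η * c * η⁻¹ ∈ X.A), fun e he => hdP2 e he.2⟩,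
    hstab (by rw [hdz]; exact mul_mem hzU (zpow_mem hwU t)) (by rw [hdw]; exact hwU)⟩
  obtain ⟨τ, hτ, hτz, hτw, -⟩ := Cfsg.OrderPFive.torus_mod (A := A') (K := K) (p := p)
    (fun a ha e he => by rw [ha.1.2 e he]; exact he) hcomm hcA hdA (k := z0) (l := w) (by rw [hzp]; exact one_mem _)
    (by rw [hwp]; exact one_mem _) (by rw [hcz, inv_mul_cancel]; exact one_mem _)
    (by rw [hdw, inv_mul_cancel]; exact one_mem _) (s := s) (t := t) (by rw [hcw, inv_mul_cancel]; exact one_mem _)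
    (by rw [hdz, inv_mul_cancel]; exact one_mem _) (hsd (hnc M.hη M.hz M.hw))
    (htd (hnc (inv_mem M.hη) M.hz M.w'_not_last)) (a := -1) (b := -1) (by norm_num)
  have hz1 : τ z0 = z0⁻¹ := by
    have h := hUK _ (mul_mem (inv_mem (zpow_mem hzU (-1))) ((hτ.2 z0).mpr hzU)) hτz
    rw [inv_mul_eq_one, zpow_neg_one] at h
    exact h.symm
  have hw1 : τ w = w⁻¹ := by
    have h := hUK _ (mul_mem (inv_mem (zpow_mem hwU (-1))) ((hτ.2 w).mpr hwU)) hτw
    rw [inv_mul_eq_one, zpow_neg_one] at h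
    exact h.symm
  have hK1 : ∀ k ∈ K, τ k = k := hτ.1.2
  have hττ : τ * τ = 1 := hagree
    (by rw [MulAut.mul_apply, hz1, map_inv, hz1, inv_inv]; rfl)
    (by rw [MulAut.mul_apply, hw1, map_inv, hw1, inv_inv]; rfl)
    (fun k hk => by rw [MulAut.mul_apply, hK1 k hk, hK1 k hk]; rfl)
  have hinv : τ⁻¹ = τ := inv_eq_of_mul_eq_one_right hττ
  have hcomm' : τ * c * τ⁻¹ = c := by
    rw [hinv]
    refine hagree ?_ ?_ fun k hk => ?_
    · rw [MulAut.mul_apply, MulAut.mul_apply, hz1, map_inv c, hcz, map_inv, hz1, inv_inv]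
    · rw [MulAut.mul_apply, MulAut.mul_apply, hw1, map_inv c, hcw, mul_inv_rev, map_mul, ← zpow_neg, map_zpow, map_inv,
        hw1, hz1, inv_inv, inv_zpow', neg_neg, ((show Commute z0 w from hzc w).zpow_left s).eq]
    · rw [MulAut.mul_apply, MulAut.mul_apply, hK1 k hk, hcP1 k hk.1, hK1 k hk]
  refine ⟨τ, hτ.1.1, hττ, hcomm', hw1, fun e he => ?_⟩
  obtain ⟨i, hi⟩ := M.decomp M.w'_layer.1 M.w'_layer.2 (η⁻¹ e)
  have hkK : (z0 ^ i)⁻¹ * e ∈ K := ⟨P1.mul_mem (P1.inv_mem (P1.pow_mem hzP1 i)) (mem_subgroupOf.mpr he),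
    ⟨_, mem_subgroupOf.mpr hi, by
      show η _ = _
      rw [map_mul, map_inv, map_pow, MulAut.apply_inv_self, MulAut.apply_inv_self]⟩⟩
  have hτe : τ e = ((z0 ^ i)⁻¹) * ((z0 ^ i)⁻¹ * e) := by
    conv_lhs => rw [show e = z0 ^ i * ((z0 ^ i)⁻¹ * e) from (mul_inv_cancel_left _ _).symm]
    rw [map_mul, map_pow, hz1, hK1 _ hkK, inv_pow]
  have hzi : ((z0 ^ i)⁻¹ : X.E) * (z0 ^ i)⁻¹ ∈ zpowers z0 :=
    mul_mem (inv_mem (pow_mem (mem_zpowers z0) i)) (inv_mem (pow_mem (mem_zpowers z0) i))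
  obtain ⟨j, hj⟩ := mem_zpowers_iff.mp hzi
  have h3 : (e : S)⁻¹ * ((τ e : X.E) : S) = ((z0 ^ j : X.E) : S) := by
    rw [← Subgroup.coe_inv, ← Subgroup.coe_mul, hτe, ← mul_assoc ((z0 ^ i)⁻¹), ← hj, ← mul_assoc,
      ← ((show Commute z0 e⁻¹ from hzc e⁻¹).zpow_left j).eq, inv_mul_cancel_right]
  rw [h3, SubgroupClass.coe_zpow]
  exact zpow_mem M.hz j

end Moved

end ExcData

end CfsgLib.MaxClassResidual
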