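import Cfsg.Agent.Lib.MaxClassResidual.ExcTorus
import Cfsg.Agent.Lib.MaxClassResidual.ExcFixed

/-!
The configuration with the last two-step centralizer different from the first is impossible.
-/

set_option autoImplicit false
set_option linter.unusedSectionVars false
set_option linter.style.haveILetI false

namespace CfsgLib.MaxClassResidual

open scoped commutatorElement
open Subgroup
open CfsgLib.PolySeq (fil fil_antitone fil_commutator_mem)
open CfsgLib.MaxClassGood (twoStep mem_twoStep)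

namespace ExcData

variable {p n : ℕ} [hpf : Fact p.Prime] {S : Type*} [Group S] [Finite S]

namespace Moved

variable {X : ExcData p n S} {η : MulAut X.E} {z0 : X.E} {m : ℕ} (M : Moved X η z0 m)

include M

/-- Conjugation by an element moving the image into the last layer is a power of the transvection
modulo the subgroup. -/
theorem split {u : S} (hu : u ∈ X.last.TL (n - 1 - m)) (huE : u ∉ X.E) {g : S}
    (hg : ⁅g, ((η z0 : X.E) : S)⁆ ∈ fil S (n - 1)) : ∃ k : ℕ, (u ^ k)⁻¹ * g ∈ X.E := by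
  set w : S := ((η z0 : X.E) : S) with hw
  set z : S := (z0 : S) with hz
  have hzp : z ^ p = 1 := X.last.pow_last_one M.hz
  have hzne : z ≠ 1 := fun h => M.z_ne (Subtype.ext h)
  have hwE : w ∈ X.E := (η z0).2
  obtain ⟨s, hs⟩ := X.last_zpowers M.hz M.z_ne (e := ⟨_, X.last_le_E (M.comm_u hu ⟨w, hwE⟩)⟩) (M.comm_u hu ⟨w, hwE⟩)
  obtain ⟨r, hr⟩ := X.last_zpowers M.hz M.z_ne (e := ⟨_, X.last_le_E hg⟩) hg
  have hs' : z ^ s = ⁅u, w⁆ := by
    rw [hz, ← SubgroupClass.coe_zpow, hs]
  have hr' : z ^ r = ⁅g, w⁆ := by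
    rw [hz, ← SubgroupClass.coe_zpow, hr]
  have hs0 : (s : ZMod p) ≠ 0 := by
    intro h
    obtain ⟨q, rfl⟩ := (ZMod.intCast_zmod_eq_zero_iff_dvd _ _).mp h
    rw [zpow_mul, zpow_natCast, hzp, one_zpow] at hs'
    exact huE (X.moved_centralizer M.hη M.hz M.hw (mem_centralizer_singleton_iff.mpr
      (commutatorElement_eq_one_iff_mul_comm.mp hs'.symm)))
  set k : ℕ := ((r : ZMod p) / (s : ZMod p)).val with hk
  refine ⟨k, X.moved_centralizer M.hη M.hz M.hw (mem_centralizer_singleton_iff.mpr ?_)⟩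
  have hpow : ∀ l : ℕ, u ^ l * w * (u ^ l)⁻¹ = z ^ (s * (l : ℤ)) * w := by
    intro l
    induction l with
    | zero => simp
    | succ l ih =>
      have hzc : Commute (z ^ (s * (l : ℤ))) u :=
        Commute.zpow_left (X.last.central_last M.hz u) _
      calc u ^ (l + 1) * w * (u ^ (l + 1))⁻¹ = u * (u ^ l * w * (u ^ l)⁻¹) * u⁻¹ := by
            rw [pow_succ']; group
        _ = u * z ^ (s * (l : ℤ)) * w * u⁻¹ := by rw [ih]; group
        _ = z ^ (s * (l : ℤ)) * (⁅u, w⁆ * w) := by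
            rw [← hzc.eq, commutatorElement_def]; group
        _ = z ^ (s * ((l + 1 : ℕ) : ℤ)) * w := by
            rw [← hs', ← mul_assoc, ← zpow_add, Nat.cast_succ, mul_add, mul_one]
  have heq : z ^ (s * (k : ℤ)) = z ^ r := by
    rw [zpow_eq_zpow_iff_modEq, orderOf_eq_prime hzp hzne, ← ZMod.intCast_eq_intCast_iff, Int.cast_mul,
      Int.cast_natCast, hk, ZMod.natCast_zmod_val, mul_div_cancel₀ _ hs0]
  have h1 : g * w * g⁻¹ = u ^ k * w * (u ^ k)⁻¹ := by
    rw [hpow, heq, hr', commutatorElement_def]; group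
  calc (u ^ k)⁻¹ * g * w = (u ^ k)⁻¹ * (g * w * g⁻¹) * g := by group
    _ = w * ((u ^ k)⁻¹ * g) := by rw [h1]; group

/-- The configuration is impossible. -/
theorem false : False := by
  classical
  have hpp : p.Prime := hpf.out
  have h1m := M.one_le
  have h2m := M.two_mul
  have h6 := X.last.h6
  have hm4 := M.m_le
  obtain ⟨u, hu, huE⟩ := M.exists_u
  have huN : u ∈ normalizer (X.E : Set S) := M.u_normalizes hu
  obtain ⟨τ, hτ, hττ, hτc, hτw, hτP⟩ := M.exists_tau (u := ⟨u, huN⟩) hu huE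
  -- the extension
  let G' : Subgroup (normalizer (X.E : Set S)) :=
    (X.cE.range).comap ((MulAut.conj τ).toMonoidHom.comp X.cE)
  have hQ : X.E ⊔ zpowers u ≤ G'.map (normalizer (X.E : Set S)).subtype := by
    refine sup_le (fun e he => ⟨⟨e, le_normalizer he⟩, ?_, rfl⟩) (zpowers_le.mpr ⟨⟨u, huN⟩, ?_, rfl⟩)
    · refine ⟨⟨_, le_normalizer (τ ⟨e, he⟩).2⟩, MulEquiv.ext fun y => ?_⟩
      have e1 : ∀ (f : X.E), X.cE ⟨f, le_normalizer f.2⟩ = MulAut.conj f := fun f => MulEquiv.ext fun x => Subtype.ext rfl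
      show X.cE _ y = (τ * X.cE ⟨e, le_normalizer he⟩ * τ⁻¹) y
      rw [e1 (τ ⟨e, he⟩), e1 ⟨e, he⟩, MulAut.mul_apply, MulAut.mul_apply, MulAut.conj_apply, MulAut.conj_apply,
        map_mul, map_mul, map_inv, MulAut.apply_inv_self]
    · exact ⟨⟨u, huN⟩, hτc.symm⟩
  obtain ⟨α0, hα0, hext⟩ := X.ext τ hτ (X.E ⊔ zpowers u)
    (lt_of_le_of_ne le_sup_left fun h => huE (h.ge (mem_sup_right (mem_zpowers u))))
    (sup_le le_normalizer (zpowers_le.mpr huN))
    (fun q hq => by
      obtain ⟨y, hy, hyq⟩ := hQ hq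
      obtain rfl : y = q := Subtype.ext hyq
      obtain ⟨q', hq'⟩ := hy
      exact ⟨q', hq'.symm⟩)
  -- order prime to p
  haveI : Finite (MulAut (twoStep S 2)) :=
    Finite.of_injective (fun f => (f : twoStep S 2 → twoStep S 2)) DFunLike.coe_injective
  obtain ⟨a, r, hr, hord⟩ := Nat.exists_eq_pow_mul_and_not_dvd (orderOf_pos α0).ne' p hpp.ne_one
  set α := α0 ^ p ^ a with hαdef
  have hαH : α ∈ X.H := pow_mem hα0 _
  have hαo : (orderOf α).Coprime p := by
    rw [hαdef, orderOf_pow' _ (pow_ne_zero a hpp.ne_zero), hord, Nat.gcd_mul_right_left,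
      Nat.mul_div_cancel_left r (pow_pos hpp.pos a)]
    exact (hpp.coprime_iff_not_dvd.mpr hr).symm
  have hαE : ∀ e : X.E, α ⟨(e : S), X.hET e.2⟩ = ⟨((τ e : X.E) : S), X.hET (τ e).2⟩ := by
    have hit : ∀ (k : ℕ) (e : X.E), (α0 ^ k) ⟨(e : S), X.hET e.2⟩ = ⟨(((τ ^ k) e : X.E) : S), X.hET ((τ ^ k) e).2⟩ := by
      intro k
      induction k with
      | zero => intro e; exact Subtype.ext rfl
      | succ k ih =>
        intro e
        rw [pow_succ', MulAut.mul_apply, ih]
        refine Subtype.ext ((hext ((τ ^ k) e)).trans ?_)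
        rw [pow_succ', MulAut.mul_apply]
    intro e
    rw [hαdef, hit]
    obtain ⟨l, hl⟩ : Odd (p ^ a) := (hpp.odd_of_ne_two (by have := X.hp; omega)).pow
    refine Subtype.ext ?_
    show (((τ ^ p ^ a) e : X.E) : S) = _
    rw [hl, pow_succ, pow_mul, pow_two, hττ, one_pow, one_mul]
  -- the image of the transvection
  set uT : twoStep S 2 := ⟨u, X.last.TL_le_T _ hu⟩ with huT
  set v : S := u⁻¹ * ((α uT : twoStep S 2) : S) with hv
  have hvc : v ∈ centralizer (X.E : Set S) := by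
    refine mem_centralizer_iff.mpr fun e he => ?_
    have h1 : ((α uT : twoStep S 2) : S) * e * ((α uT : twoStep S 2) : S)⁻¹ = u * e * u⁻¹ := by
      set f : X.E := τ ⟨e, he⟩
      have hf : α ⟨(f : S), X.hET f.2⟩ = ⟨e, X.hET he⟩ := by
        rw [hαE]
        refine Subtype.ext ?_
        show ((τ (τ ⟨e, he⟩) : X.E) : S) = e
        rw [← MulAut.mul_apply, hττ]; rfl
      have h2 : α (uT * ⟨(f : S), X.hET f.2⟩ * uT⁻¹) =
          ⟨((τ (X.cE ⟨u, huN⟩ f) : X.E) : S), X.hET (τ (X.cE ⟨u, huN⟩ f)).2⟩ := by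
        refine Eq.trans ?_ (hαE _)
        exact congrArg α (Subtype.ext rfl)
      rw [map_mul, map_mul, map_inv, hf] at h2
      have h3 := congrArg Subtype.val h2
      rw [Subgroup.coe_mul, Subgroup.coe_mul, Subgroup.coe_inv] at h3
      rw [h3]
      have h4 : τ (X.cE ⟨u, huN⟩ f) = X.cE ⟨u, huN⟩ ⟨e, he⟩ := by
        have h5 := congrArg (fun b : MulAut X.E => b ⟨e, he⟩) hτc
        simp only [MulAut.mul_apply] at h5
        rwa [show τ⁻¹ = τ from inv_eq_of_mul_eq_one_right hττ] at h5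
      rw [h4]
      rfl
    rw [hv]
    set y := ((α uT : twoStep S 2) : S)
    calc e * (u⁻¹ * y) = u⁻¹ * (u * e * u⁻¹) * y := by group
      _ = u⁻¹ * (y * e * y⁻¹) * y := by rw [h1]
      _ = u⁻¹ * y * e := by group
  have hvE : v ∈ X.E := X.hcen hvc
  have hv2 : ⁅v, u⁆ ∈ fil S (n - 1) :=
    X.last.comm_mem (j := m) (k := n - 1 - m) (l := n - 1) h1m (by omega) (by omega) (by omega) (M.low hvE) hu
  let b : MulAut X.last.frameQ.T := descend X.redT X.redT_surjective ⟨α, X.mem_stab_redT α⟩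
  have hb : ∀ t : twoStep S 2, b (X.redT t) = X.redT (α t) := fun t => descend_apply _ _ _ t
  have hred : ∀ {s t : twoStep S 2}, (s : S)⁻¹ * (t : S) ∈ fil S (n - 1) → X.redT s = X.redT t := fun h =>
    Subtype.ext (QuotientGroup.eq.mpr h)
  have hP1 : ∀ (e : X.E) (_ : (e : S) ∈ X.last.TL (m + 1)), b (X.redT ⟨(e : S), X.hET e.2⟩) = X.redT ⟨(e : S), X.hET e.2⟩ :=
    fun e he => by
      rw [hb, hαE]
      exact (hred (hτP e he)).symm
  refine M.hw ?_
  suffices hfix : ∀ g : twoStep S 2, (g : S) ∈ fil S (n - 3) →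
      (g : S)⁻¹ * ((α g : twoStep S 2) : S) ∈ fil S (n - 1) by
    have h := X.mod_last_trivial hαH hαo hfix ⟨((η z0 : X.E) : S), X.hET (η z0).2⟩
    rw [hαE, hτw] at h
    change ((η z0 : X.E) : S)⁻¹ * ((η z0 : X.E) : S)⁻¹ ∈ _ at h
    by_contra hw
    rw [← zpow_neg_one, ← zpow_add] at h
    have h2 := zpow_mem_elim M.pow_w hw h
    have hone : ((η z0 : X.E) : S) = 1 := by
      rw [← orderOf_eq_one_iff]
      refine Nat.eq_one_of_dvd_coprimes ((Nat.coprime_primes hpp Nat.prime_two).mpr (by have := X.hp; omega))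
        (orderOf_dvd_of_pow_eq_one M.pow_w) ?_
      rw [show ((-1 : ℤ) + -1) = -((2 : ℕ) : ℤ) by norm_num, zpow_neg, inv_eq_one, zpow_natCast] at h2
      exact orderOf_dvd_of_pow_eq_one h2
    exact hw (hone ▸ one_mem _)
  intro g hg
  have hgT : (g : S) ∈ X.last.TL (n - 3) := by rw [X.last.TL_of_two (by omega)]; exact hg
  have hgw : ⁅(g : S), ((η z0 : X.E) : S)⁆ ∈ fil S (n - 1) :=
    X.last.comm_mem (j := n - 3) (k := m) (l := n - 1) (by omega) h1m (by omega) (by omega) hgT M.w_mem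
  obtain ⟨k, hk⟩ := M.split hu huE hgw
  have hk1 : (u ^ k)⁻¹ * (g : S) ∈ X.last.TL (m + 1) :=
    mul_mem (inv_mem (pow_mem (X.last.TL_anti (by omega) hu) k)) (X.last.TL_anti (by omega) hgT)
  set v1 : twoStep S 2 := ⟨v ^ k, pow_mem (X.hET hvE) k⟩ with hv1
  -- the shift
  have hshift : b (X.redT g) = X.redT v1 * X.redT g := by
    set vT : twoStep S 2 := ⟨v, X.hET hvE⟩
    set eT : twoStep S 2 := ⟨(u ^ k)⁻¹ * (g : S), X.hET hk⟩
    have eg : g = uT ^ k * eT := Subtype.ext (show (g : S) = u ^ k * ((u ^ k)⁻¹ * (g : S)) by rw [mul_inv_cancel_left])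
    have hαu : α uT = uT * vT := Subtype.ext (show _ = u * v by rw [hv, mul_inv_cancel_left])
    have hcm : Commute (X.redT uT) (X.redT vT) := by
      have h : X.redT (uT * vT) = X.redT (vT * uT) := hred (by
        show (u * v)⁻¹ * (v * u) ∈ _
        have h' := (CfsgLib.PolySeq.fil_normal (G := S) (n - 1)).conj_mem _ hv2 (u * v)⁻¹
        rw [show (u * v)⁻¹ * (v * u) = (u * v)⁻¹ * ⁅v, u⁆ * (u * v)⁻¹⁻¹ by rw [commutatorElement_def]; group]
        exact h')
      rw [map_mul, map_mul] at h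
      exact h
    have hv1' : X.redT v1 = X.redT vT ^ k := by rw [← map_pow]; exact congrArg X.redT (Subtype.ext rfl)
    conv_lhs => rw [eg, map_mul, map_mul, map_pow, map_pow, hb uT, hαu, hP1 ⟨_, hk⟩ hk1]
    conv_rhs => rw [eg, map_mul, map_pow]
    rw [hv1', map_mul, hcm.mul_pow, (hcm.pow_pow k k).eq, mul_assoc]
  -- the shift lies in the next layer
  have hv1T : v ^ k ∈ X.last.TL (m + 1) := by
    have hcentral : ∀ t : twoStep S 2, Commute (X.redT v1) (X.redT t) := by
      have hgc : ∀ t : twoStep S 2, Commute (X.redT g) (X.redT t) := fun t => by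
        refine commutatorElement_eq_one_iff_mul_comm.mp ?_
        rw [← map_commutatorElement]
        refine X.mem_ker_redT.mpr ?_
        exact X.last.comm_mem (j := n - 3) (k := 1) (l := n - 1) (by omega) le_rfl (by omega) (by omega) hgT
          (by rw [X.last.TL_of_le le_rfl]; exact t.2)
      intro t
      obtain ⟨t', ht'⟩ := α.surjective t
      have h1 := (hgc t').map b.toMonoidHom
      change Commute (b (X.redT g)) (b (X.redT t')) at h1
      rw [hshift, hb, ht'] at h1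
      have h2 := h1.mul_left (hgc t).inv_left
      rwa [mul_inv_cancel_right] at h2
    let Cb : Subgroup (S ⧸ fil S (n - 1)) := centralizer (X.last.frameQ.T : Set (S ⧸ fil S (n - 1))) ⊓ X.last.frameQ.T
    haveI : Cb.Normal := normal_inf_normal _ _
    obtain ⟨k0, hk01, hk0n, hCb⟩ := X.last.frameQ.normal_le_T (N := Cb) inf_le_right
    change k0 ≤ n - 1 at hk0n
    have hmemCb : (X.redT v1 : S ⧸ fil S (n - 1)) ∈ Cb := by
      refine ⟨mem_centralizer_iff.mpr fun y hy => ?_, (X.redT v1).2⟩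
      obtain ⟨t, ht⟩ := X.redT_surjective ⟨y, hy⟩
      have h := congrArg Subtype.val (hcentral t).eq
      rw [ht] at h
      exact h.symm
    by_contra hne
    have hk0m : k0 ≤ m := by
      by_contra hk0
      rw [hCb] at hmemCb
      exact hne ((X.last.mem_frameQ_Tf (by omega) _).mp (X.last.frameQ.Tf_anti (by omega) hmemCb))
    have hwC : ∀ t ∈ twoStep S 2, ⁅t, ((η z0 : X.E) : S)⁆ ∈ fil S (n - 1) := fun t ht => by
      have hw' : QuotientGroup.mk' (fil S (n - 1)) ((η z0 : X.E) : S) ∈ Cb :=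
        hCb ▸ X.last.mk_mem_frameQ_Tf (X.last.TL_anti hk0m M.w_mem)
      have h := mem_centralizer_iff.mp hw'.1 _ ((X.last.mem_frameQ_T t).mpr ht)
      rw [← QuotientGroup.eq_one_iff]
      show QuotientGroup.mk' (fil S (n - 1)) _ = 1
      rw [map_commutatorElement, commutatorElement_eq_one_iff_mul_comm]
      exact h
    have hTm : twoStep S 2 ≤ X.last.TL m := fun t ht => by
      obtain ⟨l, hl⟩ := M.split hu huE (hwC t ht)
      have := mul_mem (pow_mem (X.last.TL_anti (by omega) hu) l) (M.low hl)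
      rwa [mul_inv_cancel_left] at this
    have hm1 : m = 1 := by
      by_contra hm1
      obtain ⟨t, ht, ht'⟩ := X.last.exists_exact (k := 1) le_rfl (by omega)
      exact ht' (X.last.TL_anti (by omega) (hTm (X.last.TL_le_T _ ht)))
    obtain ⟨t, ht, ht'⟩ := X.last.exists_exact (k := 2) (by omega) (by omega)
    obtain ⟨x, hx, hne'⟩ := X.last.partner 2 (by omega) (by omega) t ht ht'
    obtain ⟨l, hl⟩ := M.split hu huE (hwC t (X.last.TL_le_T _ ht))
    obtain ⟨l', hl'⟩ := M.split hu huE (hwC x (X.last.TL_le_T _ hx))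
    have huTL : ∀ l : ℕ, u ^ l ∈ X.last.TL (n - 2) := fun l => pow_mem (X.last.TL_anti (by omega) hu) l
    set e := (u ^ l)⁻¹ * t with he
    set f := (u ^ l')⁻¹ * x with hf
    have heT : e ∈ X.last.TL 2 := mul_mem (inv_mem (X.last.TL_anti (by omega) (huTL l))) ht
    have hfT : f ∈ X.last.TL (n - 3) :=
      mul_mem (inv_mem (X.last.TL_anti (by omega) (huTL l'))) (X.last.TL_anti (by omega) hx)
    have hef : Commute e f := (congrArg Subtype.val (X.central_of_comm M.hη M.hz M.hw M.one_le (by omega) M.up M.w_not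
      (y := ⟨f, hl'⟩) (fun y => X.last.comm_mem (j := n - 3) (k := 1) (by omega) le_rfl (by omega) (by omega) hfT
        (by rw [X.last.TL_of_le le_rfl]; exact X.hET y.2)) ⟨e, hl⟩)).symm
    have h1 : Commute (u ^ l) (u ^ l') := (Commute.refl u).pow_pow l l'
    have h2 : Commute (u ^ l) f := X.last.comm_one (by omega) (huTL l) hfT
    have h3 : Commute e (u ^ l') := (show Commute (u ^ l') e from X.last.comm_one (by omega) (huTL l') heT).symm
    have h4 := (h1.mul_right h2).mul_left (h3.mul_right hef)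
    rw [he, hf, mul_inv_cancel_left, mul_inv_cancel_left] at h4
    exact hne' h4
  have hv1b : b (X.redT v1) = X.redT v1 := hP1 ⟨v ^ k, pow_mem hvE k⟩ hv1T
  have hpowb : ∀ l : ℕ, (b ^ l) (X.redT g) = X.redT v1 ^ l * X.redT g := by
    intro l
    induction l with
    | zero => simp
    | succ l ih => rw [pow_succ', MulAut.mul_apply, ih, map_mul, map_pow, hv1b, hshift, pow_succ, mul_assoc]
  have hbo : b ^ orderOf α = 1 := by
    show (descend X.redT X.redT_surjective ⟨α, X.mem_stab_redT α⟩) ^ orderOf α = 1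
    rw [← map_pow, show (⟨α, X.mem_stab_redT α⟩ : stabW X.redT.ker) ^ orderOf α = 1 from
      Subtype.ext (pow_orderOf_eq_one α), map_one]
  have hone : X.redT v1 = 1 := by
    have h1 := hpowb (orderOf α)
    rw [hbo, MulAut.one_apply, eq_comm, mul_eq_right] at h1
    obtain ⟨c, hc⟩ := ((X.last.frameQ.hS).to_subgroup _) (X.redT v1)
    rw [← orderOf_eq_one_iff]
    exact Nat.eq_one_of_dvd_coprimes (Nat.Coprime.pow_right c hαo) (orderOf_dvd_of_pow_eq_one h1)
      (orderOf_dvd_of_pow_eq_one hc)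
  rw [hone, one_mul, hb] at hshift
  exact QuotientGroup.eq.mp (congrArg Subtype.val hshift).symm

end Moved

/-- No exceptional configuration. -/
theorem impossible (X : ExcData p n S) : False := by
  by_cases h : ∀ η ∈ X.A, ∀ e : X.E, (e : S) ∈ fil S (n - 1) → ((η e : X.E) : S) ∈ fil S (n - 1)
  · exact X.false_of_invariant_last h
  push Not at h
  obtain ⟨η, hη, z0, hz, hw⟩ := h
  obtain ⟨m, M⟩ := exists_moved X hη hz hw
  exact M.false

end ExcData

end CfsgLib.MaxClassResidual
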