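import Cfsg.Agent.Lib.MaxClassResidual.Rigid

/-!
No nontrivial automorphism of order prime to `p` centralises the image of an element outside `T`, and no
group of order prime to `p` is normalised by one.
-/

set_option autoImplicit false
set_option linter.unusedSectionVars false
set_option linter.style.haveILetI false

namespace CfsgLib.MaxClassResidual

open scoped commutatorElement
open Subgroup
open CfsgLib.PolySeq (fil fil_antitone fil_commutator_mem)
open MaxClassEssential (Vec vec lin)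

namespace Frame

variable {p : ℕ} [hpf : Fact p.Prime] {S : Type*} [Group S] [Finite S] (D : Frame p S)

/-- With `T` nonabelian, centralising an element outside `T` modulo `T` forces triviality. -/
theorem eq_one_of_centralize (hna : ¬ ∀ a ∈ D.T, ∀ b ∈ D.T, a * b = b * a) {α : MulAut D.T}
    (ho : (orderOf α).Coprime p) {x t : S} (hx : x ∉ D.T) (ht : t ∈ D.T)
    (h : α * D.cT x * α⁻¹ = D.cT (x * t)) : α = 1 := by
  classical
  have hn := D.h4
  have hns := D.normS_of hx h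
  have hxw : D.XWt α x 1 := ⟨t, ht, by rw [pow_one]; exact h⟩
  obtain ⟨b, hb⟩ := D.exists_wt hns le_rfl
  have hf : ∀ k, 1 ≤ k → D.HasWt α k b := fun k hk => by
    have := D.wt_formula hns hx hxw hb k hk
    rwa [one_pow, mul_one] at this
  -- a deepest pair of non-commuting elements
  let P : ℕ → ℕ → Prop := fun j k => 1 ≤ j ∧ 1 ≤ k ∧ ∃ u ∈ D.Tf j, ∃ v ∈ D.Tf k, u * v ≠ v * u
  let Q : ℕ → Prop := fun s => ∃ j k, j + k = s ∧ P j k
  have hQ2 : Q 2 := by
    push Not at hna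
    obtain ⟨a, ha, c, hc, hac⟩ := hna
    exact ⟨1, 1, rfl, le_rfl, le_rfl, a, by rwa [D.Tf_of_le le_rfl], c, by rwa [D.Tf_of_le le_rfl], hac⟩
  have hbound : ∀ s, Q s → s ≤ 2 * D.n := by
    rintro s ⟨j, k, rfl, hj, hk, u, hu, v, hv, huv⟩
    by_contra hgt
    rcases (show D.n ≤ j ∨ D.n ≤ k by omega) with h' | h'
    · rw [D.Tf_bot h', mem_bot] at hu; subst hu; simp at huv
    · rw [D.Tf_bot h', mem_bot] at hv; subst hv; simp at huv
  set s := Nat.findGreatest Q (2 * D.n)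
  have hs : Q s := Nat.findGreatest_spec (hbound 2 hQ2) hQ2
  have hmax : ∀ s', s < s' → ¬ Q s' := fun s' hlt hQ => Nat.findGreatest_is_greatest hlt (hbound s' hQ) hQ
  obtain ⟨j, k, hjk, hj, hk, u, hu, v, hv, huv⟩ := hs
  have hdeep1 : ∀ w ∈ D.Tf (j + 1), ∀ y ∈ D.Tf k, Commute w y := fun w hw y hy => by
    by_contra hne
    exact hmax _ (by omega) ⟨j + 1, k, rfl, by omega, hk, w, hw, y, hy, hne⟩
  have hdeep2 : ∀ y ∈ D.Tf j, ∀ w ∈ D.Tf (k + 1), Commute y w := fun y hy w hw => by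
    by_contra hne
    exact hmax _ (by omega) ⟨j, k + 1, rfl, hj, by omega, y, hy, w, hw, hne⟩
  set c := ⁅u, v⁆ with hc
  have hc' : c ∈ D.Tf (j + k + 1) := by
    rw [D.Tf_of_two (by omega)]; exact D.comm_Tf j k hj hk u hu v hv
  have hcv : Commute c v := hdeep1 c (D.Tf_anti (by omega) hc') v hv
  have hcu : Commute c u := (hdeep2 u hu c (D.Tf_anti (by omega) hc')).symm
  -- bilinearity
  have hl : ∀ m : ℕ, ⁅u ^ m, v⁆ = c ^ m := fun m => by
    induction m with
    | zero => simp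
    | succ m ih =>
      have e : ⁅u ^ (m + 1), v⁆ = u * ⁅u ^ m, v⁆ * u⁻¹ * ⁅u, v⁆ := by
        simp only [commutatorElement_def, pow_succ']; group
      rw [e, ih, ← (hcu.pow_left m).eq, mul_inv_cancel_right, pow_succ]
  have hr : ∀ m : ℕ, ∀ y ∈ D.Tf j, Commute ⁅y, v⁆ v → ⁅y, v ^ m⁆ = ⁅y, v⁆ ^ m := fun m y hy hyv => by
    induction m with
    | zero => simp
    | succ m ih =>
      have e : ⁅y, v ^ (m + 1)⁆ = ⁅y, v⁆ * (v * ⁅y, v ^ m⁆ * v⁻¹) := by
        simp only [commutatorElement_def, pow_succ']; group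
      rw [e, ih, ← (hyv.pow_left m).eq, mul_inv_cancel_right, pow_succ']
  set uT : D.T := ⟨u, D.Tf_le_T j hu⟩
  set vT : D.T := ⟨v, D.Tf_le_T k hv⟩
  set w := (u ^ b)⁻¹ * ((α uT : D.T) : S) with hw
  set w' := (v ^ b)⁻¹ * ((α vT : D.T) : S) with hw'
  have hw1 : w ∈ D.Tf (j + 1) := hf j hj uT hu
  have hw2 : w' ∈ D.Tf (k + 1) := hf k hk vT hv
  have hvb : v ^ b * w' ∈ D.Tf k := mul_mem (pow_mem hv b) (D.Tf_anti (Nat.le_succ k) hw2)
  have hαc : ((α ⁅uT, vT⁆ : D.T) : S) = c ^ (b * b) := by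
    have eu : ((α uT : D.T) : S) = u ^ b * w := by rw [hw, mul_inv_cancel_left]
    have ev : ((α vT : D.T) : S) = v ^ b * w' := by rw [hw', mul_inv_cancel_left]
    rw [map_commutatorElement, commutatorElement_def]
    simp only [Subgroup.coe_mul, Subgroup.coe_inv]
    rw [eu, ev]
    have e1 : u ^ b * w * (v ^ b * w') * (u ^ b * w)⁻¹ * (v ^ b * w')⁻¹ = ⁅u ^ b, v ^ b⁆ := by
      have c1 := (hdeep1 w hw1 _ hvb).eq
      have c2 := (hdeep2 _ (pow_mem hu b) w' hw2).eq
      calc u ^ b * w * (v ^ b * w') * (u ^ b * w)⁻¹ * (v ^ b * w')⁻¹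
          = u ^ b * (w * (v ^ b * w')) * w⁻¹ * (u ^ b)⁻¹ * (v ^ b * w')⁻¹ := by group
        _ = u ^ b * v ^ b * (w' * (u ^ b)⁻¹) * (v ^ b * w')⁻¹ := by rw [c1]; group
        _ = u ^ b * v ^ b * ((u ^ b)⁻¹ * w') * (v ^ b * w')⁻¹ := by
            rw [(show Commute (u ^ b) w' from c2).inv_left.eq]
        _ = ⁅u ^ b, v ^ b⁆ := by rw [commutatorElement_def]; group
    rw [e1, hr b _ (pow_mem hu b) (by rw [hl]; exact hcv.pow_left b), hl, ← pow_mul]
  -- the leading layer of the commutator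
  have hc1 : c ≠ 1 := fun e => huv (commutatorElement_eq_one_iff_mul_comm.mp e)
  have hex : ∃ l, c ∉ D.Tf (l + 1) := ⟨D.n, by rwa [D.Tf_bot (by omega), mem_bot]⟩
  set l := Nat.find hex
  have hl1 : c ∉ D.Tf (l + 1) := Nat.find_spec hex
  have hlge : j + k + 1 ≤ l := by
    by_contra hlt
    exact hl1 (D.Tf_anti (by omega) hc')
  have hl0 : c ∈ D.Tf l := by
    have := Nat.find_min hex (show l - 1 < l by omega)
    rw [not_not] at this
    rwa [show l - 1 + 1 = l by omega] at this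
  have hkey := hf l (by omega) ⁅uT, vT⁆ hl0
  rw [hαc] at hkey
  change (c ^ b)⁻¹ * c ^ (b * b) ∈ D.Tf (l + 1) at hkey
  set q := QuotientGroup.mk' (D.Tf (l + 1))
  have hq : q c ^ (b * b) = q c ^ b := by
    have h0 : q ((c ^ b)⁻¹ * c ^ (b * b)) = 1 := (QuotientGroup.eq_one_iff _).mpr hkey
    rw [map_mul, map_inv, map_pow, map_pow, inv_mul_eq_one] at h0
    exact h0.symm
  have ho' : orderOf (q c) = p :=
    orderOf_eq_prime (by rw [← map_pow]; exact (QuotientGroup.eq_one_iff _).mpr (D.pow_mem_next (by omega) hl0))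
      (fun e => hl1 ((QuotientGroup.eq_one_iff _).mp e))
  rw [pow_eq_pow_iff_modEq, ho', ← ZMod.natCast_eq_natCast_iff] at hq
  have hb0 : (b : ZMod p) ≠ 0 := fun e => by
    refine hc1 ?_
    obtain ⟨d, rfl⟩ := (ZMod.natCast_eq_zero_iff _ _).mp e
    have hbad := D.wt_congr (c' := 0) (by omega) (by simp) (hf j hj)
    have hbad2 := D.wt_congr (c' := 0) (by omega) (by simp) (hf k hk)
    have h1 : ((α ⁅uT, vT⁆ : D.T) : S) = 1 := by
      rw [map_commutatorElement, commutatorElement_def]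
      simp only [Subgroup.coe_mul, Subgroup.coe_inv]
      have a1 : ((α uT : D.T) : S) ∈ D.Tf (j + 1) := by simpa using hbad uT hu
      have a2 : ((α vT : D.T) : S) ∈ D.Tf k := D.Tf_anti (Nat.le_succ k) (by simpa using hbad2 vT hv)
      rw [(hdeep1 _ a1 _ a2).eq, mul_inv_cancel_right, mul_inv_cancel]
    have h2 : α ⁅uT, vT⁆ = 1 := Subtype.ext h1
    exact congrArg Subtype.val (α.injective (h2.trans (map_one α).symm))
  have hb1 : (b : ZMod p) = ((1 : ℕ) : ZMod p) := by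
    push_cast at hq ⊢
    exact mul_left_cancel₀ hb0 (by rw [mul_one]; exact hq)
  exact D.eq_one_of_wt ho fun i hi => D.wt_congr hi hb1 (hf i hi)

end Frame

namespace HData

variable {p : ℕ} [hpf : Fact p.Prime] {S : Type*} [Group S] [Finite S] (D : HData p S)

/-- No nontrivial group of order prime to `p` in `H` is normalised by an element outside `T`. -/
theorem eq_bot_of_normalized (hna : ¬ ∀ a ∈ D.T, ∀ b ∈ D.T, a * b = b * a) {Z : Subgroup S}
    (hinv : ∀ α ∈ D.H, ∀ u : D.T, (u : S) ∈ Z → ((α u : D.T) : S) ∈ Z) (hlast : fil S (D.n - 2) ≤ Z)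
    {j : ℕ} (hj : 1 ≤ j) (hjn : D.n ≤ j + (p - 2)) (hZ : Z ≤ D.Tf j) {K : Subgroup (MulAut D.T)} (hKH : K ≤ D.H)
    (hK : ¬ p ∣ Nat.card K) {x : S} (hx : x ∉ D.T) (hxK : D.cT x ∈ normalizer (K : Set (MulAut D.T))) :
    K = ⊥ := by
  classical
  set W := Z.subgroupOf D.T
  haveI : Fact (IsPGroup p W) := ⟨(D.toFrame.hS.to_subgroup D.T).to_subgroup _⟩
  haveI : Finite (MulAut W) := Finite.of_injective (fun f => (f : W → W)) DFunLike.coe_injective
  have hW : D.H ≤ stabW W := fun α hα => mem_stabW_of_le fun u hu => mem_subgroupOf.mpr (hinv α hα u hu)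
  let r : D.H →* MulAut W := (resW W).comp (Subgroup.inclusion hW)
  have hr : ∀ (α : D.H) (u : W), ((r α u : W) : D.T) = (α : MulAut D.T) u := fun α u => rfl
  set X : D.H := ⟨D.cT x, D.hSH x⟩
  set K' := (K.subgroupOf D.H).map r with hK'
  have hK'p : ¬ p ∣ Nat.card K' := fun hd =>
    hK ((hd.trans (card_map_dvd _ _)).trans (Nat.card_congr (subgroupOfEquivOfLe hKH).toEquiv).dvd)
  have hX : r X ∈ normalizer (K' : Set (MulAut W)) := by
    refine le_normalizer_map r (mem_map_of_mem r ?_)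
    exact mem_normalizer_iff.mpr fun g => mem_normalizer_iff.mp hxK (g : MulAut D.T)
  have hdeg : ∀ (m : ℕ) (u : W), ∃ w : W, ((w : D.T) : S) ∈ D.Tf (j + m) ∧
      (((lin (r X) : Module.End (ZMod p) (Vec p W)) - 1) ^ m) (vec u) = vec w := by
    intro m u
    induction m with
    | zero => exact ⟨u, hZ (mem_subgroupOf.mp u.2), by simp⟩
    | succ m ih =>
      obtain ⟨w, hw, he⟩ := ih
      refine ⟨r X w * w⁻¹, ?_, ?_⟩
      · have e : (((r X w * w⁻¹ : W) : D.T) : S) = ⁅((w : D.T) : S), x⁆⁻¹ := by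
          rw [Subgroup.coe_mul, Subgroup.coe_mul, Subgroup.coe_inv, Subgroup.coe_inv, hr, D.toFrame.coe_cT,
            commutatorElement_def]
          group
        rw [e, D.toFrame.Tf_of_two (by omega), ← add_assoc]
        exact inv_mem (Frame.comm_mem_succ (D := D.toFrame) (by omega) hw x)
      · rw [pow_succ', Module.End.mul_apply, he, LinearMap.sub_apply, Module.End.one_apply,
          MaxClassEssential.lin_vec, MaxClassEssential.vec_mul, MaxClassEssential.vec_inv, sub_eq_add_neg]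
  have hpow : ((lin (r X) : Module.End (ZMod p) (Vec p W)) - 1) ^ (p - 2) = 0 := by
    refine LinearMap.ext fun v => ?_
    obtain ⟨u, rfl⟩ := MaxClassEssential.vec_surjective v
    obtain ⟨w, hw, he⟩ := hdeg (p - 2) u
    rw [D.toFrame.Tf_bot hjn, mem_bot] at hw
    rw [he, show w = 1 from Subtype.ext (Subtype.ext hw), MaxClassEssential.vec_one, LinearMap.zero_apply]
  have hcomm := aut_commute_of_sub_one_pow (p := p) D.hp hK'p hX hpow
  rw [eq_bot_iff]
  intro k hk
  set kH : D.H := ⟨k, hKH hk⟩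
  have h1 := hcomm (r kH) (mem_map_of_mem r (mem_subgroupOf.mpr hk))
  set c := D.cT x * k * (D.cT x)⁻¹ * k⁻¹ with hc
  have hcK : c ∈ K := mul_mem ((mem_normalizer_iff.mp hxK k).mp hk) (inv_mem hk)
  have hco : ∀ g ∈ K, (orderOf g).Coprime p := fun g hg =>
    ((hpf.out.coprime_iff_not_dvd.mpr hK).symm).coprime_dvd_left (Subgroup.orderOf_dvd_natCard K hg)
  have h2 : r ⟨c, hKH hcK⟩ = 1 := by
    rw [show (⟨c, hKH hcK⟩ : D.H) = X * kH * X⁻¹ * kH⁻¹ from rfl, map_mul, map_mul, map_mul, map_inv, map_inv, h1,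
      mul_inv_cancel_right, mul_inv_cancel]
  have hc1 : c = 1 := D.eq_one_of_fix (hKH hcK) (hco c hcK) fun u hu =>
    congrArg Subtype.val (show r ⟨c, hKH hcK⟩ ⟨u, mem_subgroupOf.mpr (hlast hu)⟩ = ⟨u, _⟩ by rw [h2]; rfl)
  have h3 : k * D.cT x * k⁻¹ = D.cT (x * 1) := by
    rw [hc, mul_inv_eq_one, mul_inv_eq_iff_eq_mul] at hc1
    rw [mul_one, ← hc1, mul_inv_cancel_right]
  exact mem_bot.mpr (D.toFrame.eq_one_of_centralize hna (hco k hk) hx (one_mem _) h3)

end HData

end CfsgLib.MaxClassResidual
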