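import Cfsg.Agent.Lib.MaxClassDegree.Weights
import Cfsg.Agent.Lib.MaxClassGood.Apply
import Cfsg.Agent.Lib.MaxClassGood.Exponent
import Cfsg.Agent.Lib.PolynomialSequence

/-!
The layers of the two-step centralizer of a group of maximal class with positive degree of commutativity.
-/

set_option autoImplicit false
set_option linter.style.haveILetI false
set_option linter.unusedSectionVars false

namespace CfsgLib.MaxClassResidual

open scoped commutatorElement
open Subgroup
open CfsgLib.PolySeq (fil fil_antitone fil_commutator_mem)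
open CfsgLib.MaxClassGood (twoStep mem_twoStep)

/-- A group of maximal class whose two-step centralizers all coincide. -/
structure Frame (p : ℕ) (S : Type*) [Group S] where
  n : ℕ
  h4 : 4 ≤ n
  hG : Nat.card S = p ^ n
  hc : Group.nilpotencyClass S = n - 1
  hdeg : ∀ k, 2 ≤ k → k + 2 ≤ n → twoStep S k = twoStep S 2

namespace Frame

variable {p : ℕ} [hp : Fact p.Prime] {S : Type*} [Group S] [Finite S] (D : Frame p S)

/-- The two-step centralizer. -/
def T (_D : Frame p S) : Subgroup S := twoStep S 2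

/-- The series of the two-step centralizer. -/
def Tf (k : ℕ) : Subgroup S := if k ≤ 1 then D.T else fil S k

theorem hn3 : 3 ≤ D.n := le_trans (by omega) D.h4

theorem hS (D : Frame p S) : IsPGroup p S := IsPGroup.of_card D.hG

theorem fil_two_le : fil S 2 ≤ D.T := CfsgLib.MaxClassGood.fil_le_twoStep 2

instance T_normal : D.T.Normal := ⟨fun t ht g => by
  have h : ⁅g, t⁆ ∈ D.T := D.fil_two_le (fil_commutator_mem (i := 1) (j := 1) (mem_top g) (mem_top t))
  have e : g * t * g⁻¹ = ⁅g, t⁆ * t := by rw [commutatorElement_def]; group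
  rw [e]; exact mul_mem h ht⟩

theorem T_index : D.T.index = p :=
  CfsgLib.MaxClassGood.twoStep_index D.hn3 D.hG D.hc le_rfl (by have := D.h4; omega)

theorem card_T : Nat.card D.T = p ^ (D.n - 1) := by
  have h := D.T.card_mul_index
  rw [D.T_index, D.hG, show D.n = D.n - 1 + 1 by have := D.h4; omega, pow_succ] at h
  exact Nat.eq_of_mul_eq_mul_right hp.out.pos h

theorem T_ne_top : D.T ≠ ⊤ := fun h => by
  have := D.T_index
  rw [h, index_top] at this
  exact hp.out.one_lt.ne this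

theorem exists_not_mem : ∃ x : S, x ∉ D.T := by
  by_contra h
  push Not at h
  exact D.T_ne_top (eq_top_iff.mpr fun g _ => h g)

theorem card_fil {j : ℕ} (h2 : 2 ≤ j) (hj : j ≤ D.n) : Nat.card (fil S j) = p ^ (D.n - j) :=
  CfsgLib.MaxClassRank.card_fil D.hn3 D.hG D.hc h2 hj

theorem fil_bot {j : ℕ} (hj : D.n ≤ j) : fil S j = ⊥ := CfsgLib.MaxClassRank.fil_eq_bot D.hn3 D.hG D.hc hj

theorem eq_one_of_fil {j : ℕ} (hj : D.n ≤ j) {g : S} (hg : g ∈ fil S j) : g = 1 := by
  rwa [D.fil_bot hj, mem_bot] at hg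

theorem Tf_of_le {k : ℕ} (h : k ≤ 1) : D.Tf k = D.T := if_pos h

theorem Tf_of_two {k : ℕ} (h : 2 ≤ k) : D.Tf k = fil S k := if_neg (by omega)

theorem Tf_le_T (k : ℕ) : D.Tf k ≤ D.T := by
  by_cases h : k ≤ 1
  · rw [D.Tf_of_le h]
  · rw [D.Tf_of_two (by omega)]; exact (fil_antitone (by omega)).trans D.fil_two_le

theorem fil_le_Tf {k j : ℕ} (h2 : 2 ≤ j) (h : k ≤ j) : fil S j ≤ D.Tf k := by
  by_cases hk : k ≤ 1
  · rw [D.Tf_of_le hk]; exact (fil_antitone h2).trans D.fil_two_le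
  · rw [D.Tf_of_two (by omega)]; exact fil_antitone h

theorem Tf_anti {i j : ℕ} (h : i ≤ j) : D.Tf j ≤ D.Tf i := by
  by_cases hj : j ≤ 1
  · rw [D.Tf_of_le hj, D.Tf_of_le (h.trans hj)]
  · rw [D.Tf_of_two (show 2 ≤ j by omega)]; exact D.fil_le_Tf (by omega) h

theorem Tf_le_fil {k : ℕ} : D.Tf k ≤ fil S k := by
  by_cases hk : k ≤ 1
  · intro g _
    have : fil S k = ⊤ := by unfold fil; rw [show k - 1 = 0 by omega]; rfl
    rw [this]; exact mem_top g
  · rw [D.Tf_of_two (by omega)]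

theorem Tf_bot {k : ℕ} (hk : D.n ≤ k) : D.Tf k = ⊥ := by
  rw [D.Tf_of_two (by have := D.h4; omega), D.fil_bot hk]

instance Tf_normal (k : ℕ) : (D.Tf k).Normal := by
  by_cases hk : k ≤ 1
  · rw [D.Tf_of_le hk]; infer_instance
  · rw [D.Tf_of_two (by omega)]; infer_instance

theorem card_Tf {k : ℕ} (h1 : 1 ≤ k) (hk : k ≤ D.n) : Nat.card (D.Tf k) = p ^ (D.n - k) := by
  by_cases h : k ≤ 1
  · rw [D.Tf_of_le h, D.card_T, show k = 1 by omega]
  · rw [D.Tf_of_two (by omega), D.card_fil (by omega) hk]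

/-- Inverses do not matter for commutators in a subgroup. -/
theorem comm_swap {N : Subgroup S} {a b : S} (h : ⁅a, b⁆ ∈ N) : ⁅b, a⁆ ∈ N := by
  rw [← commutatorElement_inv]; exact inv_mem h

/-- Two steps down. -/
theorem comm_T {k : ℕ} (h2 : 2 ≤ k) {u t : S} (hu : u ∈ fil S k) (ht : t ∈ D.T) :
    ⁅u, t⁆ ∈ fil S (k + 2) := by
  by_cases hk : k + 2 ≤ D.n
  · have ht' : t ∈ twoStep S k := by rw [D.hdeg k h2 hk]; exact ht
    exact mem_twoStep.mp ht' u hu
  · have h := fil_commutator_mem hu (show t ∈ fil S 1 from mem_top t)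
    rw [D.eq_one_of_fil (by omega) h]; exact one_mem _

theorem fil_two_eq : fil S 2 = ⁅D.T, (⊤ : Subgroup S)⁆ := by
  refine le_antisymm ?_ ?_
  · obtain ⟨x, hx⟩ := D.exists_not_mem
    set N := ⁅D.T, (⊤ : Subgroup S)⁆ with hN
    haveI : N.Normal := inferInstance
    rw [CfsgLib.MaxClassRank.fil_succ (show 1 ≤ 1 from le_rfl), commutator_le]
    intro g _ h _
    have hT : D.T ≤ CfsgLib.MaxClassRank.centralMod N := fun t ht =>
      CfsgLib.MaxClassRank.mem_centralMod.mpr fun s => commutator_mem_commutator ht (mem_top s)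
    have hxg : ∀ g : S, ∃ i : ℕ, (x ^ i)⁻¹ * g ∈ D.T :=
      CfsgLib.MaxClassDegree.pow_mem_of_not_mem D.hn3 D.hG D.hc D.T_index hx
    have hcx : ∀ s : S, ⁅s, x⁆ ∈ N := by
      intro s
      obtain ⟨i, hi⟩ := hxg s
      have h1 := CfsgLib.MaxClassRank.mk_comm_iff.mpr (CfsgLib.MaxClassRank.mem_centralMod.mp (hT hi) x)
      refine CfsgLib.MaxClassRank.mk_comm_iff.mp ?_
      have e : s = x ^ i * ((x ^ i)⁻¹ * s) := by group
      rw [e, map_mul, map_pow, mul_assoc, h1, ← mul_assoc, ← mul_assoc, ← pow_succ, ← pow_succ']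
    obtain ⟨i, hi⟩ := hxg h
    refine CfsgLib.MaxClassRank.mk_comm_iff.mp ?_
    have h1 := CfsgLib.MaxClassRank.mk_comm_iff.mpr (CfsgLib.MaxClassRank.mem_centralMod.mp (hT hi) g)
    have h2 := CfsgLib.MaxClassRank.mk_comm_iff.mpr (hcx g)
    have e : h = x ^ i * ((x ^ i)⁻¹ * h) := by group
    rw [e, map_mul, map_pow, ← mul_assoc, ((show Commute _ _ from h2).pow_right i).eq, mul_assoc, ← h1,
      ← mul_assoc]
  · rw [CfsgLib.MaxClassRank.fil_succ (show 1 ≤ 1 from le_rfl)]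
    exact commutator_mono (by unfold fil; exact le_top) le_rfl

theorem comm_TT {t u : S} (ht : t ∈ D.T) (hu : u ∈ D.T) : ⁅t, u⁆ ∈ fil S 3 := by
  set N := fil S 3
  have hf2 : fil S 2 ≤ CfsgLib.MaxClassRank.centralMod N := fun w hw =>
    CfsgLib.MaxClassRank.mem_centralMod.mpr fun s => fil_commutator_mem (j := 1) hw (mem_top s)
  by_cases ht2 : t ∈ fil S 2
  · exact fil_commutator_mem ht2 (show u ∈ fil S 1 from mem_top u)
  set M : Subgroup S := (centralizer ({QuotientGroup.mk' N t} : Set (S ⧸ N))).comap (QuotientGroup.mk' N) with hM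
  have hmemM : ∀ g, g ∈ M ↔ ⁅g, t⁆ ∈ N := fun g => by
    rw [hM, mem_comap, mem_centralizer_singleton_iff, CfsgLib.MaxClassRank.mk_comm_iff]
  have hle : zpowers t ⊔ fil S 2 ≤ M := sup_le
    (zpowers_le.mpr ((hmemM t).mpr (by rw [commutatorElement_self]; exact one_mem _)))
    fun w hw => (hmemM w).mpr (CfsgLib.MaxClassRank.mem_centralMod.mp (hf2 hw) t)
  have hTle : D.T ≤ zpowers t ⊔ fil S 2 := by
    refine (eq_of_le_of_card_ge (sup_le (zpowers_le.mpr ht) D.fil_two_le) ?_).ge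
    have hlt : fil S 2 < zpowers t ⊔ fil S 2 :=
      lt_of_le_of_ne le_sup_right fun e => ht2 (e.ge (mem_sup_left (mem_zpowers t)))
    have h := CfsgLib.MaxClassGood.card_grow D.hG hlt
    rw [D.card_fil le_rfl (by have := D.h4; omega), ← pow_succ,
      show D.n - 2 + 1 = D.n - 1 by have := D.h4; omega, ← D.card_T] at h
    exact h
  exact comm_swap ((hmemM u).mp (hle (hTle hu)))

/-- Degree of commutativity at least one. -/
theorem comm_Tf : ∀ j k, 1 ≤ j → 1 ≤ k → ∀ u ∈ D.Tf j, ∀ v ∈ D.Tf k, ⁅u, v⁆ ∈ fil S (j + k + 1) := by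
  have h1 : ∀ k, 1 ≤ k → ∀ u ∈ D.T, ∀ v ∈ D.Tf k, ⁅u, v⁆ ∈ fil S (k + 2) := by
    intro k hk u hu v hv
    rcases eq_or_lt_of_le hk with rfl | h
    · rw [D.Tf_of_le le_rfl] at hv; exact D.comm_TT hu hv
    · rw [D.Tf_of_two h] at hv; exact comm_swap (D.comm_T h hv hu)
  have hN : ∀ {m : ℕ} (X : Subgroup S), X ≤ normalizer (fil S m : Set S) := fun {m} X => by
    rw [normalizer_eq_top]; exact le_top
  have h2 : ∀ j, 2 ≤ j → ∀ k, 2 ≤ k → ⁅fil S j, fil S k⁆ ≤ fil S (j + k + 1) := by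
    intro j hj
    induction j, hj using Nat.le_induction with
    | base =>
      intro k hk
      rw [D.fil_two_eq]
      refine CfsgLib.Stabilizer.commutator_commutator_le_of_rotate (hN _) (hN _) (hN _) ?_ ?_
      · rw [commutator_comm (⊤ : Subgroup S), ← CfsgLib.MaxClassRank.fil_succ (by omega), commutator_le]
        exact fun a ha b hb => fil_antitone (by omega) (D.comm_T (k := k + 1) (by omega) ha hb)
      · rw [commutator_le]
        intro a ha b hb
        have hle : ⁅fil S k, D.T⁆ ≤ fil S (k + 2) := commutator_le.mpr fun a ha b hb => D.comm_T hk ha hb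
        exact fil_antitone (show 2 + k + 1 ≤ k + 2 + 1 by omega) (fil_commutator_mem (j := 1) (hle ha) hb)
    | succ j hj ih =>
      intro k hk
      rw [CfsgLib.MaxClassRank.fil_succ (show 1 ≤ j by omega)]
      refine CfsgLib.Stabilizer.commutator_commutator_le_of_rotate (hN _) (hN _) (hN _) ?_ ?_
      · rw [commutator_comm (⊤ : Subgroup S), ← CfsgLib.MaxClassRank.fil_succ (by omega),
          commutator_comm (fil S (k + 1))]
        exact (ih (k + 1) (by omega)).trans (fil_antitone (by omega))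
      · rw [commutator_comm (fil S k), commutator_le]
        intro a ha b hb
        exact fil_antitone (show j + 1 + k + 1 ≤ j + k + 1 + 1 by omega) (fil_commutator_mem (j := 1) (ih k hk ha) hb)
  intro j k hj hk u hu v hv
  rcases eq_or_lt_of_le hj with rfl | hj'
  · rw [D.Tf_of_le le_rfl] at hu
    rw [show 1 + k + 1 = k + 2 by omega]; exact h1 k hk u hu v hv
  rcases eq_or_lt_of_le hk with rfl | hk'
  · rw [D.Tf_of_le le_rfl] at hv
    rw [show j + 1 + 1 = j + 2 by omega]; exact comm_swap (h1 j hj v hv u hu)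
  rw [D.Tf_of_two hj'] at hu; rw [D.Tf_of_two hk'] at hv
  exact h2 j hj' k hk' (commutator_mem_commutator hu hv)

theorem comm_TTf {k : ℕ} (hk : 1 ≤ k) {t u : S} (ht : t ∈ D.T) (hu : u ∈ D.Tf k) :
    ⁅t, u⁆ ∈ fil S (k + 2) := by
  have h := D.comm_Tf 1 k le_rfl hk t (by rwa [D.Tf_of_le le_rfl]) u hu
  rwa [show 1 + k + 1 = k + 2 by omega] at h

/-- The last two layers are central in `T`. -/
theorem fil_last_central {u t : S} (hu : u ∈ fil S (D.n - 2)) (ht : t ∈ D.T) : u * t = t * u := by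
  have h := D.comm_T (k := D.n - 2) (by have := D.h4; omega) hu ht
  exact commutatorElement_eq_one_iff_mul_comm.mp (D.eq_one_of_fil (by have := D.h4; omega) h)

/-- Elements outside `T` are good. -/
theorem good {g : S} (hg : g ∉ D.T) : Nat.card (centralizer ({g} : Set S)) = p ^ 2 :=
  CfsgLib.MaxClassGood.good_of_outside D.hn3 D.hG D.hc (fun h => hg (D.fil_two_le h))
    fun k h2 hk hk' => hg (by rw [D.hdeg k h2 hk] at hk'; exact hk')

theorem layer {k : ℕ} (h1 : 1 ≤ k) (hk : k < D.n) {u : S} (hu : u ∈ D.Tf k) (hu' : u ∉ D.Tf (k + 1)) :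
    zpowers u ⊔ D.Tf (k + 1) = D.Tf k := by
  refine eq_of_le_of_card_ge (sup_le (zpowers_le.mpr hu) (D.Tf_anti (Nat.le_succ k))) ?_
  have hlt : D.Tf (k + 1) < zpowers u ⊔ D.Tf (k + 1) :=
    lt_of_le_of_ne le_sup_right fun e => hu' (e.ge (mem_sup_left (mem_zpowers u)))
  have h := CfsgLib.MaxClassGood.card_grow D.hG hlt
  rw [D.card_Tf (by omega) hk, ← pow_succ, show D.n - (k + 1) + 1 = D.n - k by omega, ← D.card_Tf h1 hk.le] at h
  exact h

theorem exists_exact {k : ℕ} (h1 : 1 ≤ k) (hk : k < D.n) : ∃ u ∈ D.Tf k, u ∉ D.Tf (k + 1) := by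
  by_contra h
  push Not at h
  have h2 := card_le_of_le (show D.Tf k ≤ D.Tf (k + 1) from h)
  rw [D.card_Tf h1 hk.le, D.card_Tf (by omega) hk, Nat.pow_le_pow_iff_right hp.out.one_lt] at h2
  omega

theorem layer_pow {k : ℕ} (h1 : 1 ≤ k) (hk : k < D.n) {u : S} (hu : u ∈ D.Tf k) (hu' : u ∉ D.Tf (k + 1)) {v : S}
    (hv : v ∈ D.Tf k) : ∃ i : ℕ, (u ^ i)⁻¹ * v ∈ D.Tf (k + 1) := by
  obtain ⟨a, ha, b, hb, rfl⟩ := mem_sup_of_normal_right.mp ((D.layer h1 hk hu hu').ge hv)
  obtain ⟨i, rfl⟩ := (mem_powers_iff_mem_zpowers.mpr ha : a ∈ Submonoid.powers u)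
  exact ⟨i, by rwa [inv_mul_cancel_left]⟩

/-- Commutation with an element outside `T` moves exactly one layer. -/
theorem comm_exact {g : S} (hg : g ∉ D.T) {k : ℕ} (h1 : 1 ≤ k) (hk : k + 1 < D.n) {u : S} (hu : u ∈ D.Tf k)
    (hu' : u ∉ D.Tf (k + 1)) : ⁅u, g⁆ ∉ fil S (k + 2) := by
  rcases eq_or_lt_of_le h1 with rfl | h
  · intro hug
    rw [D.Tf_of_le le_rfl] at hu
    rw [D.Tf_of_two le_rfl] at hu'
    have hgen : closure ({g, u} : Set S) = ⊤ :=
      CfsgLib.MaxClassDegree.eq_top_of_mems D.hn3 D.hG D.hc D.fil_two_le D.T_index hg hu hu'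
        (subset_closure (by simp)) (subset_closure (by simp))
    obtain ⟨z, hz, hz'⟩ := CfsgLib.MaxClassGood.exists_gen D.hn3 D.hG D.hc (j := 2) (by omega) le_rfl
    refine hz' ?_
    rw [CfsgLib.MaxClassRank.fil_succ (show 1 ≤ 1 from le_rfl)] at hz
    have hle : closure ({g, u} : Set S) ≤ CfsgLib.MaxClassRank.centralMod (fil S 3) := by
      rw [closure_le]
      rintro w (rfl | rfl)
      · exact CfsgLib.MaxClassRank.mem_centralMod_gens hgen (by rw [commutatorElement_self]; exact one_mem _)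
          (comm_swap hug)
      · exact CfsgLib.MaxClassRank.mem_centralMod_gens hgen hug (by rw [commutatorElement_self]; exact one_mem _)
    exact commutator_le.mpr (fun a _ b _ => CfsgLib.MaxClassRank.mem_centralMod.mp (hle (hgen.ge (mem_top a))) b) hz
  · rw [D.Tf_of_two h] at hu
    rw [D.Tf_of_two (by omega)] at hu'
    exact CfsgLib.MaxClassRank.comm_layer D.hn3 D.hG D.hc (D.good hg) h (by omega) hu hu'

/-- The normal subgroups inside `T`. -/
theorem normal_le_T {N : Subgroup S} [N.Normal] (hN : N ≤ D.T) : ∃ k, 1 ≤ k ∧ k ≤ D.n ∧ N = D.Tf k := by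
  obtain ⟨r, hr, hr'⟩ := (Nat.dvd_prime_pow hp.out).mp (D.hG ▸ N.index_dvd_card)
  have hr1 : 1 ≤ r := by
    by_contra h
    rw [show r = 0 by omega, pow_zero, index_eq_one] at hr'
    exact D.T_ne_top (top_le_iff.mp (hr' ▸ hN))
  refine ⟨r, hr1, hr, ?_⟩
  rcases eq_or_lt_of_le hr1 with h | h
  · subst h
    rw [D.Tf_of_le le_rfl]
    refine eq_of_le_of_card_ge hN ?_
    have h1 := N.card_mul_index
    rw [hr', pow_one, ← D.T.card_mul_index, D.T_index] at h1
    exact (Nat.eq_of_mul_eq_mul_right hp.out.pos h1).ge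
  · rw [D.Tf_of_two h]
    exact CfsgLib.MaximalClass.normal_eq_lcs D.hn3 D.hG D.hc N h hr'

theorem lcs_T (m : ℕ) (hm : 1 ≤ m) :
    ((⊤ : Subgroup D.T).lowerCentralSeries m).map D.T.subtype ≤ fil S (2 * m + 1) := by
  induction m, hm using Nat.le_induction with
  | base =>
    rw [Subgroup.lowerCentralSeries_succ, Subgroup.lowerCentralSeries_zero, map_commutator,
      ← MonoidHom.range_eq_map, range_subtype, commutator_le]
    exact fun a ha b hb => D.comm_TT ha hb
  | succ m hm ih =>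
    rw [Subgroup.lowerCentralSeries_succ, map_commutator, ← MonoidHom.range_eq_map, range_subtype]
    refine (Subgroup.commutator_mono ih le_rfl).trans ?_
    rw [commutator_le]
    intro u hu v hv
    rw [show 2 * (m + 1) + 1 = 2 * m + 1 + 2 by omega]
    exact D.comm_T (by omega) hu hv

end Frame

end CfsgLib.MaxClassResidual
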