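import Cfsg.Agent.Lib.Fusion.OrderPFive.Layers
import Cfsg.Agent.Lib.Fusion.OrderPFive.Torus
import Cfsg.Agent.Lib.Fusion.OrderPFive.Ext
import Cfsg.Agent.Lib.PolynomialSequence

/-!
Invariant subgroups of an essential subgroup, and an automorphism inverting its quotient of order
`p ^ 2` by an invariant subgroup.
-/

set_option autoImplicit false
set_option linter.unusedSectionVars false
set_option linter.style.haveILetI false

namespace CfsgLib.MaxClassResidual

open scoped commutatorElement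
open Cfsg Cfsg.FusionSystem

variable {Ω : Type*} [Group Ω] {S : Subgroup Ω} [Finite S] {p : ℕ} [Fact p.Prime] {F : FusionSystem S}
  {E : Subgroup Ω}

/-- The trace on `E` of a subgroup of `S`. -/
def tr (hES : E ≤ S) (A : Subgroup S) : Subgroup E := A.comap (Subgroup.inclusion hES)

theorem mem_tr {hES : E ≤ S} {A : Subgroup S} {e : E} : e ∈ tr hES A ↔ (⟨(e : Ω), hES e.2⟩ : S) ∈ A :=
  Iff.rfl

theorem range_incl (hES : E ≤ S) : (Subgroup.inclusion hES).range = E.subgroupOf S := by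
  ext v
  exact ⟨fun ⟨e, he⟩ => he ▸ Subgroup.mem_subgroupOf.mpr e.2,
    fun hv => ⟨⟨v, Subgroup.mem_subgroupOf.mp hv⟩, Subtype.ext rfl⟩⟩

theorem map_tr (hES : E ≤ S) {A : Subgroup S} (hA : A ≤ E.subgroupOf S) :
    (tr hES A).map (Subgroup.inclusion hES) = A := by
  rw [tr, Subgroup.map_comap_eq, range_incl, inf_eq_right.mpr hA]

theorem relIndex_tr (hES : E ≤ S) (A : Subgroup S) {B : Subgroup S} (hB : B ≤ E.subgroupOf S) :
    (tr hES A).relIndex (tr hES B) = A.relIndex B := by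
  rw [show tr hES A = A.comap (Subgroup.inclusion hES) from rfl, Subgroup.relIndex_comap, map_tr hES hB]

theorem index_tr (hES : E ≤ S) (A : Subgroup S) : (tr hES A).index = A.relIndex (E.subgroupOf S) := by
  rw [← Subgroup.relIndex_top_right, show tr hES A = A.comap (Subgroup.inclusion hES) from rfl,
    Subgroup.relIndex_comap, ← MonoidHom.range_eq_map, range_incl]

theorem tr_normal (hES : E ≤ S) (A : Subgroup S) [A.Normal] : (tr hES A).Normal :=
  Subgroup.Normal.comap inferInstance _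

theorem tr_invariant (hES : E ≤ S) (A : Subgroup S) [hA : A.Normal] {r : MulAut E}
    (hr : r ∈ autInducedBy S E) {v : E} (hv : v ∈ tr hES A) : r v ∈ tr hES A := by
  obtain ⟨g, hg, -, he⟩ := mem_autInducedBy_iff.mp hr
  rw [mem_tr] at hv ⊢
  convert hA.conj_mem _ hv ⟨g, hg⟩ using 1
  exact Subtype.ext (he v)

/-- Invariance under `Aut_F(E)`. -/
def Inv (F : FusionSystem S) (K : Subgroup E) : Prop := ∀ α ∈ F.autGroup E, ∀ x ∈ K, α x ∈ K

theorem inv_bot : Inv F (⊥ : Subgroup E) := fun α _ x hx => by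
  rw [Subgroup.mem_bot] at hx ⊢
  rw [hx, map_one]

theorem inv_top : Inv F (⊤ : Subgroup E) := fun _ _ _ _ => trivial

theorem inv_center : Inv F (Subgroup.center E) := fun α _ x hx =>
  Subgroup.mem_center_iff.mpr fun y => by
    have h := congrArg α (Subgroup.mem_center_iff.mp hx (α⁻¹ y))
    rwa [map_mul, map_mul, MulAut.apply_inv_self] at h

theorem inv_commutator {A B : Subgroup E} (hA : Inv F A) (hB : Inv F B) : Inv F ⁅A, B⁆ := by
  intro α hα x hx
  have h : (⁅A, B⁆).map α.toMonoidHom ≤ ⁅A, B⁆ := by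
    rw [Subgroup.map_commutator]
    refine Subgroup.commutator_mono ?_ ?_
    · rintro _ ⟨a, ha, rfl⟩; exact hA α hα a ha
    · rintro _ ⟨b, hb, rfl⟩; exact hB α hα b hb
  exact h ⟨x, hx, rfl⟩

theorem inv_centralizer {K : Subgroup E} (hK : Inv F K) : Inv F (Subgroup.centralizer (K : Set E)) := by
  intro α hα x hx
  refine Subgroup.mem_centralizer_iff.mpr fun y hy => ?_
  have h := congrArg α (Subgroup.mem_centralizer_iff.mp hx _ (hK α⁻¹ ((F.autGroup E).inv_mem hα) y hy))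
  rwa [map_mul, map_mul, MulAut.apply_inv_self] at h

theorem inv_congr {K L : Subgroup E} (h : K = L) (hK : Inv F K) : Inv F L := h ▸ hK

/-- A subgroup described as the elements whose commutators with `A` lie in `K`. -/
theorem inv_of_comm {K L A : Subgroup E} (hK : Inv F K) (hA : Inv F A)
    (h : ∀ x, x ∈ L ↔ ∀ a ∈ A, ⁅x, a⁆ ∈ K) : Inv F L := by
  intro α hα x hx
  refine (h _).mpr fun a ha => ?_
  have h1 := hK α hα _ ((h x).mp hx _ (hA α⁻¹ ((F.autGroup E).inv_mem hα) a ha))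
  rwa [map_commutatorElement, MulAut.apply_inv_self] at h1

/-- The automorphisms fixing a subgroup pointwise. -/
def fixP (K : Subgroup E) : Subgroup (MulAut E) where
  carrier := {α | ∀ u ∈ K, α u = u}
  one_mem' := fun _ _ => rfl
  mul_mem' := fun ha hb u hu => by rw [MulAut.mul_apply, hb u hu, ha u hu]
  inv_mem' := fun {a} ha u hu => by
    conv_lhs => rw [← ha u hu, MulAut.inv_apply_self]

/-- An automorphism inverting `E` modulo an invariant subgroup of index `p ^ 2` and fixing that subgroup. -/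
theorem exists_inverting (hES : E ≤ S) {N0 W : Subgroup E} [N0.Normal] (hN0 : Inv F N0) (hN0W : N0 ≤ W)
    (hrW : N0.relIndex W = p) (hrE : W.index = p) (hcomm : ∀ a b : E, a⁻¹ * b⁻¹ * a * b ∈ N0)
    (hmove : ¬ Inv F W) {c : MulAut E} (hc : c ∈ F.autGroup E) (hfix : ∀ u ∈ N0, c u = u)
    (hcW : ∀ v ∈ W, v⁻¹ * c v ∈ N0) {x : E} (hx : x ∉ W) (hk : x⁻¹ * c x ∈ W) (hk' : x⁻¹ * c x ∉ N0) :
    ∃ τ ∈ F.autGroup E, (∀ u ∈ N0, τ u = u) ∧ ∀ v : E, τ v * v ∈ N0 := by
  classical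
  have hpp : p.Prime := Fact.out
  haveI : Finite E := finite_of_le hES
  set k := x⁻¹ * c x with hkdef
  haveI hWn : W.Normal := by
    constructor
    intro v hv e
    have h1 := hN0W (hcomm e⁻¹ v⁻¹)
    rw [inv_inv, inv_inv, show e * v * e⁻¹ * v⁻¹ = (e * v * e⁻¹) * v⁻¹ by group] at h1
    have := W.mul_mem h1 hv
    rwa [inv_mul_cancel_right] at this
  haveI : (N0.subgroupOf W).Normal := Subgroup.normal_subgroupOf
  have hgen : ∀ v ∈ W, ∃ i : ℤ, (k ^ i)⁻¹ * v ∈ N0 := fun v hv => by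
    obtain ⟨i, hi⟩ := OrderPFive.exists_zpow_mem (M := N0.subgroupOf W) hrW (x := (⟨k, hk⟩ : W)) hk' ⟨v, hv⟩
    exact ⟨i, hi⟩
  have hWp : ∀ v : E, v ^ (p : ℤ) ∈ W := fun v => by
    rw [zpow_natCast, ← hrE]; exact W.pow_index_mem v
  have hN0p : ∀ v ∈ W, v ^ p ∈ N0 := fun v hv => by
    have := (N0.subgroupOf W).pow_index_mem ⟨v, hv⟩
    rw [show (N0.subgroupOf W).index = p from hrW] at this
    exact this
  have hNinv : ∀ φ ∈ F.autGroup E, ∀ v, φ v ∈ N0 → v ∈ N0 := fun φ hφ v hv => by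
    have := hN0 φ⁻¹ ((F.autGroup E).inv_mem hφ) _ hv
    rwa [MulAut.inv_apply_self] at this
  obtain ⟨φ, hφ, hφk⟩ : ∃ φ ∈ F.autGroup E, φ k ∉ W := by
    by_contra hh
    push Not at hh
    refine hmove fun φ hφ v hv => ?_
    obtain ⟨i, hi⟩ := hgen v hv
    rw [show v = k ^ i * ((k ^ i)⁻¹ * v) by group, map_mul, map_zpow]
    exact W.mul_mem (W.zpow_mem (hh φ hφ) i) (hN0W (hN0 φ hφ _ hi))
  set l := φ k with hl
  let A : Subgroup (MulAut E) := F.autGroup E ⊓ fixP N0
  have hcA : c ∈ A := ⟨hc, hfix⟩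
  set d : MulAut E := φ * c * φ⁻¹ with hd
  have hdA : d ∈ A := by
    refine ⟨(F.autGroup E).mul_mem ((F.autGroup E).mul_mem hφ hc) ((F.autGroup E).inv_mem hφ), fun u hu => ?_⟩
    rw [hd, MulAut.mul_apply, MulAut.mul_apply, hfix _ (hN0 φ⁻¹ ((F.autGroup E).inv_mem hφ) u hu),
      MulAut.apply_inv_self]
  obtain ⟨i, hi⟩ := OrderPFive.exists_zpow_mem hrE hx l
  have hi' : ¬ (p : ℤ) ∣ i := fun hdiv => hφk (by
    obtain ⟨q, rfl⟩ := hdiv
    have := W.mul_mem (W.zpow_mem (hWp x) q) hi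
    rwa [← zpow_mul, mul_inv_cancel_left] at this)
  have hφk' : φ⁻¹ k ∉ W := fun hh => by
    obtain ⟨m, hm⟩ := hgen _ hh
    have h1 : (l ^ m)⁻¹ * k ∈ N0 := by
      have := hN0 φ hφ _ hm
      rwa [map_mul, map_inv, map_zpow, MulAut.apply_inv_self] at this
    by_cases hdiv : (p : ℤ) ∣ m
    · obtain ⟨q, rfl⟩ := hdiv
      refine hk' ?_
      have hlp : (l ^ ((p : ℤ) * q)) ∈ N0 := by
        rw [hl, ← map_zpow]
        exact hN0 φ hφ _ (by rw [zpow_mul, zpow_natCast]; exact N0.zpow_mem (hN0p k hk) q)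
      have := N0.mul_mem hlp h1
      rwa [mul_inv_cancel_left] at this
    · obtain ⟨u, v, huv⟩ : IsCoprime m (p : ℤ) :=
        ((Nat.prime_iff_prime_int.mp hpp).coprime_iff_not_dvd.mpr hdiv).symm
      refine hφk ?_
      have h2 : l ^ m ∈ W := by
        have := W.mul_mem hk (W.inv_mem (hN0W h1))
        rwa [mul_inv_rev, inv_inv, mul_inv_cancel_left] at this
      have := W.mul_mem (W.zpow_mem h2 u) (W.zpow_mem (hWp l) v)
      rwa [← zpow_mul, ← zpow_mul, ← zpow_add, show m * u + (p : ℤ) * v = 1 by linear_combination huv,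
        zpow_one] at this
  obtain ⟨j, hj⟩ := OrderPFive.exists_zpow_mem hrE hx (φ⁻¹ k)
  have hj' : ¬ (p : ℤ) ∣ j := fun hdiv => hφk' (by
    obtain ⟨q, rfl⟩ := hdiv
    have := W.mul_mem (W.zpow_mem (hWp x) q) hj
    rwa [← zpow_mul, mul_inv_cancel_left] at this)
  have hcomm' : ∀ a b : E, Commute (QuotientGroup.mk a : E ⧸ N0) (QuotientGroup.mk b) := fun a b => by
    show (QuotientGroup.mk (a * b) : E ⧸ N0) = QuotientGroup.mk (b * a)
    rw [QuotientGroup.eq]
    have := hcomm b a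
    rwa [show (a * b)⁻¹ * (b * a) = b⁻¹ * a⁻¹ * b * a by group]
  have hshift : ∀ (m : ℤ) (v : E), (x ^ m)⁻¹ * v ∈ W → (v * k ^ m)⁻¹ * c v ∈ N0 := by
    intro m v hv
    rw [← QuotientGroup.eq]
    have hcx : (QuotientGroup.mk (c x) : E ⧸ N0) = QuotientGroup.mk x * QuotientGroup.mk k := by
      rw [← QuotientGroup.mk_mul, hkdef, mul_inv_cancel_left]
    obtain ⟨w, hw, hv'⟩ : ∃ w ∈ W, v = x ^ m * w := ⟨_, hv, (mul_inv_cancel_left _ _).symm⟩
    subst hv'
    have hcw : (QuotientGroup.mk (c w) : E ⧸ N0) = QuotientGroup.mk w :=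
      (QuotientGroup.eq.mpr (hcW w hw)).symm
    rw [map_mul, map_zpow, QuotientGroup.mk_mul, QuotientGroup.mk_mul, QuotientGroup.mk_mul, QuotientGroup.mk_zpow,
      QuotientGroup.mk_zpow, QuotientGroup.mk_zpow, hcx, (hcomm' x k).mul_zpow, hcw,
      mul_assoc, mul_assoc, ((hcomm' k w).zpow_left m).eq]
  have hdl : l⁻¹ * d l ∈ N0 := by
    have := hN0 φ hφ _ (hcW k hk)
    rw [map_mul, map_inv] at this
    rwa [hd, MulAut.mul_apply, MulAut.mul_apply, hl, MulAut.inv_apply_self]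
  have hdk : (k * l ^ j)⁻¹ * d k ∈ N0 := by
    have := hN0 φ hφ _ (hshift j (φ⁻¹ k) hj)
    rwa [map_mul, map_inv, map_mul, map_zpow, MulAut.apply_inv_self] at this
  have hlp : l ^ p ∈ N0 := by
    rw [hl, ← map_pow]
    exact hN0 φ hφ _ (hN0p k hk)
  obtain ⟨τ, hτ, h1, h2, -⟩ := OrderPFive.torus_mod (A := A) (K := N0) (fun α hα v hv => hN0 α hα.1 v hv)
    hcomm hcA hdA (k := k) (l := l) (hN0p k hk) hlp (hcW k hk) hdl (hshift i l hi) hdk hi' hj'
    (a := -1) (b := -1) (by norm_num)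
  refine ⟨τ, hτ.1, hτ.2, fun v => ?_⟩
  let M : Subgroup E :=
    { carrier := {v | τ v * v ∈ N0}
      one_mem' := by simp [N0.one_mem]
      mul_mem' := fun {a b} ha hb => by
        show τ (a * b) * (a * b) ∈ N0
        rw [← QuotientGroup.eq_one_iff, map_mul, QuotientGroup.mk_mul, QuotientGroup.mk_mul, QuotientGroup.mk_mul]
        rw [Set.mem_setOf_eq, ← QuotientGroup.eq_one_iff, QuotientGroup.mk_mul] at ha hb
        rw [(hcomm' (τ a) (τ b)).eq, mul_assoc, ← mul_assoc (QuotientGroup.mk (τ a) : E ⧸ N0), ha, one_mul, hb]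
      inv_mem' := fun {a} ha => by
        show τ a⁻¹ * a⁻¹ ∈ N0
        rw [← QuotientGroup.eq_one_iff, map_inv, QuotientGroup.mk_mul, QuotientGroup.mk_inv, QuotientGroup.mk_inv]
        rw [Set.mem_setOf_eq, ← QuotientGroup.eq_one_iff, QuotientGroup.mk_mul] at ha
        rw [← mul_inv_rev, (hcomm' a (τ a)).eq, ha, inv_one] }
  have hkM : k ∈ M := by
    show τ k * k ∈ N0
    rw [zpow_neg_one, inv_inv] at h1
    have := (inferInstance : N0.Normal).mem_comm h1
    exact this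
  have hlM : l ∈ M := by
    show τ l * l ∈ N0
    rw [zpow_neg_one, inv_inv] at h2
    exact (inferInstance : N0.Normal).mem_comm h2
  have hN0M : N0 ≤ M := fun u hu => by
    show τ u * u ∈ N0
    rw [hτ.2 u hu]
    exact N0.mul_mem hu hu
  obtain ⟨m, hm⟩ := OrderPFive.exists_zpow_mem hrE hφk v
  obtain ⟨m', hm'⟩ := hgen _ hm
  have := M.mul_mem (M.zpow_mem hlM m) (M.mul_mem (M.zpow_mem hkM m') (hN0M hm'))
  rwa [mul_inv_cancel_left, mul_inv_cancel_left] at this

end CfsgLib.MaxClassResidual
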