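import Cfsg.Agent.Lib.MaxClassResidual.Data
import Cfsg.Agent.Lib.Fusion.Hyperfocal

/-!
The automorphisms of the subgroup fixing the last two layers form a `p`-group.
-/

set_option autoImplicit false
set_option linter.unusedSectionVars false
set_option linter.style.haveILetI false

namespace CfsgLib.MaxClassResidual

open scoped commutatorElement
open Subgroup
open CfsgLib.PolySeq (fil fil_antitone fil_commutator_mem)

namespace Data

variable {p : ℕ} [hpf : Fact p.Prime] {S : Type*} [Group S] [Finite S] (D : Data p S)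

/-- The automorphisms fixing the last two layers. -/
def fixLast : Subgroup (MulAut D.E) := D.A ⊓ fixW ((fil S (D.n - 2)).subgroupOf D.E)

theorem range_le_fixLast : D.cE.range ≤ D.fixLast := by
  rintro _ ⟨g, rfl⟩
  refine ⟨D.cE_mem g, fun u hu => Subtype.ext ?_⟩
  rw [D.coe_cE, ← D.toFrame.fil_last_central (mem_subgroupOf.mp hu) (D.normalizer_le_T g.2), mul_inv_cancel_right]

/-- An automorphism of order prime to `p` fixing the last two layers and normalising the image of a larger
subgroup is trivial. -/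
theorem eq_one_of_fix_ext {η : MulAut D.E} (hη : η ∈ D.fixLast) (ho : (orderOf η).Coprime p) {Q : Subgroup S}
    (hQ : D.E < Q) (hQN : Q ≤ normalizer (D.E : Set S))
    (hn : ∀ q : normalizer (D.E : Set S), (q : S) ∈ Q → ∃ q' : normalizer (D.E : Set S), (q' : S) ∈ Q ∧
      η * D.cE q * η⁻¹ = D.cE q') : η = 1 := by
  haveI : Finite (MulAut D.T) := Finite.of_injective (fun f => (f : D.T → D.T)) DFunLike.coe_injective
  obtain ⟨α, hα, hres⟩ := D.ext η hη.1 Q hQ hQN hn
  obtain ⟨a, m, hm, hord⟩ := Nat.exists_eq_pow_mul_and_not_dvd (orderOf_pos α).ne' p hpf.out.ne_one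
  have hpow : ∀ (l : ℕ) (e : D.E), (((α ^ l) ⟨(e : S), D.hET e.2⟩ : D.T) : S) = (((η ^ l) e : D.E) : S) := by
    intro l
    induction l with
    | zero => intro e; rfl
    | succ l ih =>
      intro e
      rw [pow_succ, pow_succ, MulAut.mul_apply, MulAut.mul_apply, ← ih]
      exact congrArg (fun v => (((α ^ l) v : D.T) : S)) (Subtype.ext (hres e))
  have hom : orderOf (α ^ p ^ a) = m := by
    rw [orderOf_pow' α (pow_ne_zero a hpf.out.ne_zero), hord, Nat.gcd_mul_right_left,
      Nat.mul_div_cancel_left m (pow_pos hpf.out.pos a)]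
  have h1 : α ^ p ^ a = 1 := by
    refine D.toHData.eq_one_of_fix (pow_mem hα _) ?_ fun u hu => Subtype.ext ?_
    · rw [hom]
      exact (hpf.out.coprime_iff_not_dvd.mpr hm).symm
    · have h2 := hpow (p ^ a) ⟨u, D.fil_last_le hu⟩
      rw [(pow_mem hη (p ^ a)).2 _ (mem_subgroupOf.mpr hu)] at h2
      exact h2
  have h3 : η ^ p ^ a = 1 := MulEquiv.ext fun e => Subtype.ext (by
    rw [← hpow, h1]
    rfl)
  rw [← orderOf_eq_one_iff]
  exact Nat.eq_one_of_dvd_coprimes (ho.pow_right a) dvd_rfl (orderOf_dvd_of_pow_eq_one h3)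

theorem isSolvable_innE : Group.IsSolvable (innE D.E) := by
  haveI := D.isPGroup_innE.isNilpotent
  infer_instance

/-- Only conjugations fix the last two layers. -/
theorem fixLast_eq : D.fixLast = D.cE.range := by
  classical
  set C := D.fixLast with hC
  have hIC : innE D.E ≤ C := le_trans (by
    rintro _ ⟨e, rfl⟩
    exact ⟨⟨e, le_normalizer e.2⟩, MulEquiv.ext fun y => Subtype.ext rfl⟩) D.range_le_fixLast
  haveI hnI : ((innE D.E).subgroupOf C).Normal :=
    (normal_subgroupOf_iff_le_normalizer hIC).mpr fun η _ => D.innE_normal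
  set f := QuotientGroup.mk' ((innE D.E).subgroupOf C) with hf
  have hfs : Function.Surjective f := QuotientGroup.mk'_surjective _
  have hf1 : ∀ c : C, f c = 1 ↔ (c : MulAut D.E) ∈ innE D.E := fun c =>
    (QuotientGroup.eq_one_iff c).trans mem_subgroupOf
  let R : Sylow p C := (show IsPGroup p (D.cE.range.subgroupOf C) from
    D.isPGroup_range_cE.comap_of_injective _ C.subtype_injective).toSylow
    (fun h => D.hSylA (h.trans (Dvd.intro _ (relIndex_mul_relIndex _ C D.A D.range_le_fixLast inf_le_left))))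
  let c₀ : normalizer (D.E : Set S) →* C := D.cE.codRestrict C fun g => D.range_le_fixLast ⟨g, rfl⟩
  have hcrit : Cfsg.HasNormalPComplement p (C ⧸ (innE D.E).subgroupOf C) := by
    refine Cfsg.FusionSystem.hasNormalPComplement_of_centralizes (R.mapSurjective hfs) fun Qb hQb g hg hgo => ?_
    rcases eq_or_ne Qb ⊥ with rfl | hne
    · exact mem_centralizer_iff.mpr fun y hy => by rw [mem_bot.mp hy, one_mul, mul_one]
    suffices g = 1 by rw [this]; exact one_mem _
    set Qn : Subgroup (normalizer (D.E : Set S)) := Qb.comap (f.comp c₀) with hQn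
    set Q : Subgroup S := Qn.map (normalizer (D.E : Set S)).subtype with hQ
    have hmemQ : ∀ q : normalizer (D.E : Set S), (q : S) ∈ Q ↔ f (c₀ q) ∈ Qb := fun q => by
      rw [hQ]
      exact (mem_map_iff_mem (normalizer (D.E : Set S)).subtype_injective).trans (by rw [hQn]; rfl)
    have hlift : ∀ y ∈ Qb, ∀ c : C, f c = y → ∃ q : normalizer (D.E : Set S), (q : S) ∈ Q ∧
        (c : MulAut D.E) = D.cE q := by
      intro y hy c hc
      have h1 := hQb hy
      rw [Sylow.coe_mapSurjective] at h1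
      obtain ⟨r, hr, hry⟩ := h1
      obtain ⟨q, hq⟩ := mem_subgroupOf.mp hr
      obtain ⟨e, he⟩ := (hf1 (r⁻¹ * c)).mp (by rw [map_mul, map_inv, hry, hc, inv_mul_cancel])
      have h2 : (c : MulAut D.E) = D.cE (q * ⟨e, le_normalizer e.2⟩) := by
        rw [map_mul, hq, show D.cE ⟨e, le_normalizer e.2⟩ = MulAut.conj e from
          MulEquiv.ext fun z => Subtype.ext rfl, he, coe_mul, coe_inv, mul_inv_cancel_left]
      exact ⟨_, (hmemQ _).mpr (by rw [show c₀ (q * ⟨e, le_normalizer e.2⟩) = c from Subtype.ext h2.symm, hc]; exact hy),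
        h2⟩
    have hEQ : D.E ≤ Q := fun e he => (hmemQ ⟨e, le_normalizer he⟩).mpr (by
      rw [show f (c₀ ⟨e, le_normalizer he⟩) = 1 from (hf1 _).mpr (D.cE_mem_innE.mpr he)]
      exact one_mem _)
    have hlt : D.E < Q := by
      refine lt_of_le_of_ne hEQ fun e => hne (eq_bot_iff.mpr fun y hy => ?_)
      obtain ⟨c, rfl⟩ := hfs y
      obtain ⟨q, hq, hcq⟩ := hlift _ hy c rfl
      exact (hf1 c).mpr (hcq ▸ D.cE_mem_innE.mpr (e.ge hq))
    obtain ⟨c, rfl⟩ := hfs g
    obtain ⟨a, m, hm, hord⟩ := Nat.exists_eq_pow_mul_and_not_dvd (orderOf_pos (c : MulAut D.E)).ne' p hpf.out.ne_one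
    have hone : (c : MulAut D.E) ^ p ^ a = 1 := by
      refine D.eq_one_of_fix_ext (pow_mem c.2 _) ?_ hlt (map_subtype_le Qn) fun q hq => ?_
      · rw [orderOf_pow' _ (pow_ne_zero a hpf.out.ne_zero), hord, Nat.gcd_mul_right_left,
          Nat.mul_div_cancel_left m (pow_pos hpf.out.pos a)]
        exact (hpf.out.coprime_iff_not_dvd.mpr hm).symm
      · have hgp := pow_mem hg (p ^ a)
        obtain ⟨q', hq', h⟩ := hlift _ ((mem_normalizer_iff.mp hgp _).mp ((hmemQ q).mp hq))
          (c ^ p ^ a * c₀ q * (c ^ p ^ a)⁻¹) (by rw [map_mul, map_mul, map_inv, map_pow])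
        exact ⟨q', hq', h⟩
    rw [← orderOf_eq_one_iff]
    refine Nat.eq_one_of_dvd_coprimes (hgo.pow_right a) dvd_rfl (orderOf_dvd_of_pow_eq_one ?_)
    rw [← map_pow]
    exact (hf1 _).mpr (show (c : MulAut D.E) ^ p ^ a ∈ innE D.E from hone ▸ one_mem _)
  obtain ⟨P, Nb, hNb, hcompl⟩ := hcrit
  set N : Subgroup (MulAut D.E) := (Nb.comap f).map C.subtype with hN
  have hIN : innE D.E ≤ N := fun a ha => ⟨⟨a, hIC ha⟩, by
    show f ⟨a, hIC ha⟩ ∈ Nb
    rw [(hf1 _).mpr ha]; exact one_mem _, rfl⟩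
  have hindex : ¬ p ∣ (innE D.E).relIndex N := by
    have h1 : (innE D.E).relIndex N = Nat.card Nb := by
      have e : (innE D.E).subgroupOf C = (⊥ : Subgroup (C ⧸ (innE D.E).subgroupOf C)).comap f :=
        ((MonoidHom.comap_bot f).trans (QuotientGroup.ker_mk' _)).symm
      calc (innE D.E).relIndex N = ((innE D.E).subgroupOf C).relIndex (Nb.comap f) :=
            (relIndex_comap _ _ _).symm
        _ = ((⊥ : Subgroup (C ⧸ (innE D.E).subgroupOf C)).comap f).relIndex (Nb.comap f) :=
            congrArg (fun W : Subgroup C => W.relIndex (Nb.comap f)) e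
        _ = Nat.card Nb := by
            rw [relIndex_comap, map_comap_eq_self_of_surjective hfs, relIndex_bot_left]
    rw [h1, ← hcompl.index_eq_card]
    exact P.not_dvd_index
  have hcop : (Nat.card (innE D.E)).Coprime ((innE D.E).relIndex N) := by
    obtain ⟨b, hb⟩ := IsPGroup.iff_card.mp D.isPGroup_innE
    rw [hb]
    exact (hpf.out.coprime_iff_not_dvd.mpr hindex).pow_left b
  obtain ⟨K, hKN, hKc, hprod, hinv⟩ :=
    exists_invariant_complement hIN (fun η _ => D.innE_normal) hcop D.isSolvable_innE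
  obtain ⟨u, hu, hu'⟩ := D.exists_u
  set g₀ : normalizer (D.E : Set S) := ⟨u, D.fil_i_le_normalizer hu⟩
  have hxN : D.cE g₀ ∈ normalizer (N : Set (MulAut D.E)) := by
    have hn := hNb.comap f
    have h1 : C ≤ normalizer (N : Set (MulAut D.E)) := (normal_subgroupOf_iff_le_normalizer (map_subtype_le _)).mp (by
      rw [subgroupOf, comap_map_eq_self_of_injective C.subtype_injective]; exact hn)
    exact h1 (D.range_le_fixLast ⟨g₀, rfl⟩)
  obtain ⟨_, ⟨e, rfl⟩, hev⟩ := hinv _ hxN D.innE_normal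
  set v : normalizer (D.E : Set S) := ⟨e, le_normalizer e.2⟩ * g₀ with hvdef
  have hv : MulAut.conj e * D.cE g₀ = D.cE v := by
    rw [hvdef, map_mul]; exact congrArg (· * D.cE g₀) (MulEquiv.ext fun z => Subtype.ext rfl)
  rw [hv] at hev
  have hvT : (v : S) ∈ D.T := D.normalizer_le_T v.2
  have hvE : (v : S) ∉ D.E := fun h => hu' (by simpa [hvdef, g₀] using mul_mem (inv_mem e.2) h)
  have hKp : ¬ p ∣ Nat.card K := hKc.symm ▸ hindex
  have hKC : K ≤ C := hKN.trans (map_subtype_le _)
  -- the quadratic bound and Hall–Higman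
  haveI : Fact (IsPGroup p (omegaOne p D.E)) := ⟨(D.toFrame.hS.to_subgroup D.E).to_subgroup _⟩
  have hn4 := D.toFrame.h4
  have hp5 := D.hp
  set L : Module.End (ZMod p) (MaxClassEssential.Vec p (omegaOne p D.E)) :=
    MaxClassEssential.lin (resO p D.E (D.cE v)) with hL
  let j₀ : ℕ := if p + 2 ≤ D.n then D.n - p + 1 else 1
  have hE : ∀ w ∈ omegaOne p D.E, ((w : D.E) : S) ∈ D.toFrame.Tf j₀ := by
    intro w hw
    have hle : omegaOne p D.E ≤ (D.toFrame.Tf j₀).subgroupOf D.E := by
      rw [omegaOne, closure_le]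
      intro z hz
      show (z : S) ∈ D.toFrame.Tf j₀
      simp only [j₀]
      split_ifs with h
      · rw [D.toFrame.Tf_of_two (by omega)]
        exact D.toFrame.order_p_window (by omega) h (D.hET z.2)
          (by rw [← SubmonoidClass.coe_pow, (hz : z ^ p = 1)]; rfl)
      · rw [D.toFrame.Tf_of_le le_rfl]; exact D.hET z.2
    exact mem_subgroupOf.mp (hle hw)
  have hj₀ : 1 ≤ j₀ := by simp only [j₀]; split_ifs <;> omega
  have hstep : ∀ (m : ℕ) (w : omegaOne p D.E), ∃ z : omegaOne p D.E,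
      ((z : D.E) : S) ∈ D.toFrame.Tf (j₀ + 2 * m) ∧
      ((L - 1) ^ m) (MaxClassEssential.vec w) = MaxClassEssential.vec z := by
    intro m w
    induction m with
    | zero => exact ⟨w, by rw [Nat.mul_zero, Nat.add_zero]; exact hE _ w.2, by simp⟩
    | succ m ih =>
      obtain ⟨z, hz, he⟩ := ih
      refine ⟨resO p D.E (D.cE v) z * z⁻¹, ?_, ?_⟩
      · have e1 : (((resO p D.E (D.cE v) z * z⁻¹ : omegaOne p D.E) : D.E) : S) = ⁅(v : S), ((z : D.E) : S)⁆ := by
          rw [Subgroup.coe_mul, Subgroup.coe_mul, Subgroup.coe_inv, Subgroup.coe_inv, resO_coe, D.coe_cE,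
            commutatorElement_def]
        rw [e1, D.toFrame.Tf_of_two (by omega), Nat.mul_succ, ← add_assoc]
        exact D.toFrame.comm_TTf (by omega) hvT hz
      · rw [pow_succ', Module.End.mul_apply, he, LinearMap.sub_apply, Module.End.one_apply, hL,
          MaxClassEssential.lin_vec, MaxClassEssential.vec_mul, MaxClassEssential.vec_inv, sub_eq_add_neg]
  have hpow : (L - 1) ^ (p - 2) = 0 := by
    refine LinearMap.ext fun y => ?_
    obtain ⟨w, rfl⟩ := MaxClassEssential.vec_surjective y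
    obtain ⟨z, hz, he⟩ := hstep (p - 2) w
    rw [he, LinearMap.zero_apply]
    have hz1 : z = 1 := by
      have h0 : ((z : D.E) : S) = 1 := by
        have hj : D.n ≤ j₀ + 2 * (p - 2) := by simp only [j₀]; split_ifs <;> omega
        have h1 := D.toFrame.Tf_anti hj hz
        rwa [D.toFrame.Tf_bot le_rfl, mem_bot] at h1
      exact Subtype.ext (Subtype.ext h0)
    rw [hz1, MaxClassEssential.vec_one]
  have hcomm : ∀ k ∈ K, D.cE v * k = k * D.cE v := by
    intro k hk
    have h1 := aut_commute_of_sub_one_pow (p := p) hp5 (K := K.map (resO p D.E))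
      (fun hd => hKp (hd.trans (card_map_dvd _ _))) (le_normalizer_map _ (mem_map_of_mem _ hev)) hpow
      _ (mem_map_of_mem _ hk)
    set c : MulAut D.E := D.cE v * k * (D.cE v)⁻¹ * k⁻¹ with hc
    have hcK : c ∈ K := mul_mem ((mem_normalizer_iff.mp hev k).mp hk) (inv_mem hk)
    have hc1 : resO p D.E c = 1 := by
      rw [hc, map_mul, map_mul, map_mul, map_inv, map_inv, h1, mul_inv_cancel_right, mul_inv_cancel]
    have h3 : c = 1 := by
      refine aut_eq_one_of_fix_omega (p := p) (by omega) (D.toFrame.hS.to_subgroup D.E)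
        (((hpf.out.coprime_iff_not_dvd.mpr hKp).symm).coprime_dvd_left (Subgroup.orderOf_dvd_natCard K hcK))
        fun z hz => ?_
      have h4 := resO_coe p D.E c ⟨z, subset_closure hz⟩
      rw [hc1] at h4
      exact h4.symm
    rwa [hc, mul_inv_eq_one, mul_inv_eq_iff_eq_mul] at h3
  -- the complement is trivial
  have hK1 : ∀ k ∈ K, k = 1 := by
    intro k hk
    set Qn : Subgroup (normalizer (D.E : Set S)) := D.E.subgroupOf _ ⊔ zpowers v with hQn
    set Q : Subgroup S := Qn.map (normalizer (D.E : Set S)).subtype with hQ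
    refine D.eq_one_of_fix_ext (hKC hk)
      (((hpf.out.coprime_iff_not_dvd.mpr hKp).symm).coprime_dvd_left (Subgroup.orderOf_dvd_natCard K hk))
      (Q := Q) ?_ (map_subtype_le _) fun q hq => ?_
    · refine lt_of_le_of_ne (fun y hy => ⟨⟨y, le_normalizer hy⟩,
        mem_sup_left (mem_subgroupOf.mpr hy), rfl⟩) fun e1 => hvE ?_
      exact e1.ge ⟨v, mem_sup_right (mem_zpowers v), rfl⟩
    · have hle : Qn ≤ (Qn.map D.cE).comap ((MulAut.conj k).toMonoidHom.comp D.cE) := by
        rw [hQn, sup_le_iff, zpowers_le]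
        constructor
        · intro y hy
          have h1 : k * D.cE y * k⁻¹ ∈ innE D.E :=
            (mem_normalizer_iff.mp D.innE_normal _).mp (D.cE_mem_innE.mpr (mem_subgroupOf.mp hy))
          obtain ⟨e', he'⟩ := h1
          exact ⟨⟨e', le_normalizer e'.2⟩, mem_sup_left (mem_subgroupOf.mpr e'.2),
            (MulEquiv.ext fun z => Subtype.ext rfl : D.cE ⟨e', _⟩ = MulAut.conj e').trans he'⟩
        · refine ⟨v, mem_sup_right (mem_zpowers v), ?_⟩
          show D.cE v = k * D.cE v * k⁻¹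
          rw [← hcomm k hk, mul_inv_cancel_right]
      rw [hQ] at hq
      obtain ⟨q', hq', he⟩ := hle ((mem_map_iff_mem (normalizer (D.E : Set S)).subtype_injective).mp hq)
      exact ⟨q', mem_map_of_mem _ hq', he.symm⟩
  have hNI : ∀ b ∈ N, b ∈ innE D.E := by
    intro b hb
    obtain ⟨e, he, k, hk, rfl⟩ := hprod b hb
    rw [hK1 k hk, mul_one]; exact he
  have hNb1 : Nb = ⊥ := by
    rw [eq_bot_iff]
    intro y hy
    obtain ⟨c, rfl⟩ := hfs y
    exact (hf1 c).mpr (hNI c (mem_map_of_mem C.subtype hy))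
  have hCp : IsPGroup p C := by
    have hP : (P : Subgroup (C ⧸ (innE D.E).subgroupOf C)) = ⊤ := by
      rw [hNb1] at hcompl
      exact isComplement'_bot_left.mp hcompl
    have hker : IsPGroup p f.ker := by
      rw [QuotientGroup.ker_mk']
      exact D.isPGroup_innE.comap_of_injective _ C.subtype_injective
    have h2 := (P.2).comap_of_ker_isPGroup f hker
    rw [hP, comap_top] at h2
    exact h2.of_equiv topEquiv
  refine le_antisymm (fun c hc => ?_) D.range_le_fixLast
  have hR : (⊤ : Subgroup C) = (R : Subgroup C) :=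
    R.3 (hCp.to_subgroup ⊤) le_top
  exact mem_subgroupOf.mp (hR.le (mem_top (⟨c, hc⟩ : C)))

/-- An invariant subgroup of automorphisms fixing the last two layers is inner. -/
theorem le_innE_of_fix {K : Subgroup (MulAut D.E)} (hKA : K ≤ D.A)
    (hnorm : D.A ≤ normalizer (K : Set (MulAut D.E)))
    (hfix : ∀ η ∈ K, ∀ u : D.E, (u : S) ∈ fil S (D.n - 2) → η u = u) : K ≤ innE D.E := by
  refine D.hrad K hKA hnorm (D.isPGroup_range_cE.to_le fun η hη => ?_)
  rw [← D.fixLast_eq]
  exact ⟨hKA hη, fun u hu => hfix η hη u (mem_subgroupOf.mp hu)⟩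

/-- An invariant subgroup containing the last two layers is centralised only by elements of `E`. -/
theorem mem_of_centralize {M : Subgroup S} (hME : M ≤ D.E) (hM : fil S (D.n - 2) ≤ M)
    (hinv : ∀ η ∈ D.A, ∀ e : D.E, (e : S) ∈ M → ((η e : D.E) : S) ∈ M) {g : normalizer (D.E : Set S)}
    (hg : ∀ m ∈ M, (g : S) * m = m * g) : (g : S) ∈ D.E := by
  refine D.cE_mem_innE.mp (D.le_innE_of_fix (K := D.A ⊓ fixW (M.subgroupOf D.E)) inf_le_left ?_ ?_
    ⟨D.cE_mem g, fun u hu => Subtype.ext ?_⟩)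
  · intro η hη
    refine mem_normalizer_iff.mpr fun a => ?_
    have key : ∀ η ∈ D.A, ∀ a ∈ D.A ⊓ fixW (M.subgroupOf D.E), η * a * η⁻¹ ∈ D.A ⊓ fixW (M.subgroupOf D.E) := by
      intro η hη a ha
      refine mem_inf.mpr ⟨mul_mem (mul_mem hη (mem_inf.mp ha).1) (inv_mem hη), fun u hu => ?_⟩
      rw [MulAut.mul_apply, MulAut.mul_apply,
        ha.2 _ (mem_subgroupOf.mpr (hinv _ (inv_mem hη) u (mem_subgroupOf.mp hu))), MulAut.apply_inv_self]
    refine ⟨key η hη a, fun h => ?_⟩
    have := key _ (inv_mem hη) _ h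
    simpa [mul_assoc] using this
  · exact fun η hη u hu => hη.2 u (mem_subgroupOf.mpr (hM hu))
  · rw [D.coe_cE, hg _ (mem_subgroupOf.mp hu), mul_inv_cancel_right]

end Data

end CfsgLib.MaxClassResidual
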