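import Mathlib.GroupTheory.GroupAction.Quotient
import Mathlib.GroupTheory.OrderOfElement
import Mathlib.Data.Set.Card
import Mathlib.GroupTheory.GroupAction.SubMulAction
import Mathlib.GroupTheory.Index
import Mathlib.Tactic.Linarith
import Mathlib.Algebra.BigOperators.Ring.Finset

/-!
A finite group in which every nontrivial element has exactly two fixed points and the point stabilisers
are commutative: two elements of order at least six commute.
-/

set_option autoImplicit false
set_option linter.style.haveILetI false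

namespace CfsgLib.MaxClassResidual

open MulAction

/-- Klein's count of fixed points. -/
theorem commute_of_two_fixed {G P : Type*} [Group G] [Finite G] [MulAction G P]
    (h2 : ∀ g : G, g ≠ 1 → (fixedBy P g).ncard = 2)
    (hcomm : ∀ a : P, ∀ g ∈ stabilizer G a, ∀ h ∈ stabilizer G a, g * h = h * g)
    {g h : G} (hg : 6 ≤ orderOf g) (hh : 6 ≤ orderOf h) : g * h = h * g := by
  classical
  haveI := Fintype.ofFinite G
  let F : SubMulAction G P :=
    { carrier := {a | stabilizer G a ≠ ⊥}
      smul_mem' := fun k a ha e => ha (by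
        rw [stabilizer_smul_eq_stabilizer_map_conj, Subgroup.map_eq_bot_iff_of_injective] at e
        · exact e
        · exact (MulAut.conj k).injective) }
  have hmem : ∀ {k : G}, k ≠ 1 → ∀ {a : P}, k • a = a → a ∈ F := fun {k} hk {a} hka e =>
    hk (Subgroup.mem_bot.mp ((show stabilizer G a = ⊥ from e).le (mem_stabilizer_iff.mpr hka)))
  have hfin : ((F : Set P)).Finite := by
    refine (Set.finite_iUnion fun k : {k : G // k ≠ 1} =>
      Set.finite_of_ncard_ne_zero (s := fixedBy P (k : G)) (by rw [h2 _ k.2]; omega)).subset ?_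
    intro a ha
    obtain ⟨⟨k, hk⟩, hk1'⟩ := Subgroup.ne_bot_iff_exists_ne_one.mp ha
    have hk1 : k ≠ 1 := fun e => hk1' (Subtype.ext e)
    exact Set.mem_iUnion.mpr ⟨⟨k, hk1⟩, hk⟩
  haveI : Finite F := hfin.to_subtype
  haveI := Fintype.ofFinite F
  set N := Fintype.card G
  set Ω := Quotient (orbitRel G F)
  haveI := Fintype.ofFinite Ω
  have hfix : ∀ k : G, k ≠ 1 → Fintype.card (fixedBy F k) = 2 := by
    intro k hk
    rw [← h2 k hk, ← Nat.card_eq_fintype_card, ← Nat.card_coe_set_eq]
    exact Nat.card_congr
      { toFun := fun x => ⟨((x : F) : P), congrArg Subtype.val x.2⟩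
        invFun := fun x => ⟨⟨x.1, hmem hk x.2⟩, Subtype.ext x.2⟩
        left_inv := fun x => rfl
        right_inv := fun x => rfl }
  have hburn : 2 * (N - 1) + Fintype.card F = Fintype.card Ω * N := by
    rw [← sum_card_fixedBy_eq_card_orbits_mul_card_group G F, ← Finset.sum_erase_add _ _ (Finset.mem_univ (1 : G)),
      Finset.sum_congr rfl (fun k hk => hfix k (Finset.ne_of_mem_erase hk)), Finset.sum_const,
      Finset.card_erase_of_mem (Finset.mem_univ _), Finset.card_univ, smul_eq_mul, mul_comm]
    congr 1
    exact (Fintype.card_congr (Equiv.subtypeUnivEquiv fun x => (one_smul G x : (1 : G) • x = x))).symm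
  have hos : ∀ a : F, Nat.card (orbit G a) * Nat.card (stabilizer G (a : P)) = N := by
    intro a
    rw [show stabilizer G (a : P) = stabilizer G a from (SubMulAction.stabilizer_of_subMul a).symm]
    simp only [Nat.card_eq_fintype_card]
    exact card_orbit_mul_card_stabilizer_eq_card_group G a
  have hst2 : ∀ a : F, 2 ≤ Nat.card (stabilizer G (a : P)) := fun a =>
    (Subgroup.one_lt_card_iff_ne_bot _).mpr a.2
  let w : Ω → ℕ := fun o => Nat.card (orbit G o.out)
  have hsum : Fintype.card F = ∑ o : Ω, w o := by
    rw [Fintype.card_congr (selfEquivSigmaOrbits G F), Fintype.card_sigma]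
    exact Finset.sum_congr rfl fun o _ => (Nat.card_eq_fintype_card).symm
  have hw : ∀ o, 2 * w o ≤ N := fun o => by
    have := hos o.out; have := hst2 o.out
    calc 2 * w o ≤ Nat.card (stabilizer G (o.out : P)) * w o := Nat.mul_le_mul_right _ this
      _ = N := by rw [mul_comm]; exact hos o.out
  have hwpos : ∀ o, 1 ≤ w o := fun o => by
    haveI : Nonempty (orbit G o.out) := ⟨⟨o.out, mem_orbit_self _⟩⟩
    exact Nat.card_pos
  have hbig : ∀ {k : G}, 6 ≤ orderOf k → ∃ a : F, k ∈ stabilizer G (a : P) ∧ 6 * Nat.card (orbit G a) ≤ N := by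
    intro k hk
    have hk1 : k ≠ 1 := fun e => by rw [e, orderOf_one] at hk; omega
    obtain ⟨a, ha⟩ := Set.nonempty_of_ncard_ne_zero (s := fixedBy P k) (by rw [h2 k hk1]; omega)
    refine ⟨⟨a, hmem hk1 ha⟩, ha, ?_⟩
    have h6 : 6 ≤ Nat.card (stabilizer G a) := hk.trans (Nat.le_of_dvd Nat.card_pos
      (Subgroup.orderOf_dvd_natCard (stabilizer G a) ha))
    calc 6 * Nat.card (orbit G (⟨a, hmem hk1 ha⟩ : F)) ≤ Nat.card (stabilizer G a) * _ := Nat.mul_le_mul_right _ h6
      _ = N := by rw [mul_comm]; exact hos ⟨a, hmem hk1 ha⟩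
  obtain ⟨a, hga, ha6⟩ := hbig hg
  obtain ⟨b, hhb, hb6⟩ := hbig hh
  have hN : 6 ≤ N := hg.trans (Nat.le_of_dvd Fintype.card_pos orderOf_dvd_card)
  set oa : Ω := Quotient.mk'' a with hoa
  set ob : Ω := Quotient.mk'' b with hob
  have horb : ∀ x : F, w (Quotient.mk'' x) = Nat.card (orbit G x) := fun x => by
    show Nat.card (orbit G (Quotient.mk'' x : Ω).out) = _
    rw [show orbit G (Quotient.mk'' x : Ω).out = orbit G x from
      orbit_eq_iff.mpr (orbitRel_apply.mp (Quotient.eq''.mp (Quotient.out_eq' _)))]
  have hle : 2 * Fintype.card F ≤ Fintype.card Ω * N := by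
    rw [hsum, Finset.mul_sum]
    refine (Finset.sum_le_card_nsmul _ _ N fun o _ => hw o).trans ?_
    rw [Finset.card_univ, smul_eq_mul]
  have hr3 : Fintype.card Ω ≤ 3 := by
    by_contra hlt
    have : 4 * N ≤ Fintype.card Ω * N := Nat.mul_le_mul_right N (by omega)
    omega
  have hF2 : 2 ≤ Fintype.card F := by
    rw [← Nat.card_eq_fintype_card]
    have hg1 : g ≠ 1 := fun e => by rw [e, orderOf_one] at hg; omega
    rw [← h2 g hg1, ← Nat.card_coe_set_eq]
    exact Nat.card_le_card_of_injective (fun x : fixedBy P g => (⟨x.1, hmem hg1 x.2⟩ : F))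
      fun x y e => Subtype.ext (congrArg (fun z : F => (z : P)) e :)
  have hr2 : 2 ≤ Fintype.card Ω := by
    by_contra hlt
    have : Fintype.card Ω * N ≤ 1 * N := Nat.mul_le_mul_right N (by omega)
    omega
  rcases (show Fintype.card Ω = 2 ∨ Fintype.card Ω = 3 by omega) with hr | hr
  · -- two fixed points
    rw [hr] at hburn
    have hone : w ob = 1 := by
      have h1 : ∀ o, w o ≤ 1 := by
        intro o
        by_contra hlt
        have h3 : (Finset.univ.erase o).card • 1 ≤ ∑ i ∈ Finset.univ.erase o, w i :=
          Finset.card_nsmul_le_sum _ _ _ fun i _ => hwpos i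
        rw [Finset.card_erase_of_mem (Finset.mem_univ _), Finset.card_univ, hr, smul_eq_mul] at h3
        rw [← Finset.sum_erase_add _ _ (Finset.mem_univ o)] at hsum
        omega
      exact le_antisymm (h1 ob) (hwpos ob)
    rw [hob, horb] at hone
    have hgb : g ∈ stabilizer G (b : P) := by
      haveI := (Nat.card_eq_one_iff_unique.mp hone).1
      exact congrArg (fun z : orbit G b => ((z : F) : P))
        (Subsingleton.elim (⟨g • b, mem_orbit b g⟩ : orbit G b) ⟨b, mem_orbit_self b⟩)
    exact hcomm _ g hgb h hhb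
  · -- three orbits
    rw [hr] at hburn
    obtain ⟨o₁, o₂, h12, herase⟩ := Finset.card_eq_two.mp (show (Finset.univ.erase oa).card = 2 by
      rw [Finset.card_erase_of_mem (Finset.mem_univ _), Finset.card_univ, hr])
    rw [← Finset.sum_erase_add _ _ (Finset.mem_univ oa), herase, Finset.sum_pair h12] at hsum
    have e1 : ∀ o, (Nat.card (stabilizer G (o.out : P)) : ℕ) = 2 ∨ 3 * w o ≤ N := by
      intro o
      rcases Nat.lt_or_ge (Nat.card (stabilizer G (o.out : P))) 3 with h' | h'
      · left; have := hst2 o.out; omega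
      · right
        calc 3 * w o ≤ Nat.card (stabilizer G (o.out : P)) * w o := Nat.mul_le_mul_right _ h'
          _ = N := by rw [mul_comm]; exact hos o.out
    have hwa : w oa = Nat.card (orbit G a) := horb a
    have hwb : w ob = Nat.card (orbit G b) := horb b
    have heq : ∀ o, Nat.card (stabilizer G (o.out : P)) = 2 → 2 * w o = N := fun o ho => by
      rw [← hos o.out, ho, mul_comm]
    have hw1 := hw o₁
    have hw2 := hw o₂
    have hob' : ob = oa := by
      by_contra hne
      have : ob ∈ Finset.univ.erase oa := Finset.mem_erase.mpr ⟨hne, Finset.mem_univ _⟩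
      rw [herase, Finset.mem_insert, Finset.mem_singleton] at this
      rcases this with e | e <;> rw [e] at hwb <;> rcases e1 o₁ with h1' | h1' <;>
        rcases e1 o₂ with h2' | h2' <;> omega
    have hab : b ∈ orbit G a := (Quotient.exact hob' :)
    have hcard2 : Nat.card (orbit G a) = 2 := by
      rcases e1 o₁ with h1' | h1' <;> rcases e1 o₂ with h2' | h2'
      · have := heq _ h1'; have := heq _ h2'; omega
      all_goals omega
    set K := stabilizer G (a : P)
    have hi : K.index = 2 := by
      have h1 := K.card_mul_index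
      rw [Nat.card_eq_fintype_card (α := G)] at h1
      have h2' := hos a
      rw [hcard2] at h2'
      have : 0 < Nat.card K := Nat.card_pos
      change 2 * Nat.card K = _ at h2'
      nlinarith
    haveI : K.Normal := ⟨fun x hx y => by
      rw [Subgroup.mul_mem_iff_of_index_two hi, Subgroup.mul_mem_iff_of_index_two hi, inv_mem_iff]
      simp [hx]⟩
    obtain ⟨k, hk⟩ := hab
    have hhK : h ∈ K := by
      have h1 : h • ((k • a : F) : P) = ((k • a : F) : P) := by
        rw [show (k • a : F) = b from hk]; exact hhb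
      have h2' : k⁻¹ * h * k ∈ K := by
        rw [mem_stabilizer_iff, mul_smul, mul_smul]
        rw [SubMulAction.val_smul] at h1
        rw [h1, inv_smul_smul]
      have := (inferInstance : K.Normal).conj_mem _ h2' k
      simpa [mul_assoc] using this
    exact hcomm _ g hga h hhK

end CfsgLib.MaxClassResidual
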