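import Cfsg.Agent.Lib.MaxClassResidual.Engine

/-!
The position of the layer above the core, and the elements of order `p` of the centre.
-/

set_option autoImplicit false
set_option linter.unusedSectionVars false

namespace CfsgLib.MaxClassResidual

open scoped commutatorElement
open Subgroup
open CfsgLib.PolySeq (fil fil_antitone fil_commutator_mem)

namespace Data

variable {p : ℕ} [hpf : Fact p.Prime] {S : Type*} [Group S] [Finite S] (D : Data p S)

theorem pow_last {z : S} (hz : z ∈ fil S (D.n - 2)) : z ^ p = 1 := by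
  have := D.toFrame.h4
  have := D.hp
  exact D.toFrame.eq_one_of_fil (j := D.n - 2 + (p - 1)) (by omega)
    (CfsgLib.MaxClassGood.pow_shift D.toFrame.hn3 D.toFrame.hG D.toFrame.hc (by omega) hz).1

/-- The elements of order `p` of `E` do not all lie in the core. -/
theorem false_of_omega_le (h : ∀ e ∈ D.E, e ^ p = 1 → e ∈ fil S (D.i + 1)) : False := by
  let M : Subgroup S :=
    { carrier := {e | e ∈ D.E ∧ e ^ p = 1 ∧ ∀ f ∈ D.E, f ^ p = 1 → e * f = f * e}
      one_mem' := ⟨one_mem _, one_pow p, fun f _ _ => by rw [one_mul, mul_one]⟩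
      mul_mem' := fun {a b} ha hb => ⟨mul_mem ha.1 hb.1, by
        rw [(show Commute a b from ha.2.2 b hb.1 hb.2.1).mul_pow, ha.2.1, hb.2.1, one_mul],
        fun f hf hfp => (Commute.mul_left (ha.2.2 f hf hfp) (hb.2.2 f hf hfp)).eq⟩
      inv_mem' := fun {a} ha => ⟨inv_mem ha.1, by rw [inv_pow, ha.2.1, inv_one],
        fun f hf hfp => (show Commute a f from ha.2.2 f hf hfp).inv_left.eq⟩ }
  have hn : M.Normal := ⟨fun e he g => by
    have h1 : g * e * g⁻¹ ∈ fil S (D.i + 1) :=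
      (CfsgLib.PolySeq.fil_normal (G := S) _).conj_mem _ (h e he.1 he.2.1) g
    refine ⟨D.core_le h1, by rw [conj_pow, he.2.1, mul_one, mul_inv_cancel], fun f hf hfp => ?_⟩
    have hf' : g⁻¹ * f * g ∈ fil S (D.i + 1) := by
      simpa using (CfsgLib.PolySeq.fil_normal (G := S) _).conj_mem _ (h f hf hfp) g⁻¹
    have hp' : (g⁻¹ * f * g) ^ p = 1 := by
      have := conj_pow (a := g⁻¹) (b := f) (i := p)
      rw [inv_inv] at this
      rw [this, hfp, mul_one, inv_mul_cancel]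
    have hc := he.2.2 _ (D.core_le hf') hp'
    calc g * e * g⁻¹ * f = g * (e * (g⁻¹ * f * g)) * g⁻¹ := by group
      _ = g * (g⁻¹ * f * g * e) * g⁻¹ := by rw [hc]
      _ = f * (g * e * g⁻¹) := by group⟩
  have hME : M ≤ D.E := fun e he => he.1
  obtain ⟨k, -, -, hk⟩ := D.normal_le hME
  refine D.not_isInvModule k ?_
  rw [IsInvModule, ← hk]
  refine ⟨hME, fun u hu => ⟨D.fil_last_le hu, D.pow_last hu, fun f hf _ =>
    D.toFrame.fil_last_central hu (D.hET hf)⟩, fun a ha b hb => ha.2.2 b hb.1 hb.2.1, fun a ha => ha.2.1,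
    fun η hη e he => ⟨(η e).2, ?_, fun f hf hfp => ?_⟩⟩
  · rw [← SubmonoidClass.coe_pow, ← map_pow, show e ^ p = 1 from Subtype.ext he.2.1, map_one]; rfl
  · have hp' : ((η⁻¹ ⟨f, hf⟩ : D.E) : S) ^ p = 1 := by
      rw [← SubmonoidClass.coe_pow, ← map_pow, show (⟨f, hf⟩ : D.E) ^ p = 1 from Subtype.ext hfp, map_one]; rfl
    have hc : e * η⁻¹ ⟨f, hf⟩ = η⁻¹ ⟨f, hf⟩ * e := Subtype.ext (he.2.2 _ (η⁻¹ ⟨f, hf⟩).2 hp')
    have := congrArg η hc
    rw [map_mul, map_mul, MulAut.apply_inv_self] at this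
    exact congrArg Subtype.val this

/-- For large groups the core is deep. -/
theorem window (hn : p + 2 ≤ D.n) : D.n + 2 ≤ D.i + p := by
  by_contra h
  have := D.hp
  refine D.false_of_omega_le fun e he hep => D.inf_fil_i.le ⟨he, fil_antitone (show D.i ≤ D.n - p + 1 by omega) ?_⟩
  exact D.toFrame.order_p_window (by omega) hn (D.hET he) hep

theorem n_lt_i_add : D.n + 1 ≤ D.i + p := by
  rcases Nat.lt_or_ge D.n (p + 2) with h | h
  · have := D.two_le_i; omega
  · have := D.window h; omega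

theorem pow_fil_i {z : S} (hz : z ∈ fil S D.i) : z ^ p = 1 := by
  have := D.n_lt_i_add
  exact D.toFrame.eq_one_of_fil (j := D.i + (p - 1)) (by have := D.hp; omega)
    (CfsgLib.MaxClassGood.pow_shift D.toFrame.hn3 D.toFrame.hG D.toFrame.hc D.two_le_i hz).1

/-- The elements of order `p` of the centre of `E`. -/
def omegaZ : Subgroup S where
  carrier := {e | e ∈ D.E ∧ e ^ p = 1 ∧ ∀ f ∈ D.E, e * f = f * e}
  one_mem' := ⟨one_mem _, one_pow p, fun f _ => by rw [one_mul, mul_one]⟩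
  mul_mem' := fun {a b} ha hb => ⟨mul_mem ha.1 hb.1, by
    rw [(show Commute a b from ha.2.2 b hb.1).mul_pow, ha.2.1, hb.2.1, one_mul],
    fun f hf => (Commute.mul_left (ha.2.2 f hf) (hb.2.2 f hf)).eq⟩
  inv_mem' := fun {a} ha => ⟨inv_mem ha.1, by rw [inv_pow, ha.2.1, inv_one],
    fun f hf => (show Commute a f from ha.2.2 f hf).inv_left.eq⟩

theorem mem_omegaZ {e : S} : e ∈ D.omegaZ ↔ e ∈ D.E ∧ e ^ p = 1 ∧ ∀ f ∈ D.E, e * f = f * e := Iff.rfl

theorem omegaZ_le : D.omegaZ ≤ D.E := fun _ he => he.1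

theorem fil_last_le_omegaZ : fil S (D.n - 2) ≤ D.omegaZ := fun _ hu =>
  ⟨D.fil_last_le hu, D.pow_last hu, fun _ hf => D.toFrame.fil_last_central hu (D.hET hf)⟩

theorem omegaZ_inv (η : MulAut D.E) {e : D.E} (he : (e : S) ∈ D.omegaZ) : ((η e : D.E) : S) ∈ D.omegaZ := by
  refine ⟨(η e).2, ?_, fun f hf => ?_⟩
  · rw [← SubmonoidClass.coe_pow, ← map_pow, show e ^ p = 1 from Subtype.ext he.2.1, map_one]; rfl
  · have hc : e * η⁻¹ ⟨f, hf⟩ = η⁻¹ ⟨f, hf⟩ * e := Subtype.ext (he.2.2 _ (η⁻¹ ⟨f, hf⟩).2)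
    have := congrArg η hc
    rw [map_mul, map_mul, MulAut.apply_inv_self] at this
    exact congrArg Subtype.val this

/-- Only elements of `E` centralise the elements of order `p` of its centre. -/
theorem mem_of_centralize_omega {g : S} (hgN : g ∈ normalizer (D.E : Set S))
    (hg : ∀ m ∈ D.omegaZ, g * m = m * g) : g ∈ D.E :=
  D.mem_of_centralize (g := ⟨g, hgN⟩) D.omegaZ_le D.fil_last_le_omegaZ (fun η _ _ he => D.omegaZ_inv η he) hg

end Data

end CfsgLib.MaxClassResidual
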