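import Cfsg.Agent.Lib.MaxClassResidual.LastLayers
import Cfsg.Agent.Lib.MaxClassPearl

/-!
When the last two-step centralizer differs from the first, a nonabelian self-centralizing subgroup of
order `p ^ 3` is generated by an element outside both and the layer `n - 2`.
-/

set_option autoImplicit false
set_option linter.unusedSectionVars false
set_option linter.style.haveILetI false

namespace CfsgLib.MaxClassResidual

open scoped commutatorElement
open Subgroup
open CfsgLib.PolySeq (fil fil_antitone fil_commutator_mem)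
open CfsgLib.MaxClassGood (twoStep mem_twoStep)

namespace LastData

private theorem card_lt_card' {G : Type*} [Group G] [Finite G] {A B : Subgroup G} (h : A < B) :
    Nat.card A < Nat.card B :=
  lt_of_le_of_ne (card_le_of_le h.le) fun e => h.ne (eq_of_le_of_card_ge h.le e.ge)

variable {p n : ℕ} [hp : Fact p.Prime] {S : Type*} [Group S] [Finite S] (D : LastData p n S)

include D

/-- An element with centralizer of order `p ^ 2` lies outside both two-step centralizers. -/
theorem not_mem_of_small {x : S} (hx : Nat.card (centralizer ({x} : Set S)) = p ^ 2) :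
    x ∉ twoStep S 2 ∧ x ∉ twoStep S (n - 2) := by
  classical
  have hpp : p.Prime := hp.out
  have h6 := D.h6
  have hn := D.hn
  have hG := D.hG
  have hc := D.hc
  have hcard : ∀ k, 2 ≤ k → k ≤ n → Nat.card (fil S k) = p ^ (n - k) := fun k h2 hk =>
    CfsgLib.MaxClassRank.card_fil hn hG hc h2 hk
  have hL : x ∉ twoStep S (n - 2) := by
    intro hxL
    have hsub : fil S (n - 2) ≤ centralizer ({x} : Set S) := D.fil_last_le x hxL
    have heq := eq_of_le_of_card_ge hsub (le_of_eq (by rw [hx, hcard _ (by omega) (by omega)]; congr 1; omega))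
    have hxm : x ∈ fil S (n - 2) := heq ▸ mem_centralizer_singleton_iff.mpr rfl
    have hle : twoStep S (n - 2) ≤ centralizer ({x} : Set S) := fun t ht =>
      mem_centralizer_singleton_iff.mpr (D.last_comm hxm ht).symm
    have h1 := (twoStep S (n - 2)).card_mul_index
    rw [D.index_last, hG, ← pow_sub_mul_pow p (show 1 ≤ n by omega), pow_one] at h1
    have h2 := card_le_of_le hle
    rw [Nat.eq_of_mul_eq_mul_right hpp.pos h1, hx, Nat.pow_le_pow_iff_right hpp.one_lt] at h2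
    omega
  refine ⟨fun hx1 => ?_, hL⟩
  have hx2 : x ∉ fil S 2 := fun h => hL (CfsgLib.MaxClassGood.fil_le_twoStep _ h)
  obtain ⟨z, hz, hz'⟩ := CfsgLib.MaxClassGood.exists_gen hn hG hc (j := n - 2) (by omega) (by omega)
  have hw := D.comm_ne_one (k := n - 2) (by omega) (by omega) hz hz' hL
  have hw1 : ⁅z, x⁆ ∈ fil S (n - 1) := fil_antitone (by omega) (fil_commutator_mem (j := 1) hz (mem_top x))
  obtain ⟨v, hv, hv'⟩ := CfsgLib.MaxClassGood.exists_gen hn hG hc (j := n - 3) (by omega) (by omega)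
  have hvx : ⁅v, x⁆ ∈ fil S (n - 1) := by
    have h := mem_twoStep.mp (show x ∈ twoStep S (n - 3) by rwa [D.low_eq (by omega) (by omega)]) v hv
    rwa [show n - 3 + 2 = n - 1 by omega] at h
  have hbot : fil S n = ⊥ := CfsgLib.MaxClassRank.fil_eq_bot hn hG hc le_rfl
  have hgen : fil S (n - 1) = zpowers ⁅z, x⁆ := by
    refine (eq_of_le_of_card_ge (zpowers_le.mpr hw1) ?_).symm
    rw [hcard _ (by omega) (by omega), show n - (n - 1) = 1 by omega, pow_one]
    have hd : Nat.card (zpowers ⁅z, x⁆) ∣ p := by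
      have h := card_dvd_of_le (zpowers_le.mpr hw1)
      rwa [hcard _ (by omega) (by omega), show n - (n - 1) = 1 by omega, pow_one] at h
    rcases (Nat.dvd_prime hpp).mp hd with e | e
    · exact absurd (zpowers_eq_bot.mp (card_eq_one.mp e)) hw
    · exact e.ge
  have hcz : ∀ u ∈ fil S (n - 1), ∀ g : S, u * g = g * u := fun u hu g => by
    have h := fil_antitone (show n ≤ n - 1 + 1 by omega) (fil_commutator_mem (j := 1) hu (mem_top g))
    rw [hbot, mem_bot] at h
    exact commutatorElement_eq_one_iff_mul_comm.mp h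
  obtain ⟨i, hi⟩ := mem_zpowers_iff.mp (hgen ▸ hvx)
  have hzp : ∀ i : ℤ, z ^ i * x * (z ^ i)⁻¹ = ⁅z, x⁆ ^ i * x := fun i => by
    have h1 : (MulAut.conj x) z = ⁅z, x⁆⁻¹ * z := by
      rw [MulAut.conj_apply, commutatorElement_def]; group
    have h2 : (MulAut.conj x) (z ^ i) = (⁅z, x⁆⁻¹) ^ i * z ^ i := by
      rw [map_zpow, h1, Commute.mul_zpow]
      exact Commute.inv_left (hcz _ hw1 z)
    rw [MulAut.conj_apply, inv_zpow] at h2
    calc z ^ i * x * (z ^ i)⁻¹ = ⁅z, x⁆ ^ i * ((⁅z, x⁆ ^ i)⁻¹ * z ^ i) * x * (z ^ i)⁻¹ := by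
          rw [mul_inv_cancel_left]
      _ = ⁅z, x⁆ ^ i * (x * z ^ i * x⁻¹) * x * (z ^ i)⁻¹ := by rw [h2]
      _ = ⁅z, x⁆ ^ i * x := by group
  have hu : (z ^ i)⁻¹ * v ∈ centralizer ({x} : Set S) := by
    refine mem_centralizer_singleton_iff.mpr ?_
    have h1 : v * x * v⁻¹ = z ^ i * x * (z ^ i)⁻¹ := by
      rw [hzp, hi, commutatorElement_def]; group
    calc (z ^ i)⁻¹ * v * x = (z ^ i)⁻¹ * (v * x * v⁻¹) * v := by group
      _ = x * ((z ^ i)⁻¹ * v) := by rw [h1]; group
  have hu3 : (z ^ i)⁻¹ * v ∈ fil S (n - 3) := mul_mem (inv_mem (zpow_mem (fil_antitone (by omega) hz) i)) hv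
  have hu3' : (z ^ i)⁻¹ * v ∉ fil S (n - 2) := fun h => hv' (by
    rw [show n - 3 + 1 = n - 2 by omega]
    have := mul_mem (zpow_mem hz i) h
    rwa [mul_inv_cancel_left] at this)
  -- two proper steps below the centralizer
  set C := centralizer ({x} : Set S) with hC
  have hlast : fil S (n - 1) ≤ C := fun u hu => mem_centralizer_singleton_iff.mpr (hcz u hu x)
  have h1 : fil S (n - 1) < fil S (n - 3) ⊓ C := lt_of_le_of_ne (le_inf (fil_antitone (by omega)) hlast) fun e =>
    hu3' (fil_antitone (by omega) (e.ge ⟨hu3, hu⟩))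
  have h2 : fil S (n - 3) ⊓ C < C := lt_of_le_of_ne inf_le_right fun e =>
    hx2 (fil_antitone (by omega) (e.ge (mem_centralizer_singleton_iff.mpr rfl)).1)
  obtain ⟨j, -, hj⟩ := (Nat.dvd_prime_pow hpp).mp (hx ▸ card_dvd_of_le h2.le)
  have h1' := card_lt_card' h1
  have h2' := card_lt_card' h2
  rw [hj, hcard _ (by omega) (by omega), Nat.pow_lt_pow_iff_right hpp.one_lt] at h1'
  rw [hj, hx, Nat.pow_lt_pow_iff_right hpp.one_lt] at h2'
  omega

/-- The shape of such a subgroup. -/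
theorem pearl_shape {H : Subgroup S} (hH : Nat.card H = p ^ 3) (hna : ¬ IsMulCommutative H)
    (hcen : centralizer (H : Set S) ≤ H) :
    ∃ x ∈ H, x ∉ twoStep S 2 ∧ x ∉ twoStep S (n - 2) ∧ fil S (n - 2) ≤ H := by
  classical
  have hpp : p.Prime := hp.out
  have h6 := D.h6
  have hn := D.hn
  have hG := D.hG
  have hc := D.hc
  obtain ⟨x, hxH, hx⟩ := CfsgLib.MaxClassRank.exists_centralizer_mem_of_nonabelian hG H hH hna hcen
  obtain ⟨hx1, hx2⟩ := D.not_mem_of_small hx
  refine ⟨x, hxH, hx1, hx2, ?_⟩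
  haveI : (twoStep S 2).Normal := normal_of_index_eq_minFac_card (by
    rw [D.index_one, hG, Nat.Prime.pow_minFac hpp (by omega)])
  -- the part of the subgroup in the derived subgroup
  have hK : H ⊓ twoStep S 2 ≤ fil S 2 := fun t ht => by
    by_contra ht2
    have htop := CfsgLib.MaxClassDegree.eq_top_of_mems hn hG hc (CfsgLib.MaxClassGood.fil_le_twoStep 2) D.index_one
      hx1 ht.2 ht2 hxH ht.1
    rw [htop, card_top, hG] at hH
    have := Nat.pow_right_injective hpp.two_le hH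
    omega
  have hKc : p ^ 2 ≤ Nat.card (H ⊓ fil S 2 : Subgroup S) := by
    have e : H ⊓ fil S 2 = H ⊓ twoStep S 2 :=
      le_antisymm (inf_le_inf_left _ (CfsgLib.MaxClassGood.fil_le_twoStep 2)) (le_inf inf_le_left hK)
    rw [e]
    have h1 : (twoStep S 2).relIndex H ∣ p := D.index_one ▸ relIndex_dvd_index_of_normal _ _
    have hm : Nat.card (H ⊓ twoStep S 2 : Subgroup S) * (twoStep S 2).relIndex H = p ^ 3 := by
      rw [← inf_relIndex_left, ← relIndex_bot_left, relIndex_mul_relIndex _ _ _ bot_le inf_le_left,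
        relIndex_bot_left, hH]
    have h2 := Nat.le_of_dvd hpp.pos h1
    refine Nat.le_of_mul_le_mul_right ?_ hpp.pos
    rw [← pow_succ, ← hm]
    exact Nat.mul_le_mul_left _ h2
  have hcard : Nat.card (fil S (n - 2)) = p ^ 2 := by
    rw [CfsgLib.MaxClassRank.card_fil hn hG hc (by omega) (by omega), show n - (n - 2) = 2 by omega]
  suffices hle : H ⊓ fil S 2 ≤ fil S (n - 2) by
    rw [← eq_of_le_of_card_ge hle (hcard ▸ hKc)]
    exact inf_le_left
  -- no exact layer below `n - 2` is met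
  intro v hv
  by_contra hne
  obtain ⟨k, hk2, hk, hvk, hvk'⟩ := D.exact_layer le_rfl hv.2 hne
  have hmem : ∀ w ∈ H ⊓ fil S 2, ⁅w, x⁆ ∈ H ⊓ fil S 2 := fun w hw => ⟨by
    show ⁅w, x⁆ ∈ H
    rw [commutatorElement_def]
    exact mul_mem (mul_mem (mul_mem hw.1 hxH) (inv_mem hw.1)) (inv_mem hxH),
    fil_antitone (by omega) (fil_commutator_mem (j := 1) hw.2 (mem_top x))⟩
  obtain ⟨a1, a1'⟩ := D.comm_exact hk2 (by omega) hvk hvk' hx1
  have b1 : ⁅⁅v, x⁆, x⁆ ∈ fil S (k + 2) := fil_commutator_mem (j := 1) a1 (mem_top x)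
  have b1' : ⁅⁅v, x⁆, x⁆ ≠ 1 := by
    refine D.comm_ne_one (k := k + 1) (by omega) (by omega) a1 a1' ?_
    rcases (show k + 1 + 3 ≤ n ∨ k + 1 = n - 2 by omega) with e | e
    · rwa [D.low_eq (by omega) e]
    · rwa [e]
  set K := H ⊓ fil S 2 with hKdef
  have l0 : (⊥ : Subgroup S) < K ⊓ fil S (k + 2) := lt_of_le_of_ne bot_le fun e =>
    b1' (mem_bot.mp (e.ge ⟨hmem _ (hmem v hv), b1⟩))
  have l1 : K ⊓ fil S (k + 2) < K ⊓ fil S (k + 1) := lt_of_le_of_ne (inf_le_inf_left _ (fil_antitone (by omega)))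
    fun e => a1' (e.ge ⟨hmem v hv, a1⟩).2
  have l2 : K ⊓ fil S (k + 1) < K := lt_of_le_of_ne inf_le_left fun e => hvk' (e.ge hv).2
  have hlt : K < H := lt_of_le_of_ne inf_le_left fun e =>
    hx1 (CfsgLib.MaxClassGood.fil_le_twoStep 2 (e.ge hxH).2)
  obtain ⟨j, -, hj⟩ := (Nat.dvd_prime_pow hpp).mp (hH ▸ card_dvd_of_le (l1.le.trans (l2.le.trans hlt.le)))
  obtain ⟨j', -, hj'⟩ := (Nat.dvd_prime_pow hpp).mp (hH ▸ card_dvd_of_le (l2.le.trans hlt.le))
  obtain ⟨j'', -, hj''⟩ := (Nat.dvd_prime_pow hpp).mp (hH ▸ card_dvd_of_le hlt.le)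
  have e0 := card_lt_card' l0
  have e1 := card_lt_card' l1
  have e2 := card_lt_card' l2
  have e3 := card_lt_card' hlt
  rw [card_bot, hj, ← pow_zero p, Nat.pow_lt_pow_iff_right hpp.one_lt] at e0
  rw [hj, hj', Nat.pow_lt_pow_iff_right hpp.one_lt] at e1
  rw [hj', hj'', Nat.pow_lt_pow_iff_right hpp.one_lt] at e2
  rw [hj'', hH, Nat.pow_lt_pow_iff_right hpp.one_lt] at e3
  omega

end LastData

end CfsgLib.MaxClassResidual
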