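import Cfsg.Agent.Lib.MaxClassResidual.Inverting
import Cfsg.Agent.Lib.MaxClassResidual.Extend
import Cfsg.Agent.Lib.MaxClassResidual.PearlShape
import Cfsg.Agent.Lib.MaxClassResidual.TwoStepLast
import Cfsg.Agent.Lib.Fusion.EssentialSmall.Basic

/-!
No extraspecial pearl when the last two-step centralizer differs from the first.
-/

set_option autoImplicit false
set_option linter.unusedSectionVars false
set_option linter.style.haveILetI false

namespace CfsgLib.MaxClassResidual

open scoped commutatorElement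
open Cfsg Cfsg.FusionSystem Subgroup
open CfsgLib.PolySeq (fil fil_antitone fil_commutator_mem)
open CfsgLib.MaxClassGood (twoStep mem_twoStep)

variable {Ω : Type*} [Group Ω] {S : Subgroup Ω} [Finite S] {p n : ℕ} [Fact p.Prime] {F : FusionSystem S}

/-- An element outside both two-step centralizers, and the layer `n - 2`, inside an essential subgroup
of order `p ^ 3` with center of order `p`. -/
theorem exists_pearl_element (D : LastData p n S) {E : Subgroup Ω} (hE : F.IsEssential p E)
    (hcard : Nat.card E = p ^ 3) (hZ : Nat.card (Subgroup.center E) = p) :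
    ∃ x : S, x ∈ E.subgroupOf S ∧ x ∉ twoStep S 2 ∧ x ∉ twoStep S (n - 2) ∧ fil S (n - 2) ≤ E.subgroupOf S := by
  have hpp : p.Prime := Fact.out
  refine D.pearl_shape ((card_subgroupOf hE.1.1).trans hcard) (fun hab => ?_) (centralizer_subgroupOf_le hE)
  have hab' : ∀ a b : E, a * b = b * a := fun a b => Subgroup.inclusion_injective hE.1.1 (by
    rw [map_mul, map_mul]
    exact congrArg Subtype.val (hab.is_comm.comm
      (⟨Subgroup.inclusion hE.1.1 a, a.2⟩ : E.subgroupOf S) ⟨Subgroup.inclusion hE.1.1 b, b.2⟩))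
  haveI : Finite E := finite_of_le hE.1.1
  have h1 : Subgroup.center E = ⊤ := eq_top_iff.mpr fun a _ => mem_center_iff.mpr fun b => hab' b a
  rw [h1, card_top, hcard] at hZ
  exact absurd (Nat.pow_right_injective hpp.two_le (hZ.trans (pow_one p).symm)) (by norm_num)

/-- An automorphism fixing the center of an extraspecial pearl and inverting its quotient by the center. -/
theorem exists_inverting_pearl (D : LastData p n S) (hF : F.IsSaturated p) {E : Subgroup Ω} (hE : F.IsEssential p E)
    (hcard : Nat.card E = p ^ 3) {x : S} (hxE : x ∈ E.subgroupOf S) (hx1 : x ∉ twoStep S 2)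
    (hfil : fil S (n - 2) ≤ E.subgroupOf S) (hZ : Nat.card (Subgroup.center E) = p) :
    ∃ τ ∈ F.autGroup E, (∀ u ∈ tr hE.1.1 (fil S (n - 1)), τ u = u) ∧
      (∀ v : E, τ v * v ∈ tr hE.1.1 (fil S (n - 1))) ∧
      ∀ r ∈ autInducedBy S E, τ * r * τ⁻¹ ∈ autInducedBy S E := by
  classical
  have hpp : p.Prime := Fact.out
  have hn := D.hn
  have hG := D.hG
  have hc := D.hc
  have h6 := D.h6
  have hES : E ≤ S := hE.1.1
  have hS : IsPGroup p S := IsPGroup.of_card hG
  haveI : Finite E := finite_of_le hES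
  haveI := CfsgLib.PolySeq.fil_normal (G := S) (n - 1)
  haveI := CfsgLib.PolySeq.fil_normal (G := S) (n - 2)
  haveI hN0n := tr_normal hES (fil S (n - 1))
  have hfil1 : fil S (n - 1) ≤ E.subgroupOf S := (fil_antitone (by omega)).trans hfil
  have hcentral : ∀ u ∈ fil S (n - 1), ∀ g : S, u * g = g * u := fun u hu g => by
    have h := fil_antitone (show n ≤ n - 1 + 1 by omega) (fil_commutator_mem (j := 1) hu (mem_top g))
    rw [CfsgLib.MaxClassRank.fil_eq_bot hn hG hc le_rfl, mem_bot] at h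
    exact commutatorElement_eq_one_iff_mul_comm.mp h
  have hN0c : Nat.card (tr hES (fil S (n - 1))) = p := by
    rw [Nat.card_congr ((tr hES (fil S (n - 1))).equivMapOfInjective _ (Subgroup.inclusion_injective hES)).toEquiv,
      map_tr hES hfil1, CfsgLib.MaxClassRank.card_fil hn hG hc (by omega) (by omega),
      show n - (n - 1) = 1 by omega, pow_one]
  have hN0 : Inv F (tr hES (fil S (n - 1))) := by
    refine inv_congr (eq_of_le_of_card_ge ?_ (hZ.trans hN0c.symm).le).symm inv_center
    intro u hu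
    exact mem_center_iff.mpr fun v =>
      Subgroup.inclusion_injective hES (by rw [map_mul, map_mul]; exact (hcentral _ hu _).symm)
  have hWc : Nat.card (tr hES (fil S (n - 2))) = p ^ 2 := by
    rw [Nat.card_congr ((tr hES (fil S (n - 2))).equivMapOfInjective _ (Subgroup.inclusion_injective hES)).toEquiv,
      map_tr hES hfil, CfsgLib.MaxClassRank.card_fil hn hG hc (by omega) (by omega), show n - (n - 2) = 2 by omega]
  have hN0W : tr hES (fil S (n - 1)) ≤ tr hES (fil S (n - 2)) := fun e he => fil_antitone (by omega) he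
  have hrW : (tr hES (fil S (n - 1))).relIndex (tr hES (fil S (n - 2))) = p := by
    have h : Nat.card (tr hES (fil S (n - 1))) * (tr hES (fil S (n - 1))).relIndex (tr hES (fil S (n - 2))) =
        Nat.card (tr hES (fil S (n - 2))) := by
      rw [← relIndex_bot_left, ← relIndex_bot_left, relIndex_mul_relIndex _ _ _ bot_le hN0W]
    rw [hN0c, hWc, pow_two] at h
    exact Nat.eq_of_mul_eq_mul_left hpp.pos h
  have hrE : (tr hES (fil S (n - 2))).index = p := by
    have h := (tr hES (fil S (n - 2))).card_mul_index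
    rw [hWc, hcard, pow_succ p 2] at h
    exact Nat.eq_of_mul_eq_mul_left (pow_pos hpp.pos 2) h
  have hcomm : ∀ a b : E, a⁻¹ * b⁻¹ * a * b ∈ tr hES (fil S (n - 1)) := by
    intro a b
    have hq : Nat.card (E ⧸ tr hES (fil S (n - 1))) = p ^ 2 := by
      have h := (tr hES (fil S (n - 1))).card_mul_index
      rw [hN0c, hcard, pow_succ' p 2] at h
      rw [← Subgroup.index_eq_card]
      exact Nat.eq_of_mul_eq_mul_left hpp.pos h
    have hab := IsPGroup.commutative_of_card_eq_prime_sq hq
    rw [← QuotientGroup.eq_one_iff]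
    simp only [QuotientGroup.mk_mul, QuotientGroup.mk_inv]
    rw [mul_assoc ((a : E ⧸ tr hES (fil S (n - 1)))⁻¹ * (b : E ⧸ tr hES (fil S (n - 1)))⁻¹), hab (a : E ⧸ _) (b : E ⧸ _)]
    group
  obtain ⟨g, hg, hg'⟩ := CfsgLib.MaxClassGood.exists_gen hn hG hc (j := n - 3) (by omega) (by omega)
  have hgN : (g : Ω) ∈ normalizer (E : Set Ω) := mem_normalizer_of_conj hES fun a ha => by
    have h := fil_commutator_mem (j := 1) hg (mem_top a)
    rw [show n - 3 + 1 = n - 2 by omega] at h
    rw [show g * a * g⁻¹ = ⁅g, a⁆ * a by rw [commutatorElement_def]; group]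
    exact mul_mem (hfil h) ha
  let cg : MulAut E := E.normalizerMonoidHom ⟨g, hgN⟩
  have hcR : cg ∈ autInducedBy S E := mem_autInducedBy_iff.mpr ⟨g, g.2, hgN, fun _ => rfl⟩
  have hce : ∀ e : E, (⟨((cg e : E) : Ω), hES (cg e).2⟩ : S) = g * ⟨(e : Ω), hES e.2⟩ * g⁻¹ :=
    fun e => Subtype.ext rfl
  have hyx : ∃ y : E, (⟨(y : Ω), hES y.2⟩ : S) = x := ⟨⟨x, mem_subgroupOf.mp hxE⟩, rfl⟩
  obtain ⟨y, rfl⟩ := hyx
  have hW' : ¬ Inv F (tr hES (fil S (n - 2))) := by
    intro hW
    refine Cfsg.EssentialSmall.false_of_series hS hF hE (m := 3)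
      ![⊥, tr hES (fil S (n - 1)), tr hES (fil S (n - 2)), ⊤] rfl rfl ?_ ?_
    · intro α hα i
      fin_cases i
      · exact inv_bot α hα
      · exact hN0 α hα
      · exact hW α hα
      · exact inv_top α hα
    · intro i
      fin_cases i
      · show (⊥ : Subgroup E).relIndex (tr hES (fil S (n - 1))) ∣ p
        rw [relIndex_bot_left, hN0c]
      · exact hrW.dvd
      · show (tr hES (fil S (n - 2))).relIndex ⊤ ∣ p
        rw [relIndex_top_right, hrE]
  obtain ⟨τ, hτ, hfix, hinv⟩ := exists_inverting (p := p) hES (N0 := tr hES (fil S (n - 1)))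
    (W := tr hES (fil S (n - 2))) (x := y) (c := cg) hN0 hN0W hrW hrE hcomm hW'
    (autInducedBy_le_autGroup hES hcR)
    (fun u hu => Subgroup.inclusion_injective hES ((hce u).trans (by
      rw [← hcentral ⟨(u : Ω), hES u.2⟩ hu g, mul_inv_cancel_right]; rfl)))
    (fun v hv => by
      rw [mem_tr]
      have h := fil_commutator_mem (inv_mem (mem_tr.mp hv)) hg
      refine fil_antitone (show n - 1 ≤ n - 2 + (n - 3) by omega) ?_
      convert h using 1
      refine Subtype.ext ?_
      show (v : Ω)⁻¹ * ((g : Ω) * v * (g : Ω)⁻¹) = _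
      simp [commutatorElement_def, mul_assoc])
    (fun h => hx1 (CfsgLib.MaxClassGood.fil_le_twoStep 2 (fil_antitone (by omega) (mem_tr.mp h))))
    (by
      rw [mem_tr]
      have h := fil_commutator_mem (j := 1) hg (mem_top (⟨(y : Ω), hES y.2⟩ : S))
      rw [show n - 3 + 1 = n - 2 by omega] at h
      have h' := (CfsgLib.PolySeq.fil_normal (G := S) (n - 2)).conj_mem _ h (⟨(y : Ω), hES y.2⟩ : S)⁻¹
      convert h' using 1
      refine Subtype.ext ?_
      show (y : Ω)⁻¹ * ((g : Ω) * y * (g : Ω)⁻¹) = _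
      simp [commutatorElement_def, mul_assoc])
    (by
      rw [mem_tr]
      intro hk
      refine (D.comm_exact (k := n - 3) (by omega) (by omega) hg hg' hx1).2 ?_
      rw [show n - 3 + 2 = n - 1 by omega]
      have h' := (CfsgLib.PolySeq.fil_normal (G := S) (n - 1)).conj_mem _ hk (⟨(y : Ω), hES y.2⟩ : S)
      convert h' using 1
      refine Subtype.ext ?_
      show _ = (y : Ω) * ((y : Ω)⁻¹ * ((g : Ω) * y * (g : Ω)⁻¹)) * (y : Ω)⁻¹
      simp [commutatorElement_def, mul_assoc])
  refine ⟨τ, hτ, hfix, hinv, ?_⟩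
  refine OrderPFive.conj_mem_of_series hS hF hE.2.1 (m := 3)
    ![⊥, tr hES (fil S (n - 1)), tr hES (fil S (n - 2)), ⊤] rfl rfl ?_ ?_ hτ ?_
  · intro i
    fin_cases i
    · show (⊥ : Subgroup E).relIndex (tr hES (fil S (n - 1))) ∣ p
      rw [relIndex_bot_left, hN0c]
    · exact hrW.dvd
    · show (tr hES (fil S (n - 2))).relIndex ⊤ ∣ p
      rw [relIndex_top_right, hrE]
  · intro r hr i v hv
    fin_cases i
    · rw [show v = 1 from hv, map_one]; exact one_mem _
    · exact tr_invariant hES _ hr hv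
    · exact tr_invariant hES _ hr hv
    · trivial
  · intro i v hv
    fin_cases i
    · rw [show v = 1 from hv, map_one]; exact one_mem _
    · exact (hfix v hv).symm ▸ hv
    · have h2 : τ v * v ∈ tr hES (fil S (n - 2)) := hN0W (hinv v)
      have := mul_mem h2 (inv_mem hv)
      rwa [mul_inv_cancel_right] at this
    · trivial

/-- There is no essential subgroup of order `p ^ 3` with center of order `p`. -/
theorem false_of_extraspecial (D : LastData p n S) (hF : F.IsSaturated p) {E : Subgroup Ω} (hE : F.IsEssential p E)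
    (hcard : Nat.card E = p ^ 3) (hZ : Nat.card (Subgroup.center E) = p)
    (hess : ∀ R, F.IsEssential p R → p ^ 3 < Nat.card R →
      R.subgroupOf S = twoStep S 2 ∨ R.subgroupOf S = twoStep S (n - 2)) : False := by
  have hES : E ≤ S := hE.1.1
  have hS : IsPGroup p S := IsPGroup.of_card D.hG
  haveI : Finite E := finite_of_le hES
  obtain ⟨x, hxE, hx1, hx2, hfil⟩ := exists_pearl_element D hE hcard hZ
  obtain ⟨τ, hτ, hfix, hinv, hR⟩ := exists_inverting_pearl D hF hE hcard hxE hx1 hfil hZ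
  set N := normalizerIn S E with hN
  obtain ⟨σ, hσ, hσe⟩ := OrderPFive.exists_extend hS hF hE.2.1 hN.symm hτ hR
  have hNS : N ≤ S := normalizerIn_le
  haveI : Finite N := finite_of_le hNS
  have hEN : E < N := lt_normalizerIn hS (hE.lt hS hF)
  obtain ⟨φ, hφ, -, hφe⟩ := exists_map_of_mem_autGroup hNS hσ
  have hxN : (x : Ω) ∈ N := hEN.le (mem_subgroupOf.mp hxE)
  obtain ⟨β, -, hb⟩ := extends_outside hS hF (p ^ 3)
    {(twoStep S 2).map S.subtype, (twoStep S (n - 2)).map S.subtype}
    (fun T hT => by rcases hT with rfl | rfl <;> exact twoStep_charIn _)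
    (fun R hR hRc => by
      rcases hess R hR hRc with h | h
      · exact ⟨_, Or.inl rfl, (eq_map_of_subgroupOf hR.1.1 h).le⟩
      · exact ⟨_, Or.inr rfl, (eq_map_of_subgroupOf hR.1.1 h).le⟩)
    hφ (hcard ▸ card_lt_of_lt hEN)
    (fun T hT hNT => by
      rcases hT with rfl | rfl
      · obtain ⟨v, hv, e⟩ := hNT hxN
        exact hx1 (Subtype.ext e ▸ hv)
      · obtain ⟨v, hv, e⟩ := hNT hxN
        exact hx2 (Subtype.ext e ▸ hv))
  have hβ : ∀ e : E, β ⟨(e : Ω), hES e.2⟩ = ⟨((τ e : E) : Ω), hES (τ e).2⟩ := fun e =>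
    Subtype.ext ((hb ⟨e, hEN.le e.2⟩ (hES e.2)).trans ((hφe _).trans (hσe e (hEN.le e.2))))
  have h6 := D.h6
  obtain ⟨y, rfl⟩ : ∃ y : E, (⟨(y : Ω), hES y.2⟩ : S) = x := ⟨⟨x, mem_subgroupOf.mp hxE⟩, rfl⟩
  refine D.false_of_inverting β hx1 ?_ (fun u hu => ?_) (fun u hu => ?_)
  · rw [hβ]
    exact fil_antitone (show 2 ≤ n - 1 by omega) (hinv y)
  · obtain ⟨e, rfl⟩ : ∃ e : E, (⟨(e : Ω), hES e.2⟩ : S) = u :=
      ⟨⟨u, mem_subgroupOf.mp (((fil_antitone (by omega)).trans hfil) hu)⟩, rfl⟩
    rw [hβ]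
    exact Subtype.ext (congrArg Subtype.val (hfix e hu) :)
  · obtain ⟨e, rfl⟩ : ∃ e : E, (⟨(e : Ω), hES e.2⟩ : S) = u :=
      ⟨⟨u, mem_subgroupOf.mp (hfil hu)⟩, rfl⟩
    rw [hβ]
    exact hinv e

end CfsgLib.MaxClassResidual
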