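import Cfsg.Agent.Lib.MaxClassResidual.Small
import Cfsg.Agent.Lib.MaxClassResidual.Moreover
import Cfsg.Agent.S5269

/-!
The essential subgroups of a group of maximal class: pearls and two-step centralizers.
-/

set_option autoImplicit false
set_option linter.unusedSectionVars false
set_option linter.style.haveILetI false

namespace CfsgLib.MaxClassResidual

open Cfsg Cfsg.FusionSystem Subgroup
open scoped commutatorElement
open CfsgLib.PolySeq (fil fil_antitone fil_commutator_mem)
open CfsgLib.MaxClassGood (twoStep mem_twoStep)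

universe u

variable {Ω : Type u} [Group Ω] {S : Subgroup Ω} [Finite S] {p : ℕ} [hpf : Fact p.Prime] {n : ℕ}

/-- A finite group of maximal class with equal extreme two-step centralizers has all of them equal. -/
def frameOf (h4 : 4 ≤ n) (hG : Nat.card S = p ^ n) (hc : Group.nilpotencyClass S = n - 1)
    (heq : twoStep S (n - 2) = twoStep S 2) : Frame p S :=
  ⟨n, h4, hG, hc, fun k h2 hk => by
    rcases Nat.lt_or_ge n (k + 3) with h | h
    · rw [show k = n - 2 by omega]; exact heq
    · exact CfsgLib.MaxClassDegree.twoStep_eq (by omega) hG hc h2 h⟩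

/-- Different extreme two-step centralizers. -/
theorem lastData_of_ne (h4 : 4 ≤ n) (hG : Nat.card S = p ^ n) (hc : Group.nilpotencyClass S = n - 1)
    (hne : twoStep S (n - 2) ≠ twoStep S 2) : LastData p n S := by
  refine ⟨?_, hG, hc, hne⟩
  rcases Nat.lt_or_ge n 6 with h | h
  · exfalso
    rcases eq_or_lt_of_le h4 with h4' | h5
    · exact hne (by rw [show n - 2 = 2 by omega])
    · have := CfsgLib.MaxClassDegree.even_of_last_ne (by omega) hG hc (by omega) hne
      rw [show n = 5 by omega] at this
      exact absurd this (by decide)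
  · exact h

/-- The extreme two-step centralizers agree for `p = 3`. -/
theorem last_eq_of_three (h4 : 4 ≤ n) (hG : Nat.card S = p ^ n) (hc : Group.nilpotencyClass S = n - 1)
    (hp : p = 3) : twoStep S (n - 2) = twoStep S 2 := by
  by_contra hne
  have D := lastData_of_ne h4 hG hc hne
  have h6 := D.h6
  refine hne ?_
  rw [(CfsgLib.MaxClassGood.periodic_and_good n (by omega) hG hc).1 (n - 2) (by omega) (by omega)]
  exact CfsgLib.MaxClassDegree.twoStep_eq (by omega) hG hc (by omega) (by omega)

/-- Case distinction for the classification. -/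
def Shape (p n : ℕ) (E : Subgroup Ω) (S : Subgroup Ω) : Prop :=
  IsPearlShape p E ∨ E.subgroupOf S = twoStep S 2 ∨ E.subgroupOf S = twoStep S (n - 2)

/-- The essential subgroups in the first two-step centralizer when `p = 2` or `p = 3`. -/
theorem eq_one_of_small (hS : IsPGroup p S) (h4 : 4 ≤ n) (hG : Nat.card S = p ^ n)
    (hc : Group.nilpotencyClass S = n - 1) {F : FusionSystem S} (hF : F.IsSaturated p) (hp : p < 5)
    {K : Subgroup S} (hKT : K ≤ twoStep S 2) (hK : F.IsEssential p (K.map S.subtype)) : K = twoStep S 2 := by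
  have h2 := hpf.out.two_le
  have : p = 2 ∨ p = 3 := by
    rcases Nat.lt_or_ge p 4 with h | h
    · omega
    · exact absurd hpf.out (by rw [show p = 4 by omega]; decide)
  rcases this with rfl | hp3
  · exact eq_of_commutative (twoStep_comm_two (by omega) h4 hG hc) hKT (centralizer_le K hK.1)
  · exact eq_of_three hS hF hp3 (frameOf h4 hG hc (last_eq_of_three h4 hG hc hp3)) hKT hK

/-- The hypothesis left to the exceptional two-step centralizer. -/
def Exceptional (p n : ℕ) (F : FusionSystem S) : Prop :=
  LastData p n S → 5 ≤ p → ∀ K : Subgroup S, K ≤ twoStep S 2 → ¬ K.Normal → F.IsEssential p (K.map S.subtype) →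
    (∀ R, F.IsEssential p R → Nat.card K < Nat.card R →
      R.subgroupOf S = twoStep S 2 ∨ R.subgroupOf S = twoStep S (n - 2)) → False

/-- The essential subgroups are pearls or two-step centralizers. -/
theorem classify_of (hS : IsPGroup p S) (hG : Nat.card S = p ^ n) (h4 : 4 ≤ n)
    (hmax : Subgroup.lowerCentralSeries S (n - 2) ≠ ⊥) (hc : Group.nilpotencyClass S = n - 1)
    {F : FusionSystem S} (hF : F.IsSaturated p) (Γ₁ : Subgroup Ω)
    (hΓ₁ : ∀ x : Ω, x ∈ Γ₁ ↔ x ∈ S ∧ ∀ y ∈ Subgroup.lowerCentralSeries S 1,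
      x * y * x⁻¹ * y⁻¹ ∈ Subgroup.lowerCentralSeries S 3)
    (hexc : Exceptional p n F) : ∀ E : Subgroup Ω, F.IsEssential p E → Shape p n E S := by
  have hn : 3 ≤ n := by omega
  suffices ∀ d : ℕ, ∀ E : Subgroup Ω, F.IsEssential p E → Nat.card S - Nat.card E = d → Shape p n E S from
    fun E hE => this _ E hE rfl
  intro d
  induction d using Nat.strong_induction_on with
  | _ d IH =>
  intro E hE hd
  have hES := hE.1.1
  haveI : Finite E := FusionSystem.finite_of_le hES
  have hbig : ∀ R, F.IsEssential p R → Nat.card E < Nat.card R → Shape p n R S := fun R hR hlt =>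
    IH _ (by have := card_le_of_le hR.1.1; omega) R hR rfl
  set K := E.subgroupOf S with hKdef
  have hKmap : K.map S.subtype = E := by rw [hKdef, subgroupOf_map_subtype, inf_eq_left.mpr hES]
  have hKcard : Nat.card K = Nat.card E := card_subgroupOf hES
  have hK : F.IsEssential p (K.map S.subtype) := hKmap.symm ▸ hE
  by_cases hK1 : K ≤ twoStep S 2
  swap
  · by_cases hK2 : K ≤ twoStep S (n - 2)
    · have D : LastData p n S := lastData_of_ne h4 hG hc fun e => hK1 (e ▸ hK2)
      refine Or.inr (Or.inr (eq_twoStep_last D hF hE hK2 hK1 fun R hR hlt => ?_))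
      rcases hbig R hR hlt with h | h | h
      exacts [Or.inr (Or.inr h.card_le), Or.inl h, Or.inr (Or.inl h)]
    · obtain ⟨a, ha, ha1⟩ := SetLike.not_le_iff_exists.mp hK1
      obtain ⟨b, hb, hb2⟩ := SetLike.not_le_iff_exists.mp hK2
      obtain ⟨y, hy, hy1, hy2⟩ : ∃ y ∈ K, y ∉ twoStep S 2 ∧ y ∉ twoStep S (n - 2) := by
        by_cases ha2 : a ∈ twoStep S (n - 2)
        · by_cases hb1 : b ∈ twoStep S 2
          · exact ⟨a * b, mul_mem ha hb, fun h => ha1 (by simpa using mul_mem h (inv_mem hb1)),
              fun h => hb2 (by simpa using mul_mem (inv_mem ha2) h)⟩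
          · exact ⟨b, hb, hb1, hb2⟩
        · exact ⟨a, ha, ha1, ha2⟩
      exact Or.inl (good_case hS hn hG hc hF hE hy (fun h => hy1 (CfsgLib.MaxClassGood.fil_le_twoStep 2 h)) hy1 hy2)
  refine Or.inr (Or.inl ?_)
  rcases Nat.lt_or_ge p 5 with hp | hp
  · exact eq_one_of_small hS h4 hG hc hF hp hK1 hK
  by_contra hne
  by_cases hKn : K.Normal
  · have hi := (Cfsg.Agent.S5269.result p hS n hG h4 hmax F hF hp Γ₁ hΓ₁ E hE hKn).1
    refine hne (eq_of_le_of_card_ge hK1 ?_)
    have e1 := K.card_mul_index
    have e2 := (twoStep S 2).card_mul_index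
    rw [CfsgLib.MaxClassGood.twoStep_index hn hG hc le_rfl (by omega)] at e2
    rw [hi, ← e2] at e1
    exact (Nat.eq_of_mul_eq_mul_right hpf.out.pos e1).ge
  by_cases heq : twoStep S (n - 2) = twoStep S 2
  · have h3 := card_ge_of_not_normal hn h4 hG hc (Or.inl heq) hK1 (centralizer_le K hK.1) hKn
    refine false_of_uniform hS hF hp h4 hG hc (frameOf h4 hG hc heq).hdeg hK1 hKn hK fun R hR hlt => ?_
    refine eq_map_of_subgroupOf hR.1.1 ?_
    rcases hbig R hR (hKcard ▸ hlt) with h | h | h
    · exact absurd h.card_le (by omega)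
    · exact h
    · exact h.trans heq
  · have D := lastData_of_ne h4 hG hc heq
    have h3 := card_ge_of_not_normal hn h4 hG hc (Or.inr D) hK1 (centralizer_le K hK.1) hKn
    refine hexc D hp K hK1 hKn hK fun R hR hlt => ?_
    rcases hbig R hR (hKcard ▸ hlt) with h | h
    · exact absurd h.card_le (by omega)
    · exact h

/-- No extraspecial pearl when the extreme two-step centralizers differ. -/
theorem false_of_cube_pearl (hG : Nat.card S = p ^ n) (h4 : 4 ≤ n) (hc : Group.nilpotencyClass S = n - 1)
    {F : FusionSystem S} (hF : F.IsSaturated p) (hne : twoStep S (n - 2) ≠ twoStep S 2)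
    (hcl : ∀ E : Subgroup Ω, F.IsEssential p E → Shape p n E S) {E : Subgroup Ω} (hE : F.IsEssential p E)
    (hcard : Nat.card E = p ^ 3) (hex : Cfsg.IsExtraspecial p E) : False :=
  false_of_extraspecial (lastData_of_ne h4 hG hc hne) hF hE hcard hex.2 fun R hR hlt => by
    rcases hcl R hR with h | h
    · exact absurd h.card_le (by omega)
    · exact h

end CfsgLib.MaxClassResidual
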