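import Cfsg.Agent.Lib.MaxClassResidual.Frame
import Cfsg.Agent.Lib.MaxClassEssential.Action
import Cfsg.Agent.Lib.RankFrattini

/-!
An elementary abelian normal subgroup as a module.
-/

set_option autoImplicit false
set_option linter.unusedSectionVars false

namespace CfsgLib.MaxClassResidual

open scoped commutatorElement
open Subgroup
open CfsgLib.PolySeq (fil fil_antitone fil_commutator_mem)
open MaxClassEssential (Vec vec lin)

namespace Mod

variable {p : ℕ} [hpf : Fact p.Prime] {S : Type*} [Group S] [Finite S] (M : Subgroup S) [M.Normal]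
  [hM : Fact (IsPGroup p M)]

/-- The action of the group. -/
def rep : S →* (Module.End (ZMod p) (Vec p M))ˣ :=
  ((lin (p := p) (E := M)).comp (MulAut.conjNormal : S →* MulAut M)).toHomUnits

theorem rep_vec (g : S) (m : M) :
    (rep (p := p) M g : Module.End (ZMod p) (Vec p M)) (vec m) = vec (MulAut.conjNormal g m) := rfl

theorem comm_mem (g : S) (m : M) : ⁅g, (m : S)⁆ ∈ M := by
  rw [commutatorElement_def]
  exact mul_mem ((inferInstance : M.Normal).conj_mem _ m.2 g) (inv_mem m.2)

theorem sub_one_vec (g : S) (m : M) :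
    ((rep (p := p) M g : Module.End (ZMod p) (Vec p M)) - 1) (vec m) =
      vec (⟨⁅g, (m : S)⁆, comm_mem M g m⟩ : M) := by
  rw [LinearMap.sub_apply, Module.End.one_apply, rep_vec, sub_eq_add_neg, ← MaxClassEssential.vec_inv,
    ← MaxClassEssential.vec_mul]
  exact congrArg vec (Subtype.ext rfl)

variable {M} (hab : ∀ a ∈ M, ∀ b ∈ M, a * b = b * a) (hexp : ∀ a ∈ M, a ^ p = 1)

include hab hexp in
theorem vec_eq_one {m : M} : (vec m : Vec p M) = 0 ↔ m = 1 := by
  rw [MaxClassEssential.vec_eq_zero]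
  constructor
  · intro h
    exact mem_bot.mp (CfsgLib.RankFrattini.frattini_le_of_elementary hM.out ⊥
      (fun a b => mem_bot.mpr (commutatorElement_eq_one_iff_mul_comm.mpr (Subtype.ext (hab a a.2 b b.2))))
      (fun a => mem_bot.mpr (Subtype.ext (by rw [SubmonoidClass.coe_pow]; exact hexp a a.2))) h)
  · rintro rfl; exact one_mem _

include hab hexp in
theorem vec_injective : Function.Injective (vec : M → Vec p M) := fun a b h => by
  rw [MaxClassEssential.vec_eq_vec, ← MaxClassEssential.vec_eq_zero (p := p), vec_eq_one hab hexp,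
    mul_inv_eq_one] at h
  exact h

include hab hexp in
theorem rep_fix {g : S} {m : M} :
    (rep (p := p) M g : Module.End (ZMod p) (Vec p M)) (vec m) = vec m ↔ g * m = m * g := by
  rw [rep_vec, (vec_injective hab hexp).eq_iff, Subtype.ext_iff, MulAut.conjNormal_apply, mul_inv_eq_iff_eq_mul]

include hab hexp in
theorem rep_eq_one {g : S} : rep (p := p) M g = 1 ↔ ∀ m ∈ M, g * m = m * g := by
  constructor
  · intro h m hm
    exact (rep_fix (p := p) hab hexp (m := (⟨m, hm⟩ : M))).mp (by rw [h]; rfl)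
  · intro h
    refine Units.ext (LinearMap.ext fun v => ?_)
    obtain ⟨m, rfl⟩ := MaxClassEssential.vec_surjective v
    exact (rep_fix hab hexp).mpr (h m m.2)

variable (M) in
/-- The subspace of a subgroup. -/
def sub (X : Subgroup S) : Submodule (ZMod p) (Vec p M) where
  carrier := {w | ∃ a : M, (a : S) ∈ X ∧ vec a = w}
  zero_mem' := ⟨1, one_mem X, MaxClassEssential.vec_one⟩
  add_mem' := by
    rintro _ _ ⟨a, ha, rfl⟩ ⟨b, hb, rfl⟩
    exact ⟨a * b, mul_mem ha hb, MaxClassEssential.vec_mul a b⟩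
  smul_mem' := by
    rintro c _ ⟨a, ha, rfl⟩
    refine ⟨a ^ c.val, pow_mem ha _, ?_⟩
    rw [MaxClassEssential.vec_pow, ← Nat.cast_smul_eq_nsmul (ZMod p), ZMod.natCast_zmod_val]

theorem sub_mono {X Y : Subgroup S} (h : X ≤ Y) : sub (p := p) M X ≤ sub M Y := by
  rintro _ ⟨a, ha, rfl⟩
  exact ⟨a, h ha, rfl⟩

theorem sub_top {X : Subgroup S} (h : M ≤ X) : sub (p := p) M X = ⊤ := eq_top_iff.mpr fun w _ => by
  obtain ⟨a, rfl⟩ := MaxClassEssential.vec_surjective w
  exact ⟨a, h a.2, rfl⟩

theorem sub_bot : sub (p := p) M (⊥ : Subgroup S) = ⊥ := eq_bot_iff.mpr fun w hw => by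
  obtain ⟨a, ha, rfl⟩ := hw
  rw [Submodule.mem_bot, show a = 1 from Subtype.ext (Subgroup.mem_bot.mp ha), MaxClassEssential.vec_one]

end Mod

end CfsgLib.MaxClassResidual
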