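import Cfsg.Agent.Lib.MaxClassResidual.TwoEigenMain

/-!
An element with two eigenvalues normalises a single Jordan block in dimension at least three.
-/

set_option autoImplicit false
set_option linter.unusedSectionVars false
set_option linter.style.haveILetI false
set_option maxHeartbeats 800000

namespace CfsgLib.MaxClassResidual

open Subgroup Matrix

variable {p : ℕ} [hpf : Fact p.Prime] {V : Type*} [AddCommGroup V] [Module (ZMod p) V] [Finite V] {X : Type*}
  [Group X] [Finite X] {σ : X →* Module.End (ZMod p) V} {x : X} {d : ℕ}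

/-- An element of order prime to `p` with two eigenvalues, one of them a generator, normalises the block. -/
theorem OneBlock.normalises (O : OneBlock σ x d) (h7 : 7 ≤ p) (hd : 3 ≤ d) {t : X} {A : Module.End (ZMod p) V}
    (hA : A * A = A) {μ : ZMod p} (hμ : orderOf μ = p - 1) (ht : σ t = 1 + (μ - 1) • A) :
    ∃ a : ℕ, t * x * t⁻¹ = x ^ a := by
  classical
  have hμ0 : μ ≠ 0 := fun h => by rw [h, orderOf_zero] at hμ; omega
  have hμ2 : μ ^ 2 ≠ 1 := fun h => by
    have := orderOf_dvd_of_pow_eq_one h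
    rw [hμ] at this
    have := Nat.le_of_dvd (by norm_num) this
    omega
  haveI := O.nontriv
  have htp := O.pow_card_sub_one hA hμ0 ht
  have hndvd : ¬ p ∣ p - 1 := fun h => by have := Nat.le_of_dvd (by omega) h; omega
  by_cases hall : ∀ j : ℕ, t * (x ^ j * t * (x ^ j)⁻¹) = x ^ j * t * (x ^ j)⁻¹ * t
  · exact ⟨1, by rw [pow_one, ← O.commute_of_conjugates htp hndvd hall, mul_inv_cancel_right]⟩
  push Not at hall
  obtain ⟨j, hne⟩ := hall
  exfalso
  set u := x ^ j * t * (x ^ j)⁻¹ with hu'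
  set B := σ (x ^ j) * A * σ (x ^ j)⁻¹ with hB'
  have hB : B * B = B := by
    rw [hB', mul_assoc (σ (x ^ j) * A), ← mul_assoc (σ (x ^ j)⁻¹), ← mul_assoc (σ (x ^ j)⁻¹), ← map_mul σ (x ^ j)⁻¹,
      inv_mul_cancel, map_one, one_mul, mul_assoc (σ (x ^ j)), ← mul_assoc A A, hA, mul_assoc]
  have hu : σ u = 1 + (μ - 1) • B := by
    rw [hu', map_mul, map_mul, ht, mul_add, mul_one, add_mul, ← map_mul, mul_inv_cancel, map_one,
      mul_smul_comm, smul_mul_assoc]
  have hnot := O.not_nilpotent hd hA hB hμ0 hμ2 ht hu hne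
  set c := A + B - A * B - B * A with hc
  -- extension of scalars
  set K := AlgebraicClosure (ZMod p) with hK
  haveI : CharP K p := charP_of_injective_algebraMap (algebraMap (ZMod p) K).injective p
  let b := Module.finBasis (ZMod p) V
  let ι : Module.End (ZMod p) V →+* Module.End K (Fin (Module.finrank (ZMod p) V) → K) :=
    (Matrix.toLinAlgEquiv' (R := K) (n := Fin (Module.finrank (ZMod p) V))).toRingHom.comp
      ((algebraMap (ZMod p) K).mapMatrix.comp (LinearMap.toMatrixAlgEquiv b).toRingHom)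
  have hι : Function.Injective ι := fun f g h =>
    (LinearMap.toMatrixAlgEquiv b).injective (Matrix.map_injective (algebraMap (ZMod p) K).injective
      ((Matrix.toLinAlgEquiv' (R := K) (n := Fin (Module.finrank (ZMod p) V))).injective h))
  have hιs : ∀ (r : ZMod p) (f : Module.End (ZMod p) V), ι (r • f) = algebraMap (ZMod p) K r • ι f := by
    intro r f
    have e : (algebraMap (ZMod p) K).mapMatrix (r • LinearMap.toMatrixAlgEquiv b f) =
        algebraMap (ZMod p) K r • (algebraMap (ZMod p) K).mapMatrix (LinearMap.toMatrixAlgEquiv b f) := by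
      ext i k; simp
    show Matrix.toLinAlgEquiv' ((algebraMap (ZMod p) K).mapMatrix (LinearMap.toMatrixAlgEquiv b (r • f))) = _
    rw [map_smul, e, map_smul]
    rfl
  obtain ⟨lam, v, hv, hl0, hl1, hlv⟩ : ∃ (lam : K) (v : Fin (Module.finrank (ZMod p) V) → K), v ≠ 0 ∧ lam ≠ 0 ∧
      lam ≠ 1 ∧ ι c v = lam • v := by
    obtain ⟨ξ, v, hξ, hv, hev⟩ := CfsgLib.Dickson.exists_eigen_ne_zero
      (M := (algebraMap (ZMod p) K).mapMatrix (LinearMap.toMatrixAlgEquiv b (c * c - c))) (by
        rintro ⟨m, hm⟩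
        rw [← map_pow, ← map_pow] at hm
        exact hnot ⟨m, (LinearMap.toMatrixAlgEquiv b).injective (Matrix.map_injective
          (algebraMap (ZMod p) K).injective (hm.trans (by simp)))⟩)
    have hev' : ι c (ι c v) - ι c v = ξ • v := by
      rw [← Module.End.mul_apply, ← LinearMap.sub_apply, ← map_mul, ← map_sub]
      show Matrix.toLinAlgEquiv' ((algebraMap (ZMod p) K).mapMatrix (LinearMap.toMatrixAlgEquiv b (c * c - c))) v = _
      rw [Matrix.toLinAlgEquiv'_apply]
      exact hev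
    obtain ⟨r, hr⟩ := exists_quad_root (K := K) (Ring.two_ne_zero (by rw [ringChar.eq K p]; omega)) 1 (-ξ)
    have hr01 : r ≠ 0 ∧ r ≠ 1 ∧ 1 - r ≠ 0 ∧ 1 - r ≠ 1 := by
      have h' : ξ = r * r - r := by linear_combination -hr
      refine ⟨fun h => hξ (by rw [h', h]; ring), fun h => hξ (by rw [h', h]; ring),
        fun h => hξ (by rw [h', ← sub_eq_zero.mp h]; ring), fun h => hξ ?_⟩
      rw [h', show r = 0 by linear_combination -h]; ring
    by_cases hr' : ι c v = r • v
    · exact ⟨r, v, hv, hr01.1, hr01.2.1, hr'⟩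
    · refine ⟨1 - r, ι c v - r • v, sub_ne_zero.mpr hr', hr01.2.2.1, hr01.2.2.2, ?_⟩
      rw [map_sub, map_smul, smul_sub, smul_smul]
      rw [sub_eq_iff_eq_add] at hev'
      rw [hev', show ξ = -((1 - r) * r) by linear_combination -hr]
      module
  have hAK : ι A * ι A = ι A := by rw [← map_mul, hA]
  have hBK : ι B * ι B = ι B := by rw [← map_mul, hB]
  have hcK : ι c = ι A + ι B - ι A * ι B - ι B * ι A := by simp [hc]
  obtain ⟨v₁, v₂, hli, hA1, hA2, hB1, hB2, hc1, -⟩ := exists_pair_plane hAK hBK hv hl0 hl1 (by rw [← hcK]; exact hlv)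
  set G : Subgroup X := closure {t, u} with hG
  let tG : G := ⟨t, subset_closure (by simp)⟩
  let uG : G := ⟨u, subset_closure (by simp)⟩
  have hgen : closure ({tG, uG} : Set G) = ⊤ := by
    rw [← closure_closure_coe_preimage (k := ({t, u} : Set X))]
    congr 1
    ext ⟨g, hg⟩
    simp [tG, uG, Subtype.ext_iff]
  set μK := algebraMap (ZMod p) K μ with hμK
  let τ : G →* Module.End K (Fin (Module.finrank (ZMod p) V) → K) := ι.toMonoidHom.comp (σ.comp G.subtype)
  have hτt : τ tG = 1 + (μK - 1) • ι A := by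
    show ι (σ t) = _
    rw [ht, map_add, map_one, hιs, map_sub, map_one]
  have hτu : τ uG = 1 + (μK - 1) • ι B := by
    show ι (σ u) = _
    rw [hu, map_add, map_one, hιs, map_sub, map_one]
  obtain ⟨Φ, hΦt, hΦu, -⟩ := exists_plane_hom τ hgen hτt hτu hli hA1 hA2 hB1 hB2
  have hμKo : orderOf μK = p - 1 := by
    rw [hμK]
    exact (orderOf_injective (algebraMap (ZMod p) K).toMonoidHom (algebraMap (ZMod p) K).injective μ).trans hμ
  by_cases hcard : p ∣ Nat.card Φ.toHomUnits.range
  swap
  · exact false_of_coprime h7 Φ hcard hμKo hl0 hl1 hΦt hΦu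
  haveI : Finite Φ.toHomUnits.range := Finite.of_surjective _ Φ.toHomUnits.rangeRestrict_surjective
  -- an element of order `p`
  obtain ⟨⟨_, g₀, rfl⟩, hy⟩ := exists_prime_orderOf_dvd_card' p hcard
  obtain ⟨e, r, hr, hord⟩ := Nat.exists_eq_pow_mul_and_not_dvd (orderOf_pos g₀).ne' p hpf.out.ne_one
  set g : G := g₀ ^ r with hg
  have hgp : g ^ p ^ e = 1 := by rw [hg, ← pow_mul, mul_comm, ← hord, pow_orderOf_eq_one]
  have hΦg : Φ g ≠ 1 := by
    intro h
    refine hr ?_
    rw [← hy]
    refine orderOf_dvd_of_pow_eq_one (Subtype.ext (Units.ext ?_))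
    show Φ g₀ ^ r = 1
    rw [← map_pow]
    exact h
  obtain ⟨h, l, hgx⟩ := O.syl' (g : X) ⟨e, by rw [← coe_pow, hgp]; rfl⟩
  have hl : ¬ p ∣ l := fun ⟨m, hm⟩ => by
    rw [hm, pow_mul, O.x_pow, one_pow, mul_one, mul_inv_cancel] at hgx
    exact hΦg (by rw [show g = 1 from Subtype.ext hgx, map_one])
  have hcA : A * c = c * A := LinearMap.ext fun w => by
    have hA' : ∀ w, A (A w) = A w := fun w => by rw [← Module.End.mul_apply, hA]
    simp [hc, hA']; abel
  have hcB : B * c = c * B := LinearMap.ext fun w => by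
    have hB' : ∀ w, B (B w) = B w := fun w => by rw [← Module.End.mul_apply, hB]
    simp [hc, hB']; abel
  have hcG : ∀ k ∈ G, σ k * c = c * σ k := by
    intro k hk
    induction hk using closure_induction with
    | mem y hy =>
      rcases hy with rfl | hy
      · rw [ht]; simp only [add_mul, mul_add, one_mul, mul_one, smul_mul_assoc, mul_smul_comm, hcA]
      · rw [Set.mem_singleton_iff.mp hy, hu]
        simp only [add_mul, mul_add, one_mul, mul_one, smul_mul_assoc, mul_smul_comm, hcB]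
    | one => rw [map_one, one_mul, mul_one]
    | mul a b _ _ iha ihb => rw [map_mul, mul_assoc, ihb, ← mul_assoc, iha, mul_assoc]
    | inv a _ iha =>
      calc σ a⁻¹ * c = σ a⁻¹ * (c * σ a) * σ a⁻¹ := by
            rw [mul_assoc, mul_assoc, ← map_mul σ a, mul_inv_cancel, map_one, mul_one]
        _ = c * σ a⁻¹ := by
            rw [← iha, ← mul_assoc, ← map_mul σ a⁻¹, inv_mul_cancel, map_one, one_mul]
  obtain ⟨l', -, hl'⟩ := Nat.exists_mul_mod_eq_one_of_coprime (hpf.out.coprime_iff_not_dvd.mpr hl).symm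
    hpf.out.one_lt
  have hxl : (x ^ l) ^ l' = x := by
    rw [← pow_mul, ← Nat.div_add_mod (l * l') p, hl', pow_add, pow_mul, O.x_pow, one_pow, one_mul, pow_one]
  obtain ⟨e₀, he₀⟩ := O.top
  set c' := σ h⁻¹ * c * σ h with hc'
  have hc'x : c' * σ x = σ x * c' := by
    have h1 : Commute c' (σ (x ^ l)) := by
      have h2 := hcG g g.2
      rw [hgx, map_mul, map_mul] at h2
      have hh : σ h * σ h⁻¹ = 1 := by rw [← map_mul, mul_inv_cancel, map_one]
      have hh' : σ h⁻¹ * σ h = 1 := by rw [← map_mul, inv_mul_cancel, map_one]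
      have h3 := congrArg (fun z => σ h⁻¹ * z * σ h) h2
      simp only [mul_assoc, hh', mul_one] at h3
      simp only [← mul_assoc, hh', one_mul] at h3
      show c' * σ (x ^ l) = σ (x ^ l) * c'
      rw [hc']
      simp only [← mul_assoc]
      exact h3.symm
    have h4 := h1.pow_right l'
    rwa [← map_pow, hxl] at h4
  obtain ⟨lam₀, hlam₀⟩ := block_eigen (f := c') (by omega) O.nil O.dim he₀ (by
    rw [mul_sub, sub_mul, hc'x, mul_one, one_mul])
  have hcn : (c - lam₀ • 1) ^ d = 0 := by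
    have e : c' - lam₀ • 1 = σ h⁻¹ * (c - lam₀ • 1) * σ h := by
      rw [hc']
      generalize c = cc
      rw [mul_sub, sub_mul, mul_smul_comm, mul_one, smul_mul_assoc, ← map_mul, inv_mul_cancel, map_one]
    have hpw : ∀ m, (c' - lam₀ • 1) ^ m = σ h⁻¹ * (c - lam₀ • 1) ^ m * σ h := fun m => by
      induction m with
      | zero => rw [pow_zero, pow_zero, mul_one, ← map_mul, inv_mul_cancel, map_one]
      | succ m ih =>
        rw [pow_succ, ih, e, mul_assoc, mul_assoc, ← mul_assoc (σ h), ← mul_assoc (σ h), ← map_mul σ h,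
          mul_inv_cancel, map_one, one_mul, pow_succ]
        simp only [mul_assoc]
    rw [hpw] at hlam₀
    have := congrArg (fun z => σ h * z * σ h⁻¹) hlam₀
    simp only [mul_assoc, ← map_mul, mul_inv_cancel, map_one, mul_one, mul_zero, zero_mul] at this
    simpa [← mul_assoc, ← map_mul] using this
  have hlam : lam = algebraMap (ZMod p) K lam₀ := by
    have h1 : ∀ m, ι ((c - lam₀ • 1) ^ m) v₁ = (lam - algebraMap (ZMod p) K lam₀) ^ m • v₁ := by
      intro m
      induction m with
      | zero => simp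
      | succ m ih =>
        rw [pow_succ' _ m, map_mul, Module.End.mul_apply, ih, map_smul, map_sub, hιs, map_one, LinearMap.sub_apply,
          LinearMap.smul_apply, Module.End.one_apply, hcK, hc1, ← sub_smul, smul_smul, pow_succ]
    have h2 := h1 d
    rw [hcn, map_zero, LinearMap.zero_apply, eq_comm, smul_eq_zero] at h2
    exact sub_eq_zero.mp ((pow_eq_zero_iff'.mp (h2.resolve_right (hli.ne_zero 0))).1)
  have h00 : lam₀ ≠ 0 := fun h => hl0 (by rw [hlam, h, map_zero])
  have h01 : lam₀ ≠ 1 := fun h => hl1 (by rw [hlam, h, map_one])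
  obtain ⟨w, hw, hcw⟩ : ∃ w : V, w ≠ 0 ∧ c w = lam₀ • w := by
    by_contra hn
    push Not at hn
    have hinj' : Function.Injective (c - lam₀ • 1 : Module.End (ZMod p) V) := by
      rw [injective_iff_map_eq_zero]
      intro w hw
      by_contra hw0
      rw [LinearMap.sub_apply, LinearMap.smul_apply, Module.End.one_apply, sub_eq_zero] at hw
      exact hn w hw0 hw
    have hpi : Function.Injective ((c - lam₀ • 1 : Module.End (ZMod p) V) ^ d) := by
      rw [Module.End.coe_pow]; exact hinj'.iterate d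
    rw [hcn] at hpi
    exact he₀ (hpi (by simp))
  obtain ⟨w₁, w₂, hwli, hwA1, hwA2, hwB1, hwB2, hwc1, hwc2⟩ := exists_pair_plane hA hB hw h00 h01 hcw
  let τ₀ : G →* Module.End (ZMod p) V := σ.comp G.subtype
  obtain ⟨Φ₀, hΦ₀t, hΦ₀u, hΦ₀⟩ := exists_plane_hom τ₀ hgen (show τ₀ tG = _ from ht) (show τ₀ uG = _ from hu)
    hwli hwA1 hwA2 hwB1 hwB2
  have hcompat : Φ = (algebraMap (ZMod p) K).mapMatrix.toMonoidHom.comp Φ₀ := by
    refine MonoidHom.eq_of_eqOn_dense hgen fun y hy => ?_
    rcases hy with rfl | hy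
    · rw [hΦt, MonoidHom.comp_apply, hΦ₀t]
      ext i k; fin_cases i <;> fin_cases k <;> simp [gA, hμK]
    · rw [Set.mem_singleton_iff.mp hy, hΦu, MonoidHom.comp_apply, hΦ₀u, hlam]
      ext i k; fin_cases i <;> fin_cases k <;> simp [gB, hμK]
  let ψ : G →* Module.End (ZMod p) (Fin 2 → ZMod p) :=
    (Matrix.toLinAlgEquiv' (R := ZMod p) (n := Fin 2)).toMonoidHom.comp Φ₀
  have hψ : ∀ k z, ψ k z = (Φ₀ k).mulVec z := fun k z => Matrix.toLinAlgEquiv'_apply _ _
  have hΦ₀g : ψ g ≠ 1 := fun h => hΦg (by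
    rw [hcompat, MonoidHom.comp_apply]
    have : Φ₀ g = 1 := (Matrix.toLinAlgEquiv' (R := ZMod p) (n := Fin 2)).injective (h.trans (map_one _).symm)
    rw [this, map_one])
  have hW : Module.finrank (ZMod p) (Fin 2 → ZMod p) = 2 := Module.finrank_fin_fun _
  have hgp1 : g ^ p = 1 := Subtype.ext (by
    rw [coe_pow, hgx, conj_pow, ← pow_mul, mul_comm l p, pow_mul, O.x_pow, one_pow, mul_one, mul_inv_cancel]; rfl)
  have hsq : ∀ y : G, y ^ p = 1 → (ψ y - 1) * (ψ y - 1) = 0 := by
    intro y hy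
    haveI : CharP (Module.End (ZMod p) (Fin 2 → ZMod p)) p :=
      charP_of_injective_algebraMap (FaithfulSMul.algebraMap_injective (ZMod p) _) p
    have h0 : (ψ y - 1) ^ p = 0 := by
      rw [sub_pow_char_of_commute p (Commute.one_right _), one_pow, ← map_pow, hy, map_one, sub_self]
    have h2 : (ψ y - 1) ^ 2 = 0 := LinearMap.ext fun z => by
      have h3 := Module.End.ker_pow_le_ker_pow_finrank (ψ y - 1) p
        (show ((ψ y - 1) ^ p) z = 0 by rw [h0, LinearMap.zero_apply])
      rw [hW] at h3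
      exact h3
    rwa [pow_two] at h2
  set u₀ := ψ g - 1 with hu₀
  obtain ⟨e₁, he₁⟩ : ∃ e, u₀ e ≠ 0 := by
    by_contra h
    push Not at h
    exact hΦ₀g (sub_eq_zero.mp (LinearMap.ext h))
  have hu01 : u₀ (u₀ e₁) = 0 := by rw [← Module.End.mul_apply, hsq g hgp1, LinearMap.zero_apply]
  obtain ⟨k, hk⟩ : ∃ k : G, (ψ (k * g * k⁻¹) - 1) (u₀ e₁) ≠ 0 := by
    by_contra hn
    push Not at hn
    have key : ∀ k : G, ∃ a : ZMod p, (Φ₀ k⁻¹).mulVec (u₀ e₁) = a • u₀ e₁ := by
      intro k
      have h1 := hn k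
      rw [LinearMap.sub_apply, Module.End.one_apply, sub_eq_zero, map_mul, map_mul, Module.End.mul_apply,
        Module.End.mul_apply] at h1
      have h2 := congrArg (ψ k⁻¹) h1
      rw [← Module.End.mul_apply, ← map_mul, inv_mul_cancel, map_one, Module.End.one_apply] at h2
      have h3 : u₀ (ψ k⁻¹ (u₀ e₁)) = 0 := by rw [hu₀, LinearMap.sub_apply, Module.End.one_apply, h2, sub_self]
      have hli' : LinearIndependent (ZMod p) ![u₀ e₁, e₁] := by
        rw [LinearIndependent.pair_iff]
        intro s s' hs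
        have h4 := congrArg u₀ hs
        rw [map_add, map_smul, map_smul, hu01, smul_zero, zero_add, map_zero] at h4
        have hs' : s' = 0 := (smul_eq_zero.mp h4).resolve_right he₁
        rw [hs', zero_smul, add_zero] at hs
        exact ⟨(smul_eq_zero.mp hs).resolve_right he₁, hs'⟩
      obtain ⟨a, a', ha⟩ := eq_combination hli' (ψ k⁻¹ (u₀ e₁))
      rw [ha, map_add, map_smul, map_smul, hu01, smul_zero, zero_add] at h3
      have ha' : a' = 0 := (smul_eq_zero.mp h3).resolve_right he₁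
      rw [ha', zero_smul, add_zero] at ha
      exact ⟨a, by rw [← hψ]; exact ha⟩
    obtain ⟨a, ha⟩ := key tG⁻¹
    obtain ⟨a', ha'⟩ := key uG⁻¹
    rw [inv_inv, hΦ₀t] at ha
    rw [inv_inv, hΦ₀u] at ha'
    exact he₁ (eq_zero_of_common (fun h => hμ2 (by rw [h, one_pow])) h00 h01 ha ha')
  set y := k * g * k⁻¹ with hy'
  have hyp : y ^ p = 1 := by rw [hy', conj_pow, hgp1, mul_one, mul_inv_cancel]
  obtain ⟨a, b', hab⟩ := exists_sq_eq_neg hW (hsq g hgp1) (hsq y hyp) he₁ hk
  have hpw : ∀ (z : G) (_ : (ψ z - 1) * (ψ z - 1) = 0) (a : ZMod p), ψ (z ^ a.val) = 1 + a • (ψ z - 1) := by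
    intro z hz a
    rw [MaxClassEssential.apply_pow (σ := ψ) hz, ← Nat.cast_smul_eq_nsmul (ZMod p), ZMod.natCast_zmod_val]
  set q := g ^ a.val * y ^ b'.val * g ^ a.val with hq
  set s := q * q with hs'
  have hs : ψ s = -1 := by
    rw [hs', map_mul, hq, map_mul, map_mul, hpw g (hsq g hgp1), hpw y (hsq y hyp)]
    exact hab
  have hΦs : Φ₀ s = -1 := (Matrix.toLinAlgEquiv' (R := ZMod p) (n := Fin 2)).injective
    (hs.trans (by rw [map_neg, map_one]))
  -- the element acts as minus one on the eigenspace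
  let R4 : G → Prop := fun k => ∃ x₀ x₁ x₂ x₃ : ZMod p, ∀ z, c z = lam₀ • z →
    σ k z = x₀ • z + x₁ • A z + x₂ • B z + x₃ • A (B z)
  have hR : ∀ k, R4 k := by
    intro k
    have hk : k ∈ Submonoid.closure ({tG, uG} : Set G) := by
      rw [← Subgroup.closure_toSubmonoid_of_finite, hgen]; trivial
    have hA' : ∀ w, A (A w) = A w := fun w => by rw [← Module.End.mul_apply, hA]
    have hB' : ∀ w, B (B w) = B w := fun w => by rw [← Module.End.mul_apply, hB]
    have hBA : ∀ z, c z = lam₀ • z → B (A z) = A z + B z - A (B z) - lam₀ • z := fun z hz => by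
      rw [← hz, hc]; simp
    have hBAB : ∀ z, c z = lam₀ • z → B (A (B z)) = (1 - lam₀) • B z := fun z hz => by
      have hcBz : c (B z) = lam₀ • B z := by
        rw [← Module.End.mul_apply, ← hcB, Module.End.mul_apply, hz, map_smul]
      rw [hBA (B z) hcBz, hB']
      module
    induction hk using Submonoid.closure_induction_left with
    | one => exact ⟨1, 0, 0, 0, fun z _ => by simp⟩
    | mul_left y hy k' _ ih =>
      obtain ⟨x₀, x₁, x₂, x₃, hx⟩ := ih
      rcases hy with rfl | hy
      · refine ⟨x₀, x₁ + (μ - 1) * (x₀ + x₁), x₂, x₃ + (μ - 1) * (x₂ + x₃), fun z hz => ?_⟩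
        rw [coe_mul, map_mul, Module.End.mul_apply, hx z hz, show σ (tG : X) = σ t from rfl, ht]
        simp only [LinearMap.add_apply, LinearMap.smul_apply, Module.End.one_apply, map_add, map_smul, hA']
        module
      · rw [Set.mem_singleton_iff.mp hy]
        refine ⟨x₀ - (μ - 1) * (lam₀ * x₁), x₁ + (μ - 1) * x₁,
          x₂ + (μ - 1) * (x₀ + x₁ + x₂ + x₃ * (1 - lam₀)), x₃ - (μ - 1) * x₁, fun z hz => ?_⟩
        rw [coe_mul, map_mul, Module.End.mul_apply, hx z hz, show σ (uG : X) = σ u from rfl, hu]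
        simp only [LinearMap.add_apply, LinearMap.smul_apply, Module.End.one_apply, map_add, map_smul, hB', hBA z hz,
          hBAB z hz]
        module
  obtain ⟨x₀, x₁, x₂, x₃, hx⟩ := hR s
  have e1 := (hΦ₀ s).1
  have e2 := (hΦ₀ s).2
  rw [show τ₀ s = σ s from rfl, hΦs] at e1 e2
  rw [hx w₁ (by rw [hc]; exact hwc1), hwB1, hwA1, map_add, map_smul, hwA1, hwA2] at e1
  rw [hx w₂ (by rw [hc]; exact hwc2), hwB2, hwA2, map_add, map_smul, map_smul, hwA1, hwA2] at e2
  simp at e1 e2
  obtain ⟨q1, q2⟩ := (LinearIndependent.pair_iff.mp hwli) (x₀ + x₁ + x₂ * (1 - lam₀) + x₃ * (1 - lam₀) + 1) x₂ (by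
    linear_combination (norm := module) e1)
  obtain ⟨q3, q4⟩ := (LinearIndependent.pair_iff.mp hwli) (x₂ * (lam₀ * (1 - lam₀)) + x₃ * (lam₀ * (1 - lam₀)))
    (x₀ + x₂ * lam₀ + 1) (by linear_combination (norm := module) e2)
  subst q2
  have hx3 : x₃ = 0 := by
    have : x₃ * (lam₀ * (1 - lam₀)) = 0 := by linear_combination q3
    exact (mul_eq_zero.mp this).resolve_right (mul_ne_zero h00 (sub_ne_zero.mpr (Ne.symm h01)))
  subst hx3
  have hx0 : x₀ = -1 := by linear_combination q4
  have hx1 : x₁ = 0 := by linear_combination q1 - hx0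
  subst hx0 hx1
  have hkill : ∀ z, c z = lam₀ • z → (σ (s : X) + 1) z = 0 := fun z hz => by
    rw [LinearMap.add_apply, Module.End.one_apply, hx z hz]; simp
  have hcs : Commute (c - lam₀ • 1) (σ (s : X) + 1) := by
    refine Commute.add_right ?_ (Commute.one_right _)
    exact Commute.sub_left (hcG s s.2).symm (Commute.smul_left (Commute.one_left _) _)
  have hnil : ∀ (m : ℕ) (z : V), ((c - lam₀ • 1 : Module.End (ZMod p) V) ^ m) z = 0 →
      ((σ (s : X) + 1 : Module.End (ZMod p) V) ^ m) z = 0 := by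
    intro m
    induction m with
    | zero => intro z hz; simpa using hz
    | succ m ih =>
      intro z hz
      rw [pow_succ, Module.End.mul_apply]
      refine ih _ ?_
      rw [← Module.End.mul_apply, (hcs.pow_left m).eq, Module.End.mul_apply]
      refine hkill _ ?_
      rw [pow_succ', Module.End.mul_apply, LinearMap.sub_apply, LinearMap.smul_apply, Module.End.one_apply,
        sub_eq_zero] at hz
      exact hz
  haveI : CharP (Module.End (ZMod p) V) p :=
    charP_of_injective_algebraMap (FaithfulSMul.algebraMap_injective (ZMod p) (Module.End (ZMod p) V)) p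
  have h0 : (σ (s : X) + 1) ^ p ^ d = 0 := LinearMap.ext fun z => by
    have h1 : ((σ (s : X) + 1) ^ d) z = 0 := hnil d z (by rw [hcn, LinearMap.zero_apply])
    rw [← Nat.sub_add_cancel (Nat.lt_pow_self (n := d) hpf.out.one_lt).le, pow_add, Module.End.mul_apply, h1,
      map_zero, LinearMap.zero_apply]
  rw [add_pow_char_pow_of_commute p d (Commute.one_right _), one_pow, ← map_pow] at h0
  exact O.neg _ (eq_neg_of_add_eq_zero_left h0)

end CfsgLib.MaxClassResidual
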