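import Cfsg.Agent.Lib.MaxClassResidual.Torus
import Cfsg.Agent.Lib.MaxClassResidual.TwoEigenFinal

/-!
An automorphism with two eigenvalues on the elements of order `p` of the centre of the two-step
centralizer normalises the inner automorphisms of the whole group.
-/

set_option autoImplicit false
set_option linter.unusedSectionVars false
set_option linter.style.haveILetI false
set_option maxHeartbeats 400000

namespace CfsgLib.MaxClassResidual

open scoped commutatorElement
open Subgroup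
open CfsgLib.PolySeq (fil fil_antitone fil_commutator_mem)
open MaxClassEssential (Vec vec lin)

/-- A subgroup of an elementary abelian group as a subspace. -/
def zsub {p : ℕ} [Fact p.Prime] {M : Type*} [Group M] [Finite M] [Fact (IsPGroup p M)] (N : Subgroup M) :
    Submodule (ZMod p) (Vec p M) where
  carrier := {v | ∃ a ∈ N, vec a = v}
  zero_mem' := ⟨1, one_mem N, MaxClassEssential.vec_one⟩
  add_mem' := by
    rintro _ _ ⟨a, ha, rfl⟩ ⟨b, hb, rfl⟩
    exact ⟨a * b, mul_mem ha hb, MaxClassEssential.vec_mul a b⟩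
  smul_mem' := by
    rintro c _ ⟨a, ha, rfl⟩
    refine ⟨a ^ c.val, pow_mem ha _, ?_⟩
    rw [MaxClassEssential.vec_pow, ← Nat.cast_smul_eq_nsmul (ZMod p), ZMod.natCast_zmod_val]

namespace Data

variable {p : ℕ} [hpf : Fact p.Prime] {S : Type*} [Group S] [Finite S] (D : Data p S)

/-- The elements of order dividing `p` of the centre of `T`. -/
def zoneS : Subgroup S where
  carrier := {e | e ∈ D.T ∧ e ^ p = 1 ∧ ∀ f ∈ D.T, e * f = f * e}
  one_mem' := ⟨one_mem _, one_pow p, fun f _ => by rw [one_mul, mul_one]⟩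
  mul_mem' := fun {a b} ha hb => ⟨mul_mem ha.1 hb.1, by
    rw [(show Commute a b from ha.2.2 b hb.1).mul_pow, ha.2.1, hb.2.1, one_mul],
    fun f hf => (Commute.mul_left (ha.2.2 f hf) (hb.2.2 f hf)).eq⟩
  inv_mem' := fun {a} ha => ⟨inv_mem ha.1, by rw [inv_pow, ha.2.1, inv_one],
    fun f hf => (show Commute a f from ha.2.2 f hf).inv_left.eq⟩

theorem zoneS_le : D.zoneS ≤ D.E := fun e he => D.hcen
  (mem_centralizer_iff.mpr fun f hf => (he.2.2 f (D.hET hf)).symm)

instance zoneS_normal : D.zoneS.Normal := ⟨fun e he g => by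
  have hT : D.T.Normal := inferInstance
  refine ⟨hT.conj_mem _ he.1 g, by rw [conj_pow, he.2.1, mul_one, mul_inv_cancel], fun f hf => ?_⟩
  have hc := he.2.2 (g⁻¹ * f * g) (by simpa using hT.conj_mem _ hf g⁻¹)
  calc g * e * g⁻¹ * f = g * (e * (g⁻¹ * f * g)) * g⁻¹ := by group
    _ = g * (g⁻¹ * f * g * e) * g⁻¹ := by rw [hc]
    _ = f * (g * e * g⁻¹) := by group⟩

theorem fil_last_le_zoneS : fil S (D.n - 2) ≤ D.zoneS := fun _ hu =>
  ⟨D.hET (D.fil_last_le hu), D.pow_last hu, fun _ hf => D.toFrame.fil_last_central hu hf⟩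

theorem exists_zone : ∃ z, D.i + 1 ≤ z ∧ z + 2 ≤ D.n ∧ D.zoneS = fil S z := by
  obtain ⟨z, h1, h2, h3⟩ := D.normal_le D.zoneS_le
  refine ⟨z, h1, ?_, h3⟩
  by_contra h
  have hle := card_le_of_le (h3 ▸ D.fil_last_le_zoneS : fil S (D.n - 2) ≤ fil S z)
  have := D.toFrame.h4
  have := D.two_le_i
  rw [D.toFrame.card_fil (by omega) (by omega), D.toFrame.card_fil (by omega) h2,
    Nat.pow_le_pow_iff_right hpf.out.one_lt] at hle
  omega

/-- The layer where the elements of order `p` of the centre of `T` begin. -/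
noncomputable def z : ℕ := D.exists_zone.choose

theorem i_lt_z : D.i + 1 ≤ D.z := D.exists_zone.choose_spec.1

theorem z_add_two : D.z + 2 ≤ D.n := D.exists_zone.choose_spec.2.1

theorem zoneS_eq : D.zoneS = fil S D.z := D.exists_zone.choose_spec.2.2

/-- The module. -/
abbrev Zone : Subgroup D.T := D.zoneS.subgroupOf D.T

instance fact_Zone : Fact (IsPGroup p D.Zone) := ⟨(D.toFrame.hS.to_subgroup D.T).to_subgroup _⟩

theorem zone_invariant (α : MulAut D.T) {u : D.T} (hu : (u : S) ∈ D.zoneS) : ((α u : D.T) : S) ∈ D.zoneS := by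
  refine ⟨(α u).2, ?_, fun f hf => ?_⟩
  · rw [← SubmonoidClass.coe_pow, ← map_pow, show u ^ p = 1 from Subtype.ext hu.2.1, map_one]; rfl
  · have h1 : u * α⁻¹ ⟨f, hf⟩ = α⁻¹ ⟨f, hf⟩ * u := Subtype.ext (hu.2.2 _ (α⁻¹ ⟨f, hf⟩).2)
    have := congrArg α h1
    rw [map_mul, map_mul, MulAut.apply_inv_self] at this
    exact congrArg Subtype.val this

theorem mem_stabW_Zone (α : MulAut D.T) : α ∈ stabW D.Zone :=
  mem_stabW_of_le fun _ hw => mem_subgroupOf.mpr (D.zone_invariant α (mem_subgroupOf.mp hw))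

/-- The action on the module. -/
def zRep : MulAut D.T →* Module.End (ZMod p) (Vec p D.Zone) :=
  (lin (p := p) (E := D.Zone)).comp
    ((resW D.Zone).comp ((MonoidHom.id (MulAut D.T)).codRestrict _ D.mem_stabW_Zone))

theorem zRep_vec (α : MulAut D.T) (m : D.Zone) :
    D.zRep α (vec m) = vec (⟨α (m : D.T), (D.mem_stabW_Zone α _).mpr m.2⟩ : D.Zone) := rfl

theorem zRep_sub_one (α : MulAut D.T) (m : D.Zone) : (D.zRep α - 1) (vec m) =
    vec ((⟨α (m : D.T), (D.mem_stabW_Zone α _).mpr m.2⟩ : D.Zone) * m⁻¹) := by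
  rw [LinearMap.sub_apply, Module.End.one_apply, zRep_vec, sub_eq_add_neg, ← MaxClassEssential.vec_inv,
    ← MaxClassEssential.vec_mul]

theorem vecZ_injective : Function.Injective (vec : D.Zone → Vec p D.Zone) := fun x y h => by
  rw [MaxClassEssential.vec_eq_vec] at h
  have := CfsgLib.RankFrattini.frattini_le_of_elementary (p := p) (fact_Zone D).out ⊥
    (fun u v => mem_bot.mpr (commutatorElement_eq_one_iff_mul_comm.mpr
      (Subtype.ext (Subtype.ext ((mem_subgroupOf.mp u.2).2.2 _ (mem_subgroupOf.mp v.2).1)))))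
    (fun u => mem_bot.mpr (Subtype.ext (Subtype.ext (mem_subgroupOf.mp u.2).2.1))) h
  exact mul_inv_eq_one.mp (mem_bot.mp this)

theorem zRep_eq_one {α : MulAut D.T} (h : D.zRep α = 1) {u : D.T} (hu : (u : S) ∈ D.zoneS) : α u = u := by
  have h1 := LinearMap.congr_fun h (vec (⟨u, mem_subgroupOf.mpr hu⟩ : D.Zone))
  rw [zRep_vec, Module.End.one_apply] at h1
  exact congrArg (fun m : D.Zone => (m : D.T)) (D.vecZ_injective h1)

theorem zRep_inn {t : S} (ht : t ∈ D.T) : D.zRep (D.cT t) = 1 := by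
  refine LinearMap.ext fun v => ?_
  obtain ⟨m, rfl⟩ := MaxClassEssential.vec_surjective v
  rw [zRep_vec, Module.End.one_apply]
  refine congrArg vec (Subtype.ext (Subtype.ext ?_))
  show ((D.cT t (m : D.T) : D.T) : S) = _
  rw [D.toFrame.coe_cT, ← (mem_subgroupOf.mp m.2).2.2 t ht, mul_inv_cancel_right]

instance finite_autT : Finite (MulAut D.T) :=
  Finite.of_injective (fun f => (f : D.T → D.T)) DFunLike.coe_injective

/-- The linear group. -/
def zHom : D.H →* (Module.End (ZMod p) (Vec p D.Zone))ˣ := (D.zRep.comp D.H.subtype).toHomUnits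

/-- The representation of the linear group. -/
def zS : D.zHom.range →* Module.End (ZMod p) (Vec p D.Zone) := (Units.coeHom _).comp D.zHom.range.subtype

theorem zS_apply (h : D.H) : D.zS (D.zHom.rangeRestrict h) = D.zRep (h : MulAut D.T) := rfl

instance finite_zRange : Finite D.zHom.range := Finite.of_surjective _ D.zHom.rangeRestrict_surjective

theorem isPGroup_ker : IsPGroup p D.zHom.ker := by
  intro ⟨h, hh⟩
  obtain ⟨a, r, hr, hord⟩ := Nat.exists_eq_pow_mul_and_not_dvd (orderOf_pos (h : MulAut D.T)).ne' p hpf.out.ne_one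
  have h1 : (h : MulAut D.T) ^ p ^ a = 1 := by
    refine D.toHData.eq_one_of_fix (pow_mem h.2 _) ?_ fun u hu => D.zRep_eq_one ?_ (D.fil_last_le_zoneS hu)
    · rw [orderOf_pow' _ (pow_ne_zero a hpf.out.ne_zero), hord, Nat.gcd_mul_right_left,
        Nat.mul_div_cancel_left r (pow_pos hpf.out.pos a)]
      exact (hpf.out.coprime_iff_not_dvd.mpr hr).symm
    · rw [map_pow, show D.zRep (h : MulAut D.T) = 1 from congrArg Units.val hh, one_pow]
  exact ⟨a, Subtype.ext (Subtype.ext h1)⟩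

/-- The Sylow subgroup. -/
noncomputable def PS : Sylow p D.H :=
  (show IsPGroup p (D.cT.range.subgroupOf D.H) from
    D.toHData.isPGroup_range.comap_of_injective _ D.H.subtype_injective).toSylow D.hSyl

theorem exists_of_ker {h : D.H} (hh : D.zHom h = 1) : ∃ g : S, (h : MulAut D.T) = D.cT g := by
  obtain ⟨R, hR⟩ := D.isPGroup_ker.exists_le_sylow
  obtain ⟨k, hk⟩ := MulAction.exists_smul_eq D.H R D.PS
  have h1 : h ∈ (D.PS : Subgroup D.H) := by
    rw [← hk, Sylow.smul_def]
    exact ⟨k⁻¹ * h * k, hR ((MonoidHom.normal_ker D.zHom).conj_mem h hh k⁻¹ |> fun h' => by simpa using h'),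
      by simp [mul_assoc]⟩
  obtain ⟨g, hg⟩ := mem_subgroupOf.mp h1
  exact ⟨g, hg.symm⟩

/-- The image of an element outside `T`. -/
def xbar (x : S) : D.zHom.range := D.zHom.rangeRestrict ⟨D.cT x, D.hSH x⟩

theorem xbar_pow (x : S) (a : ℕ) : D.xbar x ^ a = D.xbar (x ^ a) := by
  rw [xbar, xbar, ← map_pow]
  exact congrArg _ (Subtype.ext (map_pow _ _ _).symm)

theorem sub_one_vec_x (x : S) (m : D.Zone) : ∃ m' : D.Zone, ((m' : D.T) : S) = ⁅((m : D.T) : S), x⁆⁻¹ ∧
    (vec m' : Vec p D.Zone) = (D.zS (D.xbar x) - 1) (vec m) := by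
  refine ⟨_, ?_, (D.zRep_sub_one (D.cT x) m).symm⟩
  rw [Subgroup.coe_mul, Subgroup.coe_mul, Subgroup.coe_inv, Subgroup.coe_inv, D.toFrame.coe_cT,
    commutatorElement_def]
  group

theorem xbar_ne_one {x : S} (hx : x ∉ D.T) : D.xbar x ≠ 1 := by
  intro h
  have h2 := D.two_le_i; have := D.i_lt_z; have := D.z_add_two
  obtain ⟨u, hu, hu'⟩ := D.toFrame.exists_exact (k := D.z) (by omega) (by omega)
  have huz : u ∈ D.zoneS := by rw [D.zoneS_eq]; exact D.toFrame.Tf_le_fil hu
  obtain ⟨m', hm', he⟩ := D.sub_one_vec_x x ⟨⟨u, huz.1⟩, mem_subgroupOf.mpr huz⟩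
  rw [h, map_one, sub_self, LinearMap.zero_apply, ← MaxClassEssential.vec_one] at he
  rw [D.vecZ_injective he, OneMemClass.coe_one, OneMemClass.coe_one, eq_comm, inv_eq_one] at hm'
  exact D.toFrame.comm_exact hx (k := D.z) (by omega) (by omega) hu hu' (by rw [hm']; exact one_mem _)

theorem pow_mem_T {x : S} (hx : x ∉ D.T) {g : S} (h : D.zHom.rangeRestrict ⟨D.cT g, D.hSH g⟩ = 1) : g ∈ D.T := by
  obtain ⟨a, ha⟩ := CfsgLib.MaxClassDegree.pow_mem_of_not_mem D.toFrame.hn3 D.toFrame.hG D.toFrame.hc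
    D.toFrame.T_index hx g
  have h1 : D.xbar (x ^ a) = 1 := by
    rw [← h]
    refine Subtype.ext (Units.ext ?_)
    show D.zRep (D.cT (x ^ a)) = D.zRep (D.cT g)
    conv_rhs => rw [show g = x ^ a * ((x ^ a)⁻¹ * g) by rw [mul_inv_cancel_left], map_mul, map_mul, D.zRep_inn ha,
      mul_one]
  rw [← xbar_pow] at h1
  have hxp : x ^ p ∈ D.T := by
    have h := D.T.pow_index_mem x
    rwa [D.toFrame.T_index] at h
  have hdvd : p ∣ a := by
    by_contra hd
    refine D.xbar_ne_one hx (orderOf_eq_one_iff.mp (Nat.eq_one_of_dvd_coprimes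
      ((hpf.out.coprime_iff_not_dvd.mpr hd).symm) (orderOf_dvd_of_pow_eq_one h1) (orderOf_dvd_of_pow_eq_one ?_)))
    rw [xbar_pow]
    exact Subtype.ext (Units.ext (D.zRep_inn hxp))
  obtain ⟨c, rfl⟩ := hdvd
  have hxa : x ^ (p * c) ∈ D.T := by rw [pow_mul]; exact pow_mem hxp c
  simpa using mul_mem hxa ha

/-- Commutation modulo the kernel. -/
theorem exists_shift {x : S} (hx : x ∉ D.T) {h : D.H} {g : S}
    (e : D.zHom.rangeRestrict h * D.xbar x * (D.zHom.rangeRestrict h)⁻¹ = D.xbar g) :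
    ∃ t ∈ D.T, (h : MulAut D.T) * D.cT x * (h : MulAut D.T)⁻¹ = D.cT (g * t) := by
  set k : D.H := (⟨D.cT g, D.hSH g⟩ : D.H)⁻¹ * (h * ⟨D.cT x, D.hSH x⟩ * h⁻¹) with hk
  have hk1 : D.zHom.rangeRestrict k = 1 := by
    rw [hk, map_mul, map_mul, map_mul, map_inv, map_inv]
    show (D.xbar g)⁻¹ * _ = 1
    rw [show D.zHom.rangeRestrict h * D.zHom.rangeRestrict ⟨D.cT x, D.hSH x⟩ * (D.zHom.rangeRestrict h)⁻¹ = D.xbar g
      from e, inv_mul_cancel]
  obtain ⟨t, ht⟩ := D.exists_of_ker (congrArg Subtype.val hk1 :)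
  refine ⟨t, D.pow_mem_T hx ?_, ?_⟩
  · rw [← hk1]; exact congrArg _ (Subtype.ext ht.symm)
  · rw [map_mul, ← ht, hk]
    simp

theorem oneBlock {x : S} (hx : x ∉ D.T) : OneBlock D.zS (D.xbar x) (D.n - D.z) := by
  classical
  have h2 := D.two_le_i; have h3 := D.i_lt_z; have h4 := D.z_add_two; have hp5 := D.hp; have h6 := D.n_lt_i_add
  have hstep : ∀ (j : ℕ) (m : D.Zone), ∃ m' : D.Zone, ((m' : D.T) : S) ∈ fil S (D.z + j) ∧
      (D.z + j < D.n → ((m : D.T) : S) ∉ fil S (D.z + 1) → ((m' : D.T) : S) ∉ fil S (D.z + j + 1)) ∧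
      ((D.zS (D.xbar x) - 1) ^ j) (vec m) = vec m' := by
    intro j m
    induction j with
    | zero =>
      refine ⟨m, ?_, fun _ h => h, by simp⟩
      have := mem_subgroupOf.mp m.2
      rwa [D.zoneS_eq] at this
    | succ j ih =>
      obtain ⟨m₁, hm₁, hex, he⟩ := ih
      obtain ⟨m₂, hm₂, he₂⟩ := D.sub_one_vec_x x m₁
      refine ⟨m₂, ?_, fun hj hm h => ?_, by rw [pow_succ', Module.End.mul_apply, he, he₂]⟩
      · rw [hm₂, ← add_assoc]
        exact inv_mem (Frame.comm_mem_succ (D := D.toFrame) (by omega) (by rwa [D.toFrame.Tf_of_two (by omega)]) x)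
      · rw [hm₂, inv_mem_iff] at h
        refine D.toFrame.comm_exact hx (k := D.z + j) (by omega) (by omega) ?_ ?_ h
        · rwa [D.toFrame.Tf_of_two (by omega)]
        · rw [D.toFrame.Tf_of_two (by omega)]; exact hex (by omega) hm
  have hnil : (D.zS (D.xbar x) - 1) ^ (D.n - D.z) = 0 := LinearMap.ext fun v => by
    obtain ⟨m, rfl⟩ := MaxClassEssential.vec_surjective v
    obtain ⟨m', hm', -, he⟩ := hstep (D.n - D.z) m
    rw [he, LinearMap.zero_apply, ← MaxClassEssential.vec_one]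
    exact congrArg vec (Subtype.ext (Subtype.ext (D.toFrame.eq_one_of_fil (by omega) hm')))
  refine ⟨hp5, fun a b h => Subtype.ext (Units.ext h), by omega, by omega, hnil, ?_, ?_, ?_, ?_⟩
  · haveI : Module.Finite (ZMod p) (Vec p D.Zone) := Module.Finite.of_finite
    have h1 : Nat.card (Vec p D.Zone) = p ^ (D.n - D.z) := by
      rw [← Nat.card_congr (Equiv.ofBijective _ ⟨D.vecZ_injective, MaxClassEssential.vec_surjective⟩),
        Nat.card_congr (subgroupOfEquivOfLe (D.zoneS_le.trans D.hET)).toEquiv, D.zoneS_eq,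
        D.toFrame.card_fil (by omega) (by omega)]
    rw [Module.natCard_eq_pow_finrank (K := ZMod p), Nat.card_zmod] at h1
    exact Nat.pow_right_injective hpf.out.two_le h1
  · obtain ⟨u, hu, hu'⟩ := D.toFrame.exists_exact (k := D.z) (by omega) (by omega)
    have huz : u ∈ D.zoneS := by rw [D.zoneS_eq]; exact D.toFrame.Tf_le_fil hu
    obtain ⟨m', -, hex, he⟩ := hstep (D.n - D.z - 1) ⟨⟨u, huz.1⟩, mem_subgroupOf.mpr huz⟩
    refine ⟨vec (⟨⟨u, huz.1⟩, mem_subgroupOf.mpr huz⟩ : D.Zone), fun h0 => ?_⟩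
    rw [he, ← MaxClassEssential.vec_one] at h0
    refine hex (by omega) (fun h => hu' (by rwa [D.toFrame.Tf_of_two (by omega)])) ?_
    rw [D.vecZ_injective h0]; exact one_mem _
  · intro Q hQ
    obtain ⟨R, hR⟩ := hQ.exists_le_sylow
    obtain ⟨k, hk⟩ := MulAction.exists_smul_eq D.zHom.range (D.PS.mapSurjective D.zHom.rangeRestrict_surjective) R
    refine ⟨k, hR.trans ?_⟩
    rw [← hk, Sylow.coe_subgroup_smul, Sylow.coe_mapSurjective, Subgroup.pointwise_smul_def]
    refine map_mono ?_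
    rintro _ ⟨h, hh, rfl⟩
    obtain ⟨g, hg⟩ := mem_subgroupOf.mp hh
    obtain ⟨a, ha⟩ := CfsgLib.MaxClassDegree.pow_mem_of_not_mem D.toFrame.hn3 D.toFrame.hG D.toFrame.hc
      D.toFrame.T_index hx g
    refine ⟨(a : ℤ), ?_⟩
    show D.xbar x ^ (a : ℤ) = _
    rw [zpow_natCast, xbar_pow]
    refine Subtype.ext (Units.ext ?_)
    show D.zRep (D.cT (x ^ a)) = D.zRep (h : MulAut D.T)
    rw [← hg]
    conv_rhs => rw [show g = x ^ a * ((x ^ a)⁻¹ * g) by rw [mul_inv_cancel_left], map_mul, map_mul, D.zRep_inn ha,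
      mul_one]
  · intro s hs
    obtain ⟨h, rfl⟩ := D.zHom.rangeRestrict_surjective s
    obtain ⟨a, r, hr, hord⟩ := Nat.exists_eq_pow_mul_and_not_dvd (orderOf_pos (h : MulAut D.T)).ne' p hpf.out.ne_one
    set h' : D.H := h ^ p ^ a with hh'
    have hodd : Odd (p ^ a) := (hpf.out.odd_of_ne_two (by omega)).pow
    have hs' : D.zS (D.zHom.rangeRestrict h') = -1 := by
      rw [hh', map_pow, map_pow, hs, hodd.neg_one_pow]
    obtain ⟨t, ht, e⟩ := D.exists_shift hx (h := h') (g := x) (by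
      have hcom : D.zHom.rangeRestrict h' * D.xbar x = D.xbar x * D.zHom.rangeRestrict h' :=
        Subtype.ext (Units.ext (show D.zS _ * D.zS (D.xbar x) = D.zS (D.xbar x) * D.zS _ by rw [hs']; simp))
      rw [hcom, mul_inv_cancel_right])
    have h1 : (h' : MulAut D.T) = 1 := D.toFrame.eq_one_of_centralize D.T_nonabelian (by
      rw [hh', Subgroup.coe_pow, orderOf_pow' _ (pow_ne_zero a hpf.out.ne_zero), hord, Nat.gcd_mul_right_left,
        Nat.mul_div_cancel_left r (pow_pos hpf.out.pos a)]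
      exact (hpf.out.coprime_iff_not_dvd.mpr hr).symm) hx ht e
    rw [show h' = 1 from Subtype.ext h1, map_one, map_one, eq_comm, neg_eq_iff_add_eq_zero] at hs'
    obtain ⟨u, hu, hu'⟩ := D.toFrame.exists_exact (k := D.z) (by omega) (by omega)
    have huz : u ∈ D.zoneS := by rw [D.zoneS_eq]; exact D.toFrame.Tf_le_fil hu
    set m : D.Zone := ⟨⟨u, huz.1⟩, mem_subgroupOf.mpr huz⟩
    have h2' := LinearMap.congr_fun hs' (vec m)
    rw [LinearMap.add_apply, Module.End.one_apply, LinearMap.zero_apply, ← MaxClassEssential.vec_mul,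
      ← MaxClassEssential.vec_one] at h2'
    have h3' : u * u = 1 := congrArg (fun m : D.Zone => ((m : D.T) : S)) (D.vecZ_injective h2')
    have hu1 : u = 1 := by
      rw [← orderOf_eq_one_iff]
      exact Nat.eq_one_of_dvd_coprimes ((Nat.coprime_primes Nat.prime_two hpf.out).mpr (by omega))
        (orderOf_dvd_of_pow_eq_one (by rw [pow_two]; exact h3')) (orderOf_dvd_of_pow_eq_one huz.2.1)
    exact hu' (hu1 ▸ one_mem _)

theorem finrank_zsub {R : Subgroup D.T} {e : ℕ} (hR : R ≤ D.Zone) (hcard : Nat.card R = p ^ e) :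
    Module.finrank (ZMod p) (zsub (p := p) (R.subgroupOf D.Zone)) = e := by
  have h1 : Nat.card (zsub (p := p) (R.subgroupOf D.Zone)) = p ^ e := by
    rw [← hcard, ← Nat.card_congr (subgroupOfEquivOfLe hR).toEquiv]
    refine (Nat.card_congr (Equiv.ofBijective
      (fun a : R.subgroupOf D.Zone => (⟨vec (a : D.Zone), a, a.2, rfl⟩ : zsub (p := p) (R.subgroupOf D.Zone)))
      ⟨fun a b h => Subtype.ext (D.vecZ_injective (congrArg Subtype.val h)), fun ⟨v, a, ha, e⟩ =>
        ⟨⟨a, ha⟩, Subtype.ext e⟩⟩)).symm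
  haveI : Module.Finite (ZMod p) (zsub (p := p) (R.subgroupOf D.Zone)) := Module.Finite.of_finite
  rw [Module.natCard_eq_pow_finrank (K := ZMod p), Nat.card_zmod] at h1
  exact Nat.pow_right_injective hpf.out.two_le h1

/-- Two eigenvalues on the elements of order `p` of the centre force normalisation. -/
theorem normS_of_two_eigen {μ : ZMod p} (hμ : orderOf μ = p - 1) {α : MulAut D.T} (hα : α ∈ D.H)
    (h : ∀ u : D.T, (u : S) ∈ D.zoneS → α (α u * u⁻¹) = (α u * u⁻¹) ^ μ.val) : D.NormS α := by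
  classical
  have h2 := D.two_le_i; have h3 := D.i_lt_z; have h4 := D.z_add_two; have hp5 := D.hp; have h6 := D.n_lt_i_add
  obtain ⟨x, hx⟩ := D.toFrame.exists_not_mem
  have O := D.oneBlock hx
  set t : D.zHom.range := D.zHom.rangeRestrict ⟨α, hα⟩ with ht
  suffices hn : ∃ a : ℕ, t * D.xbar x * t⁻¹ = D.xbar x ^ a by
    obtain ⟨a, ha⟩ := hn
    rw [xbar_pow] at ha
    obtain ⟨s, -, e⟩ := D.exists_shift hx (h := ⟨α, hα⟩) ha
    exact D.toFrame.normS_of hx e
  have hzne : ∀ k, D.z ≤ k → k + 1 < D.n → ∀ u ∈ fil S k, u ∉ fil S (k + 1) →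
      ⁅u, x⁆⁻¹ ∉ fil S (k + 2) := fun k hk hk' u hu hu' hm => by
    rw [inv_mem_iff] at hm
    exact D.toFrame.comm_exact hx (k := k) (by omega) hk' (by rwa [D.toFrame.Tf_of_two (by omega)])
      (by rwa [D.toFrame.Tf_of_two (by omega)]) hm
  by_cases hd2 : D.n - D.z = 2
  · exact O.section_two (W := Vec p D.Zone) (O.dim.trans hd2) D.zS (fun g ε hg => hg)
      (fun h => D.xbar_ne_one hx (Subtype.ext (Units.ext h))) t
  by_cases h7 : 7 ≤ p
  · set A : Module.End (ZMod p) (Vec p D.Zone) := (μ - 1)⁻¹ • (D.zS t - 1) with hA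
    have hμ1 : μ - 1 ≠ 0 := sub_ne_zero.mpr fun h => by rw [h, orderOf_one] at hμ; omega
    have hrel : D.zS t * (D.zS t - 1) = μ • (D.zS t - 1) := by
      refine LinearMap.ext fun v => ?_
      obtain ⟨m, rfl⟩ := MaxClassEssential.vec_surjective v
      show D.zRep α ((D.zRep α - 1) (vec m)) = μ • (D.zRep α - 1) (vec m)
      rw [zRep_sub_one, zRep_vec]
      generalize hq : ((⟨α (m : D.T), (D.mem_stabW_Zone α _).mpr m.2⟩ : D.Zone) * m⁻¹) = q
      rw [← ZMod.natCast_zmod_val μ, Nat.cast_smul_eq_nsmul, ← MaxClassEssential.vec_pow]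
      refine congrArg vec (Subtype.ext ?_)
      show α (q : D.T) = (q : D.T) ^ μ.val
      rw [← hq]
      exact h (m : D.T) (mem_subgroupOf.mp m.2)
    have hA2 : A * A = A := by
      have h1 : (D.zS t - 1) * (D.zS t - 1) = (μ - 1) • (D.zS t - 1) := by
        rw [sub_mul, one_mul, hrel, sub_smul, one_smul]
      rw [hA, smul_mul_smul_comm, h1, smul_smul, mul_assoc, inv_mul_cancel₀ hμ1, mul_one]
    exact O.normalises h7 (by omega) hA2 hμ (by rw [hA, smul_smul, mul_inv_cancel₀ hμ1, one_smul, add_sub_cancel])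
  -- the smallest case
  have hp' : p = 5 := by
    rcases Nat.lt_or_ge p 7 with h | h
    · interval_cases p
      · rfl
      · exact absurd hpf.out (by norm_num)
    · omega
  have hn6 : D.n = 6 := by
    rcases Nat.lt_or_ge D.n 7 with h | h
    · omega
    · have := D.window (by omega); omega
  have hz : D.z = 3 := by omega
  -- the derived subgroup of `T`
  set R : Subgroup S := ⁅D.T, D.T⁆ with hR
  have hRle : R ≤ fil S 4 := by
    obtain ⟨s, hs, hs'⟩ := D.toFrame.exists_exact (k := 1) le_rfl (by omega)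
    set q := QuotientGroup.mk' (fil S 4)
    have h0 : ∀ {z : S}, z ∈ fil S 4 → q z = 1 := fun hz => (QuotientGroup.eq_one_iff _).mpr hz
    have hcom : ∀ {a b : S}, ⁅a, b⁆ ∈ fil S 4 → q a * q b = q b * q a := fun {a b} hab => by
      rw [← commutatorElement_eq_one_iff_mul_comm, ← map_commutatorElement]
      exact h0 hab
    have hsy : ∀ y ∈ D.toFrame.Tf 2, ∀ j k : ℕ, 1 ≤ j → 3 ≤ j + k → ∀ v ∈ D.toFrame.Tf j, 2 ≤ k →
        q v * q y = q y * q v := fun y hy j k hj _ v hv _ =>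
      hcom (fil_antitone (by omega) (D.toFrame.comm_Tf j 2 hj (by omega) v hv y hy))
    rw [hR, commutator_le]
    intro u hu v hv
    obtain ⟨a, ha⟩ := D.toFrame.layer_pow le_rfl (by omega) hs hs' (show u ∈ D.toFrame.Tf 1 by rwa [D.toFrame.Tf_of_le le_rfl])
    obtain ⟨b, hb⟩ := D.toFrame.layer_pow le_rfl (by omega) hs hs' (show v ∈ D.toFrame.Tf 1 by rwa [D.toFrame.Tf_of_le le_rfl])
    refine (QuotientGroup.eq_one_iff _).mp ?_
    show q _ = 1
    rw [map_commutatorElement, commutatorElement_eq_one_iff_mul_comm,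
      show u = s ^ a * ((s ^ a)⁻¹ * u) by rw [mul_inv_cancel_left], show v = s ^ b * ((s ^ b)⁻¹ * v) by rw [mul_inv_cancel_left],
      map_mul q (s ^ a), map_mul q (s ^ b)]
    generalize hy : (s ^ a)⁻¹ * u = y at ha
    generalize hy' : (s ^ b)⁻¹ * v = y' at hb
    have c1 : Commute (q y) (q y') :=
      (hsy y' hb 2 2 (by omega) (by omega) y ha le_rfl)
    have c2 : ∀ j : ℕ, Commute (q (s ^ j)) (q y') := fun j =>
      hsy y' hb 1 2 le_rfl (by omega) _ (pow_mem hs j) le_rfl
    have c3 : ∀ j : ℕ, Commute (q (s ^ j)) (q y) := fun j =>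
      hsy y ha 1 2 le_rfl (by omega) _ (pow_mem hs j) le_rfl
    have c4 : Commute (q (s ^ a)) (q (s ^ b)) := ((Commute.refl s).pow_pow a b).map q
    exact (Commute.mul_left (c4.mul_right (c2 a)) ((c3 b).symm.mul_right c1)).eq
  haveI : R.Normal := Subgroup.commutator_normal D.T D.T
  have hRne : R ≠ ⊥ := fun h => D.T_nonabelian fun a ha b hb =>
    commutatorElement_eq_one_iff_mul_comm.mp (mem_bot.mp (h ▸ commutator_mem_commutator ha hb))
  obtain ⟨r, hr1, hr2, hRr⟩ := D.toFrame.normal_le_T (hRle.trans (fun u hu => D.toFrame.fil_two_le (fil_antitone (by omega) hu)))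
  have hr45 : r = 4 ∨ r = 5 := by
    have hcr := D.toFrame.card_Tf hr1 hr2
    rw [← hRr] at hcr
    have h4' := card_le_of_le hRle
    rw [hcr, D.toFrame.card_fil (by omega) (by omega), Nat.pow_le_pow_iff_right hpf.out.one_lt] at h4'
    rcases Nat.lt_or_ge r 6 with h | h
    · omega
    · exact absurd (by rw [hRr, D.toFrame.Tf_bot (by omega)]) hRne
  have hRf : R = fil S r := by rw [hRr, D.toFrame.Tf_of_two (by omega)]
  set R' : Subgroup D.T := R.subgroupOf D.T with hR'
  have hR'Z : R' ≤ D.Zone := fun u hu => mem_subgroupOf.mpr (by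
    rw [D.zoneS_eq]
    exact fil_antitone (by omega) (hRle (mem_subgroupOf.mp hu)))
  have hRT : R ≤ D.T := fun u hu => D.toFrame.fil_two_le (fil_antitone (by omega) (hRle hu))
  have hR'c : R' = ⁅(⊤ : Subgroup D.T), ⊤⁆ := by
    apply map_injective D.T.subtype_injective
    rw [hR', map_subgroupOf_eq_of_le hRT, map_commutator, ← MonoidHom.range_eq_map, Subgroup.range_subtype]
  set W₀ := zsub (p := p) (R'.subgroupOf D.Zone) with hW₀
  have hinv : ∀ g : D.zHom.range, ∀ v ∈ W₀, D.zS g v ∈ W₀ := by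
    intro g v hv
    obtain ⟨k, rfl⟩ := D.zHom.rangeRestrict_surjective g
    obtain ⟨a, ha, rfl⟩ := hv
    refine ⟨_, ?_, (D.zRep_vec _ a).symm⟩
    have ha' : (a : D.T) ∈ ⁅(⊤ : Subgroup D.T), ⊤⁆ := hR'c ▸ mem_subgroupOf.mp ha
    refine mem_subgroupOf.mpr (hR'c ▸ ?_)
    have h5 := mem_map_of_mem (k : MulAut D.T).toMonoidHom ha'
    rwa [map_commutator, map_top_of_surjective _ (MulEquiv.surjective _)] at h5
  have hW₀r : Module.finrank (ZMod p) W₀ = 6 - r := D.finrank_zsub hR'Z (by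
    rw [Nat.card_congr (subgroupOfEquivOfLe hRT).toEquiv, hRf, D.toFrame.card_fil (by omega) (by omega), hn6])
  have hexact : ∀ k, D.z ≤ k → k + 1 < D.n → ∃ m m' : D.Zone, ((m : D.T) : S) ∈ fil S k ∧
      (vec m' : Vec p D.Zone) = (D.zS (D.xbar x) - 1) (vec m) ∧ ((m' : D.T) : S) ∉ fil S (k + 2) := by
    intro k hk hk'
    obtain ⟨u, hu, hu'⟩ := D.toFrame.exists_exact (k := k) (by omega) (by omega)
    rw [D.toFrame.Tf_of_two (by omega)] at hu hu'
    have huz : u ∈ D.zoneS := by rw [D.zoneS_eq]; exact fil_antitone hk hu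
    obtain ⟨m', hm', he⟩ := D.sub_one_vec_x x ⟨⟨u, huz.1⟩, mem_subgroupOf.mpr huz⟩
    exact ⟨_, m', hu, he, by rw [hm']; exact hzne k hk hk' u hu hu'⟩
  rcases hr45 with rfl | rfl
  · -- a two-dimensional submodule
    let ψ : D.zHom.range →* Module.End (ZMod p) W₀ :=
      { toFun := fun g => (D.zS g).restrict (hinv g)
        map_one' := LinearMap.ext fun v => Subtype.ext (by simp)
        map_mul' := fun a b => LinearMap.ext fun v => Subtype.ext (by simp) }
    refine O.section_two (W := W₀) hW₀r ψ (fun g ε hg => LinearMap.ext fun v => Subtype.ext ?_) (fun hψ => ?_) t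
    · show D.zS g v = _
      rw [hg]; rfl
    · obtain ⟨m, m', hm, he, hm'⟩ := hexact 4 (by omega) (by omega)
      have h1 : D.zS (D.xbar x) (vec m) = vec m := congrArg Subtype.val (LinearMap.congr_fun hψ
        ⟨vec m, m, mem_subgroupOf.mpr (mem_subgroupOf.mpr (by rw [hRf]; exact hm)), rfl⟩)
      rw [LinearMap.sub_apply, h1, Module.End.one_apply, sub_self, ← MaxClassEssential.vec_one] at he
      rw [D.vecZ_injective he] at hm'
      exact hm' (one_mem _)
  · -- a two-dimensional quotient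
    let ψ : D.zHom.range →* Module.End (ZMod p) (Vec p D.Zone ⧸ W₀) :=
      { toFun := fun g => W₀.mapQ W₀ (D.zS g) fun v hv => hinv g v hv
        map_one' := LinearMap.ext fun v => by
          obtain ⟨v, rfl⟩ := Submodule.Quotient.mk_surjective W₀ v
          simp
        map_mul' := fun a b => LinearMap.ext fun v => by
          obtain ⟨v, rfl⟩ := Submodule.Quotient.mk_surjective W₀ v
          simp }
    haveI : Module.Finite (ZMod p) (Vec p D.Zone) := Module.Finite.of_finite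
    refine O.section_two (W := Vec p D.Zone ⧸ W₀) ?_ ψ (fun g ε hg => LinearMap.ext fun v => ?_) (fun hψ => ?_) t
    · have h1 := W₀.finrank_quotient_add_finrank
      rw [hW₀r, O.dim] at h1
      omega
    · obtain ⟨v, rfl⟩ := Submodule.Quotient.mk_surjective W₀ v
      show Submodule.Quotient.mk (D.zS g v) = _
      rw [hg]; rfl
    · obtain ⟨m, m', hm, he, hm'⟩ := hexact 3 (by omega) (by omega)
      have h1 : (Submodule.Quotient.mk (D.zS (D.xbar x) (vec m)) : Vec p D.Zone ⧸ W₀) = Submodule.Quotient.mk (vec m) :=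
        LinearMap.congr_fun hψ (Submodule.Quotient.mk (vec m))
      rw [Submodule.Quotient.eq] at h1
      obtain ⟨a, ha, hae⟩ := h1
      rw [show D.zS (D.xbar x) (vec m) - vec m = (D.zS (D.xbar x) - 1) (vec m) by
        rw [LinearMap.sub_apply, Module.End.one_apply], ← he] at hae
      rw [← D.vecZ_injective hae] at hm'
      exact hm' (hRf ▸ mem_subgroupOf.mp (mem_subgroupOf.mp ha))

end Data

end CfsgLib.MaxClassResidual
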