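import Cfsg.Agent.Lib.MaxClassResidual.Tools
import Cfsg.Agent.Lib.CentralizeOmega
import Cfsg.Agent.Lib.MaxClassEssential.Action
import Mathlib.GroupTheory.SemidirectProduct

/-!
The subgroup generated by the elements of order `p`, and automorphisms fixing it.
-/

set_option autoImplicit false
set_option linter.unusedSectionVars false
set_option linter.style.haveILetI false

namespace CfsgLib.MaxClassResidual

open Subgroup

variable (p : ℕ) [hp : Fact p.Prime] (X : Type*) [Group X]

/-- The subgroup generated by the elements of order `p`. -/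
def omegaOne : Subgroup X := closure {u : X | u ^ p = 1}

theorem omegaOne_mem_stabW (α : MulAut X) : α ∈ stabW (omegaOne p X) := by
  have key : ∀ β : MulAut X, ∀ w ∈ omegaOne p X, β w ∈ omegaOne p X := by
    intro β w hw
    have h : omegaOne p X ≤ (omegaOne p X).comap β.toMonoidHom := by
      rw [omegaOne, closure_le]
      intro u hu
      refine subset_closure ?_
      show (β u) ^ p = 1
      rw [← map_pow, (hu : u ^ p = 1), map_one]
    exact h hw
  intro w
  refine ⟨fun h => ?_, key α w⟩
  have := key α⁻¹ _ h
  rwa [MulAut.inv_apply_self] at this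

/-- Restriction to the subgroup generated by the elements of order `p`. -/
def resO : MulAut X →* MulAut (omegaOne p X) :=
  (resW (omegaOne p X)).comp ((MonoidHom.id (MulAut X)).codRestrict _ (omegaOne_mem_stabW p X))

theorem resO_coe (α : MulAut X) (u : omegaOne p X) : ((resO p X α u : omegaOne p X) : X) = α u := rfl

variable {p X}

/-- For `p` odd, an automorphism of order prime to `p` fixing the elements of order `p` is trivial. -/
theorem aut_eq_one_of_fix_omega [Finite X] (hp2 : p ≠ 2) (hX : IsPGroup p X) {α : MulAut X}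
    (hα : (orderOf α).Coprime p) (h : ∀ u : X, u ^ p = 1 → α u = u) : α = 1 := by
  set G := X ⋊[MonoidHom.id (MulAut X)] MulAut X
  haveI : Finite (MulAut X) := Finite.of_injective (fun f => (f : X → X)) DFunLike.coe_injective
  haveI : Finite G := Finite.of_equiv _ SemidirectProduct.equivProd.symm
  set g : G := SemidirectProduct.inr α
  set Q : Subgroup G := (SemidirectProduct.inl : X →* G).range
  have hQ : IsPGroup p Q := by
    rintro ⟨_, u, rfl⟩
    obtain ⟨k, hk⟩ := hX u
    exact ⟨k, Subtype.ext (by rw [SubmonoidClass.coe_pow, OneMemClass.coe_one, ← map_pow, hk, map_one])⟩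
  have hc : ∀ u : X, g * SemidirectProduct.inl u * g⁻¹ = SemidirectProduct.inl (α u) := fun u => by
    show SemidirectProduct.inr α * SemidirectProduct.inl u * (SemidirectProduct.inr α)⁻¹ = _
    rw [← map_inv]
    exact (SemidirectProduct.inl_aut (φ := MonoidHom.id (MulAut X)) α u).symm
  have hgQ : g ∈ normalizer (Q : Set G) := by
    refine mem_normalizer_iff.mpr fun y => ⟨?_, ?_⟩
    · rintro ⟨u, rfl⟩; exact ⟨α u, (hc u).symm⟩
    · rintro ⟨v, hv⟩
      refine ⟨α⁻¹ v, ?_⟩
      have := hc (α⁻¹ v)
      rw [MulAut.apply_inv_self, hv] at this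
      exact mul_left_cancel (mul_right_cancel this)
  have ho : (orderOf g).Coprime p := by
    rw [orderOf_injective (SemidirectProduct.inr : MulAut X →* G) SemidirectProduct.inr_injective α]
    exact hα
  have hfix := CfsgLib.centralizes_of_fixes_order_p hp2 g ho Q hQ hgQ (by
    rintro _ ⟨u, rfl⟩ hu
    rw [← map_pow, ← map_one (SemidirectProduct.inl : X →* G)] at hu
    rw [hc, h u (SemidirectProduct.inl_injective hu)])
  refine MulEquiv.ext fun u => SemidirectProduct.inl_injective (φ := MonoidHom.id (MulAut X)) ?_
  rw [← hc]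
  exact hfix _ ⟨u, rfl⟩

open MaxClassEssential in
/-- An automorphism of order prime to `p` trivial on the Frattini quotient of `omegaOne` is trivial. -/
theorem eq_one_of_lin_resO [Finite X] (hp2 : p ≠ 2) (hX : IsPGroup p X) [Fact (IsPGroup p (omegaOne p X))]
    {α : MulAut X} (hα : (orderOf α).Coprime p)
    (h : (lin (resO p X α) : Module.End (ZMod p) (Vec p (omegaOne p X))) = 1) : α = 1 := by
  haveI : Finite (MulAut X) := Finite.of_injective (fun f => (f : X → X)) DFunLike.coe_injective
  have h1 : resO p X α = 1 :=
    eq_one_of_pGroup_of_coprime (isPGroup_ker_lin (p := p) (E := omegaOne p X)) (MonoidHom.mem_ker.mpr h)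
      (hα.coprime_dvd_left (orderOf_map_dvd _ α))
  refine aut_eq_one_of_fix_omega hp2 hX hα fun u hu => ?_
  have h2 := resO_coe p X α ⟨u, subset_closure hu⟩
  rw [h1] at h2
  exact h2.symm

end CfsgLib.MaxClassResidual
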