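import Cfsg.Agent.Lib.Dickson.QuadraticPair

/-!
In characteristic at least five, a finite group with opposite unipotent elements has one orbit of
unipotent points: it contains the lower element with parameter `-1` whenever it contains `up 1`.
-/

set_option autoImplicit false
set_option maxHeartbeats 800000

namespace CfsgLib.MaxClassResidual

open Matrix
open CfsgLib.Dickson

variable {K : Type*} [Field K]

local notation "M2" => Matrix (Fin 2) (Fin 2) K
local notation "SL" => Matrix.SpecialLinearGroup (Fin 2) K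

section setup

variable {G : Subgroup (Matrix.SpecialLinearGroup (Fin 2) K)} [Finite G]
  (p : ℕ) [Fact p.Prime] [CharP K p]

include p in
theorem index_shape_all {b c : K} (hb : b ≠ 0) (hbG : up b ∈ G) (hc : c ≠ 0) (hcG : lo c ∈ G) :
    ∃ k, 0 < k ∧ (nG G).index = Nat.card (param G) * k + 1 ∧
      (k = 1 → up c⁻¹ ∈ G) := by
  classical
  set S : Set K := {β | ∃ h : G, (h : SL).1 1 0 ≠ 0 ∧ β = (h : SL).1 0 0 / (h : SL).1 1 0} with hS
  set W : Set (G ⧸ nG G) := {x | x ≠ ((1 : G) : G ⧸ nG G)} with hW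
  have hout : ∀ x ∈ W, ((x.out : G) : SL).1 1 0 ≠ 0 := by
    intro x hx h0
    apply hx
    rw [← QuotientGroup.out_eq' x, QuotientGroup.eq, mul_one]
    exact (nG G).inv_mem h0
  have hWS : W.ncard = S.ncard := by
    refine Set.ncard_congr (fun x _ => ((x.out : G) : SL).1 0 0 / ((x.out : G) : SL).1 1 0)
      (fun x hx => ⟨x.out, hout x hx, rfl⟩) (fun x y hx hy e => ?_) ?_
    · rw [← QuotientGroup.out_eq' x, ← QuotientGroup.out_eq' y, QuotientGroup.eq]
      show (((x.out⁻¹ * y.out : G) : SL)).1 1 0 = 0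
      simp only [Subgroup.coe_mul, Subgroup.coe_inv]
      rw [mul_entry, (inv_entries _).2.2.1, (inv_entries _).2.2.2]
      rw [div_eq_div_iff (hout x hx) (hout y hy)] at e
      linear_combination e
    · rintro β ⟨h, h10, rfl⟩
      obtain ⟨m, hm⟩ := QuotientGroup.mk_out_eq_mul (nG G) h
      have hm0 : ((m : G) : SL).1 1 0 = 0 := m.2
      have hd := det_eq ((m : G) : SL)
      rw [hm0, mul_zero, sub_zero] at hd
      refine ⟨(h : G ⧸ nG G), fun e => h10 ?_, ?_⟩
      · rw [QuotientGroup.eq, mul_one] at e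
        exact (Subgroup.inv_mem_iff (nG G)).1 e
      · show ((((h : G ⧸ nG G).out : G)) : SL).1 0 0 / _ = _
        rw [hm, Subgroup.coe_mul, mul_entry, mul_entry, hm0, mul_zero, mul_zero, add_zero, add_zero,
          mul_div_mul_right _ _ (left_ne_zero_of_mul_eq_one hd)]
  have hSne : c⁻¹ ∈ S := ⟨⟨lo c, hcG⟩, by simpa using hc, by simp⟩
  have htrans : ∀ β ∈ S, ∀ t ∈ param G, β + t ∈ S := by
    rintro _ ⟨h, h10, rfl⟩ t ht
    refine ⟨⟨up t, ht⟩ * h, ?_, ?_⟩
    · rw [Subgroup.coe_mul, mul_entry]; simpa using h10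
    · rw [Subgroup.coe_mul, mul_entry, mul_entry]
      simp
      field_simp
  have : Finite (param G) := Finite.of_equiv _ uEquiv.symm
  set π : K → K ⧸ param G := QuotientAddGroup.mk with hπ
  have hSim : S.ncard = Nat.card (param G) * (π '' S).ncard := by
    rw [← Nat.card_coe_set_eq, ← Nat.card_coe_set_eq, ← Nat.card_prod]
    refine (Nat.card_eq_of_bijective (fun x : param G × (π '' S) =>
      (⟨(x.2 : K ⧸ param G).out + (x.1 : K), by
        obtain ⟨s, hs, hsx⟩ := x.2.2
        obtain ⟨t, ht⟩ := QuotientAddGroup.mk_out_eq_add (param G) s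
        rw [← hsx]
        show (QuotientAddGroup.mk s : K ⧸ param G).out + (x.1 : K) ∈ S
        rw [ht, add_assoc]
        exact htrans s hs _ ((param G).add_mem t.2 x.1.2)⟩ : S)) ⟨?_, ?_⟩).symm
    · rintro ⟨t, x⟩ ⟨t', x'⟩ e
      have e' : (x : K ⧸ param G).out + (t : K) = (x' : K ⧸ param G).out + (t' : K) := congrArg Subtype.val e
      have hxx : (x : K ⧸ param G) = x' := by
        rw [← QuotientAddGroup.out_eq' (x : K ⧸ param G), ← QuotientAddGroup.out_eq' (x' : K ⧸ param G),
          QuotientAddGroup.eq]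
        have : -(x : K ⧸ param G).out + (x' : K ⧸ param G).out = (t : K) - t' := by linear_combination -e'
        rw [this]
        exact (param G).sub_mem t.2 t'.2
      rw [hxx] at e'
      exact Prod.ext (Subtype.ext (add_left_cancel e')) (Subtype.ext hxx)
    · rintro ⟨s, hs⟩
      obtain ⟨t, ht⟩ := QuotientAddGroup.mk_out_eq_add (param G) s
      refine ⟨(⟨-t, neg_mem t.2⟩, ⟨π s, s, hs, rfl⟩), Subtype.ext ?_⟩
      show (QuotientAddGroup.mk s : K ⧸ param G).out + -(t : K) = s
      rw [ht, add_neg_cancel_right]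
  have hSfin : S.Finite := Set.Finite.subset (Set.finite_range
    fun h : G => (h : SL).1 0 0 / (h : SL).1 1 0) (by rintro _ ⟨h, -, rfl⟩; exact ⟨h, rfl⟩)
  have hkpos : 0 < (π '' S).ncard :=
    (Set.ncard_pos (hSfin.image π)).2 ⟨_, Set.mem_image_of_mem π hSne⟩
  have hWcard : W.ncard + 1 = (nG G).index := by
    have := Set.ncard_add_ncard_compl ({((1 : G) : G ⧸ nG G)} : Set (G ⧸ nG G))
    rw [Set.ncard_singleton] at this
    rw [Subgroup.index, ← this, add_comm]
    rfl
  refine ⟨(π '' S).ncard, hkpos, by rw [← hWcard, hWS, hSim], fun hk1 => ?_⟩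
  -- the point fixed by the lower unipotent element
  obtain ⟨h, hh⟩ := exists_conj_uG p hb hbG (g := (⟨lo c, hcG⟩ : G))
    (by show (lo c).1.trace = 2; simp [Matrix.trace_fin_two, one_add_one_eq_two])
  obtain ⟨t, ht⟩ := hh
  replace ht : (h : SL)⁻¹ * lo c * (h : SL) = up t := ht
  have hconj : (h : SL) * up t * (h : SL)⁻¹ = lo c := by rw [← ht]; group
  have ht0 : t ≠ 0 := by
    rintro rfl
    rw [up_zero, mul_one, mul_inv_cancel] at hconj
    have := congrArg (fun y : SL => y.1 1 0) hconj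
    simp at this
    exact hc this.symm
  have h00 : (h : SL).1 0 0 = 0 := by
    have := (conj_up (h : SL) t).1
    rw [hconj] at this
    simpa [ht0] using this.symm
  have h10 : (h : SL).1 1 0 ≠ 0 := fun e => by
    have := det_eq (h : SL)
    rw [h00, e, zero_mul, mul_zero, sub_zero] at this
    exact zero_ne_one this
  have h0S : (0 : K) ∈ S := ⟨h, h10, by rw [h00, zero_div]⟩
  obtain ⟨a, ha⟩ := Set.ncard_eq_one.1 hk1
  have e1 : π 0 = a := by simpa [ha] using Set.mem_image_of_mem π h0S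
  have e2 : π c⁻¹ = a := by simpa [ha] using Set.mem_image_of_mem π hSne
  have : π 0 = π c⁻¹ := e1.trans e2.symm
  rw [hπ, QuotientAddGroup.eq, neg_zero, zero_add] at this
  exact this

include p in
theorem up_inv_mem (hp : 5 ≤ p) (hneg : -1 ∈ G) {b c : K} (hb : b ≠ 0) (hbG : up b ∈ G)
    (hc : c ≠ 0) (hcG : lo c ∈ G) : up c⁻¹ ∈ G := by
  classical
  obtain ⟨k, hk, hn, hk1⟩ := index_shape_all p hb hbG hc hcG
  obtain ⟨hq3, hD2, hDle⟩ := torus_bounds p (by omega) hneg hb hbG
  have hG := card_eq (G := G)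
  have hS := card_ss p (by omega) hneg hb hbG
  set n := (nG G).index with hn'
  set q := Nat.card (param G) with hq
  set D := Nat.card (diagHom G).range with hD
  set Gc := Nat.card G with hGc
  by_cases hk' : k = 1
  · exact hk1 hk'
  have hDpos : 0 < D := Nat.card_pos
  clear_value D n q Gc
  obtain ⟨d, rfl⟩ : ∃ d, D = 2 * d := hD2
  obtain ⟨q', hq'⟩ : ∃ q', q = q' + 1 := ⟨q - 1, by omega⟩
  rw [hq', Nat.add_sub_cancel] at hS hDle
  have hn2 : 2 * q + 1 ≤ n := by
    rw [hn]
    have : 2 ≤ k := by omega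
    calc 2 * q + 1 ≤ q * k + 1 := by nlinarith
      _ ≤ _ := le_rfl
  set SS : Set G := {g : G | tr G g ^ 2 ≠ 4} with hSS
  have hsub : ∀ g : G, cls G g ⊆ SS := fun g x hx => hx.1
  rcases Nat.lt_or_ge d 2 with hd | hd
  · -- the torus is trivial
    exfalso
    obtain rfl : d = 1 := by omega
    have hS' : SS.ncard + 2 = 2 * n := by nlinarith
    obtain ⟨g, hg⟩ : SS.Nonempty := Set.nonempty_of_ncard_ne_zero (by omega)
    obtain ⟨hb4, hbd⟩ := cls_bound p (by omega) hneg hg
    rw [← hGc] at hb4 hbd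
    obtain ⟨hcev, hc4, -⟩ := card_cen p (by omega) hneg hg
    have hle : (cls G g).ncard ≤ SS.ncard := Set.ncard_le_ncard (hsub g)
    obtain rfl : q' = 2 := by
      by_contra hne
      have h3 : 3 ≤ q' := by omega
      nlinarith
    have hGn : Gc = 6 * n := by rw [hG, hq']; ring
    by_cases heq : SS ⊆ cls G g
    · have he : (cls G g).ncard = SS.ncard := le_antisymm hle (Set.ncard_le_ncard heq)
      set c₀ := Nat.card (cen G g) with hc₀
      obtain ⟨j, hj⟩ : ∃ j, c₀ = j + 2 := ⟨c₀ - 2, by omega⟩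
      rcases hbd with ⟨h1, -⟩ | h1
      · rw [he, hGn, hj, Nat.add_sub_cancel] at h1
        nlinarith
      · rw [he, hGn, hj, Nat.add_sub_cancel] at h1
        obtain ⟨i, hi⟩ := hcev
        rw [hj] at hi
        rcases Nat.lt_or_ge j 4 with hj4 | hj4
        · interval_cases j <;> omega
        · nlinarith
    · obtain ⟨g', hg', hg'n⟩ := Set.not_subset.1 heq
      have hu := Set.ncard_le_ncard (Set.union_subset (hsub g) (hsub g')) (t := SS)
      rw [Set.ncard_union_eq (cls_disjoint hg hg' hg'n)] at hu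
      have := (cls_bound p (by omega) hneg hg').1
      rw [← hGc] at this
      omega
  -- a non-trivial torus
  obtain ⟨g₀, hg₀, hc₀⟩ := exists_torus p (by omega) (G := G) (by omega)
  obtain ⟨-, hbd₀⟩ := cls_bound p (by omega) hneg hg₀
  rw [← hD] at hc₀
  rw [hc₀, ← hGc] at hbd₀
  obtain ⟨d', hd'⟩ : ∃ d', d = d' + 2 := ⟨d - 2, by omega⟩
  have hD2' : 2 * d - 2 = 2 * (d' + 1) := by omega
  rw [hD2'] at hbd₀
  have hnpos : 0 < n := by omega
  have hqpos : 0 < q := by omega
  -- the class of the torus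
  have hrest : (SS \ cls G g₀).ncard + (cls G g₀).ncard = SS.ncard :=
    Set.ncard_sdiff_add_ncard_of_subset (hsub g₀)
  have hout : ∀ g ∈ SS \ cls G g₀, cls G g ⊆ SS \ cls G g₀ := fun g hg x hx =>
    ⟨hx.1, fun hx0 => Set.disjoint_left.1 (cls_disjoint hg₀ hg.1 hg.2) hx0 hx⟩
  rcases hbd₀ with ⟨h₀, -⟩ | h₀
  · exfalso
    have hcl : (cls G g₀).ncard = 2 * n * q * (d' + 1) := by
      refine Nat.eq_of_mul_eq_mul_right (show 0 < 2 * d by omega) ?_
      rw [h₀, hG]; ring
    have hrest' : (SS \ cls G g₀).ncard + 2 = 2 * n := by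
      rw [hcl, hq'] at hrest
      rw [hG, hq', hd'] at hS
      nlinarith
    obtain ⟨g, hg⟩ : (SS \ cls G g₀).Nonempty := Set.nonempty_of_ncard_ne_zero (by omega)
    have h1 := (cls_bound p (by omega) hneg hg.1).1
    have h2 := Set.ncard_le_ncard (hout g hg)
    rw [← hGc, hG] at h1
    nlinarith [Nat.mul_le_mul hq3 hd]
  have hcl : (cls G g₀).ncard = n * q * (d' + 1) := by
    refine Nat.eq_of_mul_eq_mul_right (show 0 < 2 * (2 * d) by omega) ?_
    rw [h₀, hG]; ring
  have hrest' : (SS \ cls G g₀).ncard + n * q + 2 = n * q * d' + 2 * (n * q) + 2 * n := by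
    rw [hcl, hq'] at hrest
    rw [hG, hq', hd'] at hS
    rw [hq']
    nlinarith
  have hGv : Gc = 2 * (n * q * (d' + 2)) := by rw [hG, hd']; ring
  have hexp : n * q * (d' + 2) = n * q * d' + 2 * (n * q) := by ring
  have hA : 3 * n ≤ n * q := by rw [mul_comm 3 n]; exact Nat.mul_le_mul_left n hq3
  obtain ⟨g₁, hg₁⟩ : (SS \ cls G g₀).Nonempty := Set.nonempty_of_ncard_ne_zero (fun h0 => by
    rw [h0] at hrest'
    linarith)
  have hsingle : SS \ cls G g₀ ⊆ cls G g₁ := by
    by_contra hne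
    obtain ⟨g', hg', hg'n⟩ := Set.not_subset.1 hne
    have hu := Set.ncard_le_ncard (Set.union_subset (hout g₁ hg₁) (hout g' hg'))
    rw [Set.ncard_union_eq (cls_disjoint hg₁.1 hg'.1 hg'n)] at hu
    have h1 := (cls_bound p (by omega) hneg hg₁.1).1
    have h2 := (cls_bound p (by omega) hneg hg'.1).1
    rw [← hGc, hGv, hexp] at h1 h2
    linarith
  have heq : (cls G g₁).ncard = (SS \ cls G g₀).ncard :=
    le_antisymm (Set.ncard_le_ncard (hout g₁ hg₁)) (Set.ncard_le_ncard hsingle)
  obtain ⟨-, hbd₁⟩ := cls_bound p (by omega) hneg hg₁.1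
  obtain ⟨hcev, hc4, -⟩ := card_cen p (by omega) hneg hg₁.1
  rw [← hGc, hGv] at hbd₁
  rcases hbd₁ with ⟨-, h1⟩ | h1
  · exfalso
    rw [heq, hexp] at h1
    linarith
  obtain ⟨e, he⟩ := hcev
  rw [he, show 2 * e - 2 = 2 * (e - 1) by omega, heq] at h1
  obtain ⟨e', he'⟩ : ∃ e', e = e' + 1 := ⟨e - 1, by omega⟩
  rw [he', Nat.add_sub_cancel] at h1
  -- the fundamental equation
  have heqn : (e' + 1) * (n * q' + 2) = n * q * (d' + 2) + (e' + 1) * n := by
    rw [hq'] at hrest' h1 ⊢
    have h2 := congrArg (fun x => x * (e' + 1)) hrest'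
    simp only [add_mul] at h2
    ring_nf at h1 h2 ⊢
    linarith
  obtain ⟨q'', hq''⟩ : ∃ q'', q' = q'' + 1 := ⟨q' - 1, by omega⟩
  have heqn' : (e' + 1) * (n * q'' + 2) = n * q * (d' + 2) := by
    rw [hq''] at heqn
    ring_nf at heqn ⊢
    linarith
  have hdvd : n ∣ 2 * (e' + 1) := by
    have h1' : n ∣ (e' + 1) * (n * q'' + 2) := heqn' ▸ dvd_mul_of_dvd_left (dvd_mul_right n q) _
    rw [show (e' + 1) * (n * q'' + 2) = n * ((e' + 1) * q'') + 2 * (e' + 1) by ring] at h1'
    exact (Nat.dvd_add_right (dvd_mul_right _ _)).1 h1'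
  obtain ⟨j, hj⟩ := hdvd
  have hj2 : j * (n * q'' + 2) = 2 * q * (d' + 2) := by
    refine Nat.eq_of_mul_eq_mul_left hnpos ?_
    calc n * (j * (n * q'' + 2)) = 2 * ((e' + 1) * (n * q'' + 2)) := by rw [← mul_assoc, ← hj]; ring
      _ = _ := by rw [heqn']; ring
  have hj3 : j * (k * q'' + 1) = 2 * (d' + 2) := by
    refine Nat.eq_of_mul_eq_mul_left hqpos ?_
    calc q * (j * (k * q'' + 1)) = j * (n * q'' + 2) := by rw [hn, hq', hq'']; ring
      _ = _ := by rw [hj2]; ring
  have hk2 : 2 ≤ k := by omega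
  have hj1 : j = 1 := by
    rcases Nat.lt_or_ge j 2 with h | h
    · rcases Nat.eq_zero_or_pos j with rfl | h' <;> omega
    · exfalso
      have h5 := Nat.mul_le_mul h (Nat.add_le_add_right (Nat.mul_le_mul_right q'' hk2) 1)
      have h6 : 1 ≤ q'' := by omega
      linarith
  subst hj1
  rw [one_mul] at hj3
  have hk3 : k = 3 ∧ q'' = 1 ∧ d' = 0 := by
    rcases Nat.lt_or_ge k 3 with h | h
    · obtain rfl : k = 2 := by omega
      omega
    · have hq1 : q'' = 1 := by
        by_contra hne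
        have h5 := Nat.mul_le_mul_right q'' h
        have h6 : 2 ≤ q'' := by omega
        linarith
      subst hq1
      omega
  obtain ⟨rfl, rfl, rfl⟩ := hk3
  have hq3' : q = 3 := by omega
  have hn10 : n = 10 := by rw [hn, hq3']
  have hp3 : p = 3 := by
    obtain ⟨i, hi⟩ := IsPGroup.iff_card.1 (isPGroup_uG (G := G) p)
    rw [card_uG, ← hq, hq3'] at hi
    have hi0 : i ≠ 0 := by rintro rfl; simp at hi
    exact ((Nat.prime_dvd_prime_iff_eq Fact.out Nat.prime_three).1 (hi ▸ dvd_pow_self p hi0))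
  omega

end setup

/-- A finite group containing `up 1` and a nontrivial `lo` contains `lo (-1)`. -/
theorem lo_neg_one_mem (p : ℕ) [Fact p.Prime] [CharP K p] (hp : 5 ≤ p) (G : Subgroup SL) [Finite G]
    (h1 : up (1 : K) ∈ G) {c : K} (hc : c ≠ 0) (hcG : lo c ∈ G) : lo (-1 : K) ∈ G := by
  obtain ⟨W, hW, ⟨e⟩⟩ := dickson p (by omega) G ⟨_, h1, _, hcG, by simp [Matrix.trace_fin_two, one_add_one_eq_two],
    by simp [Matrix.trace_fin_two, one_add_one_eq_two], fun h => hc (by
      have := congrArg (fun z : SL => z.1 0 0) h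
      simp [mul_entry] at this
      exact this)⟩
  have h2 : (2 : K) ≠ 0 := two_ne p (by omega)
  have hneg : (-1 : SL) ∈ G := by
    set w : SL := ((e.symm (-1) : W) : SL)
    have hwG : w ∈ G := hW (e.symm (-1)).2
    have h11 : w * w = 1 := by rw [← Subgroup.coe_mul, ← map_mul]; simp
    have hne : w ≠ 1 := fun h => by
      have h3 : (e.symm (-1) : W) = 1 := Subtype.ext h
      rw [← map_one e.symm] at h3
      have := congrArg (fun z : Matrix.SpecialLinearGroup (Fin 2) (ZMod p) => z.1 0 0) (e.symm.injective h3)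
      simp at this
      exact two_ne (K := ZMod p) p (by omega) (by linear_combination -this)
    have hinv : w⁻¹ = w := inv_eq_of_mul_eq_one_left h11
    obtain ⟨i00, i01, i10, -⟩ := inv_entries w
    rw [hinv] at i00 i01 i10
    have h01 : w.1 0 1 = 0 := mul_left_cancel₀ h2 (by linear_combination i01)
    have h10 : w.1 1 0 = 0 := mul_left_cancel₀ h2 (by linear_combination i10)
    have hd := det_eq w
    rw [h01, zero_mul, sub_zero, ← i00] at hd
    rcases mul_self_eq_one_iff.1 hd with h | h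
    · exact absurd (ext_entries (by simp [h]) (by simp [h01]) (by simp [h10]) (by simp [← i00, h])) hne
    · rwa [show (-1 : SL) = w from (ext_entries (by simp [h]) (by simp [h01]) (by simp [h10]) (by simp [← i00, h])).symm]
  have hr : up c⁻¹ ∈ G := up_inv_mem p hp hneg one_ne_zero h1 hc hcG
  set s : SL := up c⁻¹ * (lo c)⁻¹ * up c⁻¹ with hs
  have hsG : s ∈ G := G.mul_mem (G.mul_mem hr (G.inv_mem hcG)) hr
  have hlo : (lo c)⁻¹ = lo (-c) := inv_eq_of_mul_eq_one_right (by
    rw [lo_mul, add_neg_cancel]; apply ext_entries <;> simp)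
  have hconj : ∀ r : K, s * up r * s⁻¹ = lo (-(r * c ^ 2)) := by
    intro r
    rw [mul_inv_eq_iff_eq_mul, hs, hlo]
    apply ext_entries <;> simp [mul_entry] <;> field_simp <;> simp <;> ring
  have h3 : lo (-(c ^ 2)) ∈ G := by
    have := G.mul_mem (G.mul_mem hsG h1) (G.inv_mem hsG)
    rwa [hconj, one_mul] at this
  have h4 : up (-(c ^ 2))⁻¹ ∈ G := up_inv_mem p hp hneg one_ne_zero h1 (neg_ne_zero.mpr (pow_ne_zero 2 hc)) h3
  have h5 : up ((c ^ 2)⁻¹) ∈ G := by
    have := G.inv_mem h4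
    rwa [up_inv, inv_neg, neg_neg] at this
  have := G.mul_mem (G.mul_mem hsG h5) (G.inv_mem hsG)
  rwa [hconj, inv_mul_cancel₀ (pow_ne_zero 2 hc)] at this

end CfsgLib.MaxClassResidual
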