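import Cfsg.Agent.Lib.MaxClassResidual.Layer
import Cfsg.Agent.Lib.MaxClassResidual.Module
import Cfsg.Agent.Lib.MaxClassResidual.Derive
import Cfsg.Agent.Lib.PGV.Replacement

/-!
An element above the core acts quadratically on the elements of order `p` of the centre.
-/

set_option autoImplicit false
set_option linter.unusedSectionVars false
set_option linter.style.haveILetI false

namespace CfsgLib.MaxClassResidual

open scoped commutatorElement
open Subgroup
open CfsgLib.PolySeq (fil fil_antitone fil_commutator_mem)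
open MaxClassEssential (Vec vec lin)

theorem card_comap_of_le {G H : Type*} [Group G] [Finite G] [Group H] {f : G →* H} {C : Subgroup H}
    (hC : C ≤ f.range) : Nat.card (C.comap f) = Nat.card f.ker * Nat.card C := by
  have h := (f.ker.subgroupOf (C.comap f)).card_mul_index
  rw [Nat.card_congr (subgroupOfEquivOfLe (f.ker_le_comap C)).toEquiv] at h
  have e : f.ker.relIndex (C.comap f) = Nat.card C := by
    rw [← MonoidHom.comap_bot, relIndex_comap, map_comap_eq, inf_eq_right.mpr hC, relIndex_bot_left]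
  rw [← h, ← e]; rfl

namespace Data

variable {p : ℕ} [hpf : Fact p.Prime] {S : Type*} [Group S] [Finite S] (D : Data p S)

theorem exists_max_elementary :
    ∃ m, (∃ B : Subgroup S, B ≤ D.E ∧ (∀ a ∈ B, ∀ b ∈ B, a * b = b * a) ∧ (∀ a ∈ B, a ^ p = 1) ∧
      Nat.card B = m) ∧ ∀ B : Subgroup S, B ≤ D.E → (∀ a ∈ B, ∀ b ∈ B, a * b = b * a) → (∀ a ∈ B, a ^ p = 1) →
        Nat.card B ≤ m := by
  classical
  let P : ℕ → Prop := fun m => ∃ B : Subgroup S, B ≤ D.E ∧ (∀ a ∈ B, ∀ b ∈ B, a * b = b * a) ∧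
    (∀ a ∈ B, a ^ p = 1) ∧ Nat.card B = m
  have h1 : P 1 := ⟨⊥, bot_le, fun a ha b hb => by rw [mem_bot.mp ha, mem_bot.mp hb],
    fun a ha => by rw [mem_bot.mp ha, one_pow], card_bot⟩
  have hne : 1 ≤ Nat.card S := Nat.card_pos
  refine ⟨Nat.findGreatest P (Nat.card S), Nat.findGreatest_spec hne h1, fun B hB ha he => ?_⟩
  exact Nat.le_findGreatest (card_le_card_group B) ⟨B, hB, ha, he, rfl⟩

theorem sup_elementary {B X : Subgroup S} (hBc : ∀ a ∈ B, ∀ b ∈ B, a * b = b * a) (hBe : ∀ a ∈ B, a ^ p = 1)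
    (hXc : ∀ a ∈ X, ∀ b ∈ X, a * b = b * a) (hXe : ∀ a ∈ X, a ^ p = 1) (hBX : ∀ a ∈ B, ∀ b ∈ X, a * b = b * a) :
    (∀ a ∈ B ⊔ X, ∀ b ∈ B ⊔ X, a * b = b * a) ∧ (∀ a ∈ B ⊔ X, a ^ p = 1) ∧ B ≤ normalizer (X : Set S) := by
  have hnorm : B ≤ normalizer (X : Set S) := fun b hb => by
    refine centralizer_le_normalizer _ (mem_centralizer_iff.mpr fun y hy => (hBX b hb y hy).symm)
  have hmem : ∀ a ∈ B ⊔ X, ∃ b ∈ B, ∃ y ∈ X, b * y = a := fun a ha => by
    rw [← SetLike.mem_coe, coe_mul_of_left_le_normalizer_right B X hnorm] at ha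
    exact ha
  refine ⟨fun a ha b hb => ?_, fun a ha => ?_, hnorm⟩
  · obtain ⟨a1, ha1, a2, ha2, rfl⟩ := hmem a ha
    obtain ⟨b1, hb1, b2, hb2, rfl⟩ := hmem b hb
    exact ((Commute.mul_right (show Commute a1 b1 from hBc a1 ha1 b1 hb1) (hBX a1 ha1 b2 hb2)).mul_left
      (Commute.mul_right (show Commute a2 b1 from (hBX b1 hb1 a2 ha2).symm) (hXc a2 ha2 b2 hb2))).eq
  · obtain ⟨a1, ha1, a2, ha2, rfl⟩ := hmem a ha
    rw [(show Commute a1 a2 from hBX a1 ha1 a2 ha2).mul_pow, hBe a1 ha1, hXe a2 ha2, one_mul]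

/-- Some elementary abelian subgroup of largest order leaves the core. -/
theorem exists_elementary_not_le :
    ∃ B : Subgroup S, B ≤ D.E ∧ (∀ a ∈ B, ∀ b ∈ B, a * b = b * a) ∧ (∀ a ∈ B, a ^ p = 1) ∧
      (∀ B' : Subgroup S, B' ≤ D.E → (∀ a ∈ B', ∀ b ∈ B', a * b = b * a) → (∀ a ∈ B', a ^ p = 1) →
        Nat.card B' ≤ Nat.card B) ∧ ¬ B ≤ fil S (D.i + 1) := by
  by_contra hall
  push Not at hall
  obtain ⟨m, ⟨B₀, hB₀, hc₀, he₀, hm₀⟩, hmax⟩ := D.exists_max_elementary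
  set 𝔅 : Set (Subgroup S) := {B | B ≤ D.E ∧ (∀ a ∈ B, ∀ b ∈ B, a * b = b * a) ∧ (∀ a ∈ B, a ^ p = 1) ∧
    Nat.card B = m} with h𝔅
  have hin : ∀ B ∈ 𝔅, B ≤ fil S (D.i + 1) := fun B hB => hall B hB.1 hB.2.1 hB.2.2.1
    fun B' h1 h2 h3 => hB.2.2.2.symm ▸ hmax B' h1 h2 h3
  have hB₀m : B₀ ∈ 𝔅 := ⟨hB₀, hc₀, he₀, hm₀⟩
  set M : Subgroup S := sInf 𝔅
  have hMle : M ≤ B₀ := sInf_le hB₀m
  have hn : M.Normal := ⟨fun e he g => by
    rw [Subgroup.mem_sInf]
    intro B hB
    have hmem : B.map (MulAut.conj g⁻¹).toMonoidHom ∈ 𝔅 := by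
      refine ⟨?_, ?_, ?_, ?_⟩
      · rintro _ ⟨b, hb, rfl⟩
        exact D.core_le ((CfsgLib.PolySeq.fil_normal (G := S) _).conj_mem _ (hin B hB hb) g⁻¹)
      · rintro _ ⟨a, ha, rfl⟩ _ ⟨b, hb, rfl⟩
        rw [← map_mul, ← map_mul, hB.2.1 a ha b hb]
      · rintro _ ⟨a, ha, rfl⟩
        rw [← map_pow, hB.2.2.1 a ha, map_one]
      · rw [card_map_of_injective (f := (MulAut.conj g⁻¹).toMonoidHom) (MulAut.conj g⁻¹).injective, hB.2.2.2]
    obtain ⟨b, hb, hbe⟩ := Subgroup.mem_sInf.mp he _ hmem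
    rw [← hbe]
    have e1 : g * (MulAut.conj g⁻¹).toMonoidHom b * g⁻¹ = b := by simp [mul_assoc]
    rw [e1]; exact hb⟩
  have hME : M ≤ D.E := hMle.trans hB₀
  obtain ⟨k, -, -, hk⟩ := D.normal_le hME
  refine D.not_isInvModule k ?_
  rw [IsInvModule, ← hk]
  refine ⟨hME, fun u hu => ?_, fun a ha b hb => hc₀ a (hMle ha) b (hMle hb), fun a ha => he₀ a (hMle ha),
    fun η _ e he => ?_⟩
  · rw [Subgroup.mem_sInf]
    intro B hB
    have hZc : ∀ a ∈ fil S (D.n - 2), ∀ b ∈ fil S (D.n - 2), a * b = b * a := fun a ha b hb =>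
      D.toFrame.fil_last_central ha (D.hET (D.fil_last_le hb))
    obtain ⟨h1, h2, -⟩ := sup_elementary (p := p) hB.2.1 hB.2.2.1 hZc (fun a ha => D.pow_last ha)
      (fun a ha b hb => (D.toFrame.fil_last_central hb (D.hET (hB.1 ha))).symm)
    have h3 := hmax _ (sup_le hB.1 D.fil_last_le) h1 h2
    rw [eq_of_le_of_card_ge (le_sup_left : B ≤ B ⊔ fil S (D.n - 2)) (hB.2.2.2.symm ▸ h3)]
    exact mem_sup_right hu
  · rw [Subgroup.mem_sInf]
    intro B hB
    set f : D.E →* S := D.E.subtype.comp (η⁻¹ : MulAut D.E).toMonoidHom with hf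
    have hfi : Function.Injective f := D.E.subtype_injective.comp (η⁻¹ : MulAut D.E).injective
    have hmem : (B.subgroupOf D.E).map f ∈ 𝔅 := by
      refine ⟨?_, ?_, ?_, ?_⟩
      · rintro _ ⟨b, -, rfl⟩; exact ((η⁻¹ : MulAut D.E) b).2
      · rintro _ ⟨a, ha, rfl⟩ _ ⟨b, hb, rfl⟩
        rw [← map_mul, ← map_mul, show a * b = b * a from Subtype.ext (hB.2.1 _ ha _ hb)]
      · rintro _ ⟨a, ha, rfl⟩
        rw [← map_pow, show a ^ p = 1 from Subtype.ext (hB.2.2.1 _ ha), map_one]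
      · rw [card_map_of_injective hfi, Nat.card_congr (subgroupOfEquivOfLe hB.1).toEquiv, hB.2.2.2]
    obtain ⟨b, hb, hbe⟩ := Subgroup.mem_sInf.mp he _ hmem
    have e1 : (η⁻¹ : MulAut D.E) b = e := Subtype.ext hbe
    rw [← e1, MulAut.apply_inv_self]
    exact hb

/-- An element of the layer above the core, outside `E`, acts quadratically on the elements of order `p` of
the centre. -/
theorem exists_quadratic : ∃ w ∈ fil S D.i, w ∉ D.E ∧ ∀ v ∈ D.omegaZ, w * ⁅w, v⁆ = ⁅w, v⁆ * w := by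
  classical
  have h2 := D.two_le_i
  have h3 := D.i_add_three
  have hp5 := D.hp
  set W := fil S (D.i + 1) with hW
  set C : Subgroup S := D.T ⊓ centralizer (W : Set S) with hC
  haveI : C.Normal := Subgroup.normal_inf_normal _ _
  obtain ⟨k, hk1, hkn, hCk⟩ := D.toFrame.normal_le_T (N := C) inf_le_left
  have hswap : ∀ {N : Subgroup S} {a b : S}, ⁅a, b⁆ ∈ N → ⁅b, a⁆ ∈ N := fun h => Frame.comm_swap h
  by_cases hki : k ≤ D.i
  · obtain ⟨u, hu, hu'⟩ := D.exists_u
    refine ⟨u, hu, hu', fun v hv => ?_⟩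
    have huC : u ∈ C := hCk ▸ D.toFrame.fil_le_Tf h2 hki hu
    have hc : ⁅u, v⁆ ∈ W := fil_antitone (Nat.le_succ _) (D.toFrame.comm_T h2 hu (D.hET hv.1))
    exact (mem_centralizer_iff.mp huC.2 _ hc).symm
  push Not at hki
  have hCW : C ≤ W := by
    rw [hCk, D.toFrame.Tf_of_two (show 2 ≤ k by omega)]
    exact fil_antitone hki
  have hCc : ∀ a ∈ C, ∀ b ∈ C, a * b = b * a := fun a ha b hb => (mem_centralizer_iff.mp ha.2 b (hCW hb)).symm
  -- the elements of order `p`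
  let R : Subgroup S :=
    { carrier := {e | e ∈ C ∧ e ^ p = 1}
      one_mem' := ⟨one_mem _, one_pow p⟩
      mul_mem' := fun {a b} ha hb => ⟨mul_mem ha.1 hb.1, by
        rw [(show Commute a b from hCc a ha.1 b hb.1).mul_pow, ha.2, hb.2, one_mul]⟩
      inv_mem' := fun {a} ha => ⟨inv_mem ha.1, by rw [inv_pow, ha.2, inv_one]⟩ }
  have hRW : R ≤ W := fun e he => hCW he.1
  have hΩR : D.omegaZ ≤ R := fun e he => ⟨⟨D.hET he.1,
    mem_centralizer_iff.mpr fun y hy => (he.2.2 y (D.core_le hy)).symm⟩, he.2.1⟩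
  haveI hRn : R.Normal := ⟨fun e he g => ⟨(inferInstance : C.Normal).conj_mem e he.1 g, by
    rw [conj_pow, he.2, mul_one, mul_inv_cancel]⟩⟩
  obtain ⟨l, hil, hln, hRl⟩ := D.normal_le (hRW.trans D.core_le)
  have hRc : ∀ a ∈ R, ∀ b ∈ R, a * b = b * a := fun a ha b hb => hCc a ha.1 b hb.1
  have hRe : ∀ a ∈ R, a ^ p = 1 := fun a ha => ha.2
  -- what centralises them
  have hker : ∀ t ∈ D.T, (∀ m ∈ R, t * m = m * t) ↔ t ∈ W := by
    set X : Subgroup S := D.T ⊓ centralizer (R : Set S) with hX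
    haveI : X.Normal := Subgroup.normal_inf_normal _ _
    obtain ⟨r, hr1, hrn, hXr⟩ := D.toFrame.normal_le_T (N := X) inf_le_left
    have hir : D.i + 1 ≤ r := by
      by_contra h
      obtain ⟨u, hu, hu'⟩ := D.exists_u
      have huX : u ∈ X := hXr ▸ D.toFrame.fil_le_Tf h2 (by omega) hu
      exact hu' (D.mem_of_centralize_omega (D.fil_i_le_normalizer hu)
        fun m hm => (mem_centralizer_iff.mp huX.2 m (hΩR hm)).symm)
    intro t ht
    constructor
    · intro h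
      have : t ∈ X := ⟨ht, mem_centralizer_iff.mpr fun m hm => (h m hm).symm⟩
      rw [hXr, D.toFrame.Tf_of_two (by omega)] at this
      exact fil_antitone hir this
    · exact fun h m hm => mem_centralizer_iff.mp (hm.1).2 t h
  by_cases hfree : D.n ≤ 3 * D.i + 3
  · obtain ⟨u, hu, hu'⟩ := D.exists_u
    refine ⟨u, hu, hu', fun v hv => ?_⟩
    have hu2 : u ∈ D.toFrame.Tf D.i := by rw [D.toFrame.Tf_of_two h2]; exact hu
    have h4 := D.toFrame.comm_Tf D.i (D.i + 1) (by omega) (by omega) u hu2 v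
      (by rw [D.toFrame.Tf_of_two (by omega)]; exact hRW (hΩR hv))
    have h5 := D.toFrame.comm_Tf D.i (D.i + (D.i + 1) + 1) (by omega) (by omega) u hu2 _
      (by rw [D.toFrame.Tf_of_two (by omega)]; exact h4)
    exact commutatorElement_eq_one_iff_mul_comm.mp (D.toFrame.eq_one_of_fil (by omega) h5)
  push Not at hfree
  have hni := D.n_lt_i_add
  haveI : Fact (IsPGroup p R) := ⟨D.toFrame.hS.to_subgroup R⟩
  set ρ := Mod.rep (p := p) R with hρ
  have hρ1 : ∀ t ∈ D.T, (ρ t = 1 ↔ t ∈ W) := fun t ht => (Mod.rep_eq_one hRc hRe).trans (hker t ht)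
  let F : ℕ → Submodule (ZMod p) (Vec p R) := fun c => Mod.sub R (fil S (l + c))
  have hanti : Antitone F := fun a b hab => Mod.sub_mono (fil_antitone (by omega))
  have hF0 : F 0 = ⊤ := Mod.sub_top hRl.le
  have hFp : F p = ⊥ := by
    show Mod.sub R (fil S (l + p)) = ⊥
    rw [D.toFrame.fil_bot (by omega), Mod.sub_bot]
  have hraise : ∀ g : S, Derive.Raise F ((ρ g : Module.End (ZMod p) (Vec p R)) - 1) := by
    rintro g c _ ⟨a, ha, rfl⟩
    have h1 : ⁅(a : S), g⁆ ∈ fil S (l + c + 1) := fil_commutator_mem ha (show g ∈ fil S 1 from mem_top g)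
    exact ⟨⟨⁅g, (a : S)⁆, Mod.comm_mem R g a⟩, hswap (fil_antitone (show l + (c + 1) ≤ l + c + 1 by omega) h1),
      (Mod.sub_one_vec R g a).symm⟩
  have hpres : ∀ g : S, ∀ c, ∀ v ∈ F c, (ρ g : Module.End (ZMod p) (Vec p R)) v ∈ F c := by
    intro g c v hv
    simpa using add_mem (hanti (Nat.le_succ c) (hraise g c v hv)) hv
  let sq : S → Prop := fun a => ((ρ a : Module.End (ZMod p) (Vec p R)) - 1) *
    ((ρ a : Module.End (ZMod p) (Vec p R)) - 1) = 0
  -- an offender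
  obtain ⟨a₀, ha₀T, ha₀W, ha₀sq⟩ : ∃ a ∈ D.T, a ∉ W ∧ sq a := by
    obtain ⟨B, hBE, hBc, hBe, hBmax, hBW⟩ := D.exists_elementary_not_le
    set f := ρ.comp B.subtype with hf
    have hAc : ∀ a ∈ f.range, ∀ b ∈ f.range, a * b = b * a := by
      rintro _ ⟨a, rfl⟩ _ ⟨b, rfl⟩
      rw [← map_mul, ← map_mul, show a * b = b * a from Subtype.ext (hBc a a.2 b b.2)]
    have hAe : ∀ a ∈ f.range, a ^ p = 1 := by
      rintro _ ⟨a, rfl⟩
      rw [← map_pow, show a ^ p = 1 from Subtype.ext (hBe a a.2), map_one]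
    have hne : f.range ≠ ⊥ := by
      intro h
      obtain ⟨b, hb, hb'⟩ := Set.not_subset.mp hBW
      exact hb' ((hρ1 b (D.hET (hBE hb))).mp (mem_bot.mp (h.le ⟨⟨b, hb⟩, rfl⟩)))
    have hBest : CfsgLib.PGV.Best f.range := by
      intro C' hC'
      set B' : Subgroup S := (C'.comap f).map B.subtype with hB'
      set X : Subgroup S := R ⊓ centralizer (B' : Set S) with hX
      have hcB : Nat.card B' = Nat.card f.ker * Nat.card C' := by
        rw [hB', card_map_of_injective B.subtype_injective, card_comap_of_le hC']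
      have hcard : Nat.card B = Nat.card f.ker * Nat.card f.range := by
        rw [← card_comap_of_le (f := f) (le_refl f.range)]
        refine Nat.card_congr (Equiv.subtypeUnivEquiv fun x => ?_).symm
        exact mem_comap.mpr ⟨x, rfl⟩
      have hcX : Nat.card X = Nat.card (CfsgLib.PGV.fixSpace C') := by
        have hmem : ∀ m : R, (m : S) ∈ X ↔ (vec m : Vec p R) ∈ CfsgLib.PGV.fixSpace C' := by
          intro m
          rw [CfsgLib.PGV.mem_fixSpace]
          constructor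
          · intro hm g hg
            obtain ⟨b, rfl⟩ := hC' hg
            exact (Mod.rep_fix hRc hRe).mpr (mem_centralizer_iff.mp hm.2 (b : S) ⟨b, hg, rfl⟩)
          · intro hm
            refine ⟨m.2, mem_centralizer_iff.mpr ?_⟩
            rintro _ ⟨b, hb, rfl⟩
            exact (Mod.rep_fix hRc hRe).mp (hm _ hb)
        refine Nat.card_congr (Equiv.ofBijective (fun x : X => (⟨vec (⟨(x : S), x.2.1⟩ : R),
          (hmem ⟨(x : S), x.2.1⟩).mp x.2⟩ : CfsgLib.PGV.fixSpace C')) ⟨fun x y h => ?_, fun v => ?_⟩)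
        · exact Subtype.ext (congrArg (fun z : R => (z : S))
            (Mod.vec_injective hRc hRe (congrArg Subtype.val h)))
        · obtain ⟨m, hm⟩ := MaxClassEssential.vec_surjective (v : Vec p R)
          exact ⟨⟨m, (hmem m).mpr (hm.symm ▸ v.2)⟩, Subtype.ext hm⟩
      obtain ⟨hs1, hs2, hsn⟩ := sup_elementary (p := p) (B := B') (X := X)
        (fun a ha b hb => hBc a (map_subtype_le _ ha) b (map_subtype_le _ hb))
        (fun a ha => hBe a (map_subtype_le _ ha)) (fun a ha b hb => hRc a ha.1 b hb.1)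
        (fun a ha => hRe a ha.1) (fun a ha b hb => mem_centralizer_iff.mp hb.2 a ha)
      have h4 := hBmax _ (sup_le ((map_subtype_le _).trans hBE) (inf_le_left.trans (hRW.trans D.core_le))) hs1 hs2
      have h5 : Nat.card ↥(B' ⊓ X) ≤ Nat.card (CfsgLib.PGV.fixSpace f.range) := by
        refine Nat.card_le_card_of_injective (fun x : ↥(B' ⊓ X) => (⟨vec (⟨(x : S), x.2.2.1⟩ : R), ?_⟩ :
          CfsgLib.PGV.fixSpace f.range)) fun x y h => ?_
        · rw [CfsgLib.PGV.mem_fixSpace]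
          rintro _ ⟨b, rfl⟩
          exact (Mod.rep_fix hRc hRe).mpr (hBc b b.2 x (map_subtype_le _ x.2.1))
        · exact Subtype.ext (congrArg (fun z : R => (z : S))
            (Mod.vec_injective hRc hRe (congrArg Subtype.val h)))
      have h6 : Nat.card B' * Nat.card X = Nat.card ↥(B' ⊔ X) * Nat.card ↥(B' ⊓ X) := by
        rw [sup_comm, inf_comm, mul_comm (Nat.card B')]
        exact CfsgLib.ZJ.card_mul_eq_of_le_normalizer hsn
      refine Nat.le_of_mul_le_mul_left (?_ : Nat.card f.ker * _ ≤ Nat.card f.ker * _) Nat.card_pos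
      rw [← mul_assoc, ← hcB, ← hcX, h6, ← mul_assoc, ← hcard]
      exact Nat.mul_le_mul h4 h5
    obtain ⟨C', hC', hC'ne, -, hquad⟩ := CfsgLib.PGV.replacement hAc hAe hBest hne
    obtain ⟨c, hc, hc1⟩ : ∃ c ∈ C', c ≠ 1 := by
      by_contra h
      push Not at h
      exact hC'ne ((Subgroup.eq_bot_iff_forall C').mpr h)
    obtain ⟨b, rfl⟩ := hC' hc
    exact ⟨b, D.hET (hBE b.2), fun h => hc1 ((hρ1 _ (D.hET (hBE b.2))).mpr h),
      hquad _ ⟨b, rfl⟩ _ hc⟩
  -- the deepest quadratic element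
  let Q : ℕ → Prop := fun j => ∃ a ∈ D.toFrame.Tf j, a ∉ W ∧ sq a
  have hQ1 : Q 1 := ⟨a₀, by rw [D.toFrame.Tf_of_le le_rfl]; exact ha₀T, ha₀W, ha₀sq⟩
  set j := Nat.findGreatest Q D.n with hj
  obtain ⟨a, haj, haW, hasq⟩ : Q j := Nat.findGreatest_spec (show 1 ≤ D.n by omega) hQ1
  have hj1 : 1 ≤ j := Nat.le_findGreatest (show 1 ≤ D.n by omega) hQ1
  have hji : j ≤ D.i := by
    by_contra h
    exact haW (fil_antitone (show D.i + 1 ≤ j by omega) (D.toFrame.Tf_le_fil haj))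
  have haT : a ∈ D.T := D.toFrame.Tf_le_T j haj
  rcases eq_or_lt_of_le hji with hji | hji
  · have hai : a ∈ fil S D.i := hji ▸ D.toFrame.Tf_le_fil haj
    refine ⟨a, hai, fun h => haW (D.inf_fil_i.le ⟨h, hai⟩), fun v hv => ?_⟩
    have h1 := LinearMap.congr_fun hasq (vec (⟨v, hΩR hv⟩ : R))
    rw [Module.End.mul_apply, Mod.sub_one_vec, Mod.sub_one_vec, LinearMap.zero_apply,
      Mod.vec_eq_one hRc hRe, Subtype.ext_iff] at h1
    exact commutatorElement_eq_one_iff_mul_comm.mp h1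
  exfalso
  have hjn : j < D.n := by omega
  have haj' : a ∉ D.toFrame.Tf (j + 1) := fun h =>
    Nat.findGreatest_is_greatest (show j < j + 1 by omega) (show j + 1 ≤ D.n by omega) ⟨a, h, haW, hasq⟩
  -- an element moving it
  set q := QuotientGroup.mk' W with hq
  have hqc : ∀ {u v : S}, ⁅u, v⁆ ∈ W ↔ Commute (q u) (q v) := fun {u v} =>
    CfsgLib.MaxClassRank.mk_comm_iff.symm
  have hex : ∃ k, ∀ y ∈ D.toFrame.Tf (k + 1), ⁅a, y⁆ ∈ W := ⟨D.i, fun y hy => hswap (fil_antitone (Nat.le_succ _)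
    (fil_commutator_mem (j := 1) (D.toFrame.Tf_le_fil hy) (show a ∈ fil S 1 from mem_top a)))⟩
  set k₀ := Nat.find hex with hk₀
  have hP : ∀ y ∈ D.toFrame.Tf (k₀ + 1), ⁅a, y⁆ ∈ W := Nat.find_spec hex
  obtain ⟨t, ht1, ht2⟩ : ∃ t, ⁅t, a⁆ ∈ D.toFrame.Tf (k₀ + 1) ∧ ⁅t, a⁆ ∉ W := by
    rcases Nat.eq_zero_or_pos k₀ with h0 | h0
    · obtain ⟨x, hx⟩ := D.toFrame.exists_not_mem
      refine ⟨x, ?_, fun h => ?_⟩
      · rw [h0, D.toFrame.Tf_of_le le_rfl]
        exact hswap (Frame.comm_mem_T (D := D.toFrame) ⟨a, haT⟩ x)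
      · exact D.toFrame.comm_exact hx hj1 (by omega) haj haj'
          (fil_antitone (show j + 2 ≤ D.i + 1 by omega) (hswap h))
    · have h1 := Nat.find_min hex (show k₀ - 1 < k₀ by omega)
      push Not at h1
      obtain ⟨y, hy, hy'⟩ := h1
      rw [show k₀ - 1 + 1 = k₀ by omega] at hy
      refine ⟨y, ?_, fun h => hy' (hswap h)⟩
      rw [D.toFrame.Tf_of_two (by omega)]
      exact fil_antitone (by omega) (hswap (D.toFrame.comm_TTf h0 haT hy))
  -- the conjugates commute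
  set N := D.toFrame.Tf (k₀ + 1) with hN
  have hmod : ∀ m : ℕ, (t ^ m * a * (t ^ m)⁻¹) * a⁻¹ ∈ N := by
    intro m
    induction m with
    | zero => simp [one_mem]
    | succ m ih =>
      have e : t ^ (m + 1) * a * (t ^ (m + 1))⁻¹ * a⁻¹ =
          t * (t ^ m * a * (t ^ m)⁻¹ * a⁻¹) * t⁻¹ * ⁅t, a⁆ := by
        rw [pow_succ', commutatorElement_def]; group
      rw [e]
      exact mul_mem ((inferInstance : N.Normal).conj_mem _ ih t) ht1
  have hcomm0 : ∀ m : ℕ, Commute (ρ a) (ρ (t ^ m * a * (t ^ m)⁻¹)) := by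
    intro m
    have h1 : ⁅a, t ^ m * a * (t ^ m)⁻¹ * a⁻¹⁆ ∈ W := hP _ (hmod m)
    have h2 : Commute (ρ a) (ρ (t ^ m * a * (t ^ m)⁻¹ * a⁻¹)) := by
      rw [← commutatorElement_eq_one_iff_commute, ← map_commutatorElement]
      exact (hρ1 _ (fil_antitone (by omega) h1 |> D.toFrame.fil_two_le)).mpr h1
    have h3 := h2.mul_right (Commute.refl (ρ a))
    rwa [← map_mul, inv_mul_cancel_right] at h3
  have hcj : ∀ m : ℕ, (Derive.cj (ρ t))^[m] ((ρ a : Module.End (ZMod p) (Vec p R)) - 1) =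
      (ρ (t ^ m * a * (t ^ m)⁻¹) : Module.End (ZMod p) (Vec p R)) - 1 := by
    intro m
    induction m with
    | zero => simp
    | succ m ih =>
      rw [Function.iterate_succ_apply', ih, Derive.cj_sub]
      congr 1
      · rw [Derive.cj, ← Units.val_mul, ← Units.val_mul, ← map_inv, ← map_mul, ← map_mul, pow_succ']
        congr 2
        group
      · simp [Derive.cj]
  have hAc : ∀ m m' : ℕ, Commute ((Derive.cj (ρ t))^[m] ((ρ a : Module.End (ZMod p) (Vec p R)) - 1))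
      ((Derive.cj (ρ t))^[m'] ((ρ a : Module.End (ZMod p) (Vec p R)) - 1)) := by
    have key : ∀ m d : ℕ, Commute (ρ (t ^ m * a * (t ^ m)⁻¹)) (ρ (t ^ (m + d) * a * (t ^ (m + d))⁻¹)) := by
      intro m d
      have h1 := (Commute.conj_iff (ρ (t ^ m))).mpr (hcomm0 d)
      rw [← map_inv, ← map_mul, ← map_mul, ← map_mul, ← map_mul] at h1
      have e : t ^ (m + d) * a * (t ^ (m + d))⁻¹ = t ^ m * (t ^ d * a * (t ^ d)⁻¹) * (t ^ m)⁻¹ := by
        rw [pow_add]; group
      rw [e]; exact h1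
    intro m m'
    rw [hcj, hcj]
    refine ((Commute.units_val ?_).sub_left (Commute.one_left _)).sub_right (Commute.one_right _)
    rcases le_total m m' with h | h
    · have := key m (m' - m); rwa [show m + (m' - m) = m' by omega] at this
    · have := key m' (m - m'); rw [show m' + (m - m') = m by omega] at this; exact this.symm
  -- the derivative
  let c : ℕ → S := fun m => Nat.rec a (fun _ b => t * b * t⁻¹ * b⁻¹) m
  have hc : ∀ m, c m ∈ D.toFrame.Tf (j + m) := by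
    intro m
    induction m with
    | zero => exact haj
    | succ m ih =>
      show t * c m * t⁻¹ * (c m)⁻¹ ∈ _
      rw [D.toFrame.Tf_of_two (by omega)]
      exact hswap (fil_commutator_mem (j := 1) (D.toFrame.Tf_le_fil ih) (show t ∈ fil S 1 from mem_top t))
  have hcT : ∀ m, c m ∈ D.T := fun m => D.toFrame.Tf_le_T _ (hc m)
  obtain ⟨m, hm1, hmB, hm, hmsq⟩ := Derive.exists_quadratic (ρ t) hanti hF0 hFp (fun i v hv => hpres t i v hv)
    (fun i v hv => by rw [← map_inv]; exact hpres t⁻¹ i v hv) hasq (hraise a) hAc (g := fun m => ρ (c m))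
    (show (ρ a : Module.End (ZMod p) (Vec p R)) = 1 + ((ρ a : Module.End (ZMod p) (Vec p R)) - 1) by abel)
    (fun m => by show ρ (t * c m * t⁻¹ * (c m)⁻¹) = _; rw [map_mul, map_mul, map_mul, map_inv, map_inv])
    (fun h => ht2 (((hρ1 _ (hcT 1)).mp h))) (B := D.i + 1 - j)
    ((hρ1 _ (hcT _)).mpr (by
      have := D.toFrame.Tf_le_fil (hc (D.i + 1 - j))
      rwa [show j + (D.i + 1 - j) = D.i + 1 by omega] at this))
    (by omega)
  exact Nat.findGreatest_is_greatest (show j < j + m by omega) (show j + m ≤ D.n by omega)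
    ⟨c m, hc m, fun h => hm ((hρ1 _ (hcT m)).mpr h), hmsq⟩

end Data

end CfsgLib.MaxClassResidual
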