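import Cfsg.Agent.Lib.MaxClassResidual.Weights
import Cfsg.Agent.Lib.MaxClassResidual.Window
import Cfsg.Agent.Lib.MaxClassResidual.Omega
import Cfsg.Agent.Lib.MaxClassResidual.HH
import Mathlib.LinearAlgebra.Quotient.Basic

/-!
Rigidity of a group of automorphisms of the two-step centralizer having the image of the group as a
Sylow subgroup.
-/

set_option autoImplicit false
set_option linter.unusedSectionVars false
set_option linter.style.haveILetI false

namespace CfsgLib.MaxClassResidual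

open scoped commutatorElement
open Subgroup
open CfsgLib.PolySeq (fil fil_antitone fil_commutator_mem)
open MaxClassEssential (Vec vec lin)

/-- Automorphisms of `T` with the image of the group as a Sylow subgroup. -/
structure HData (p : ℕ) [Fact p.Prime] (S : Type*) [Group S] [Finite S] extends Frame p S where
  hp : 5 ≤ p
  H : Subgroup (MulAut toFrame.T)
  hSH : ∀ g : S, toFrame.cT g ∈ H
  hSyl : ¬ p ∣ toFrame.cT.range.relIndex H

namespace Frame

variable {p : ℕ} [hpf : Fact p.Prime] {S : Type*} [Group S] [Finite S] (D : Frame p S)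

instance : Finite (MulAut D.T) := Finite.of_injective (fun f => (f : D.T → D.T)) DFunLike.coe_injective

instance fact_omega : Fact (IsPGroup p (omegaOne p D.T)) := ⟨(D.hS.to_subgroup D.T).to_subgroup _⟩

theorem cT_conj_T (α : MulAut D.T) (t : D.T) : α * D.cT (t : S) * α⁻¹ = D.cT ((α t : D.T) : S) := by
  refine MulEquiv.ext fun u => Subtype.ext ?_
  have e : D.cT (t : S) (α⁻¹ u) = t * α⁻¹ u * t⁻¹ := Subtype.ext (by
    rw [D.coe_cT, Subgroup.coe_mul, Subgroup.coe_mul, Subgroup.coe_inv])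
  rw [MulAut.mul_apply, MulAut.mul_apply, e, map_mul, map_mul, map_inv, MulAut.apply_inv_self, D.coe_cT,
    Subgroup.coe_mul, Subgroup.coe_mul, Subgroup.coe_inv]

/-- It suffices to normalise the image of one element outside `T`. -/
theorem normS_of {α : MulAut D.T} {x g : S} (hx : x ∉ D.T) (h : α * D.cT x * α⁻¹ = D.cT g) : D.NormS α := by
  intro y
  obtain ⟨i, hi⟩ := CfsgLib.MaxClassDegree.pow_mem_of_not_mem D.hn3 D.hG D.hc D.T_index hx y
  obtain ⟨t, ht⟩ : ∃ t : D.T, (t : S) = (x ^ i)⁻¹ * y := ⟨⟨_, hi⟩, rfl⟩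
  refine ⟨g ^ i * ((α t : D.T) : S), ?_⟩
  have e1 : y = x ^ i * (t : S) := by rw [ht, mul_inv_cancel_left]
  rw [e1, map_mul, map_mul, map_pow, map_pow, ← D.cT_conj_T α t, ← h, conj_pow]
  group

theorem mem_stab_Z (α : MulAut D.T) (h : ∀ u : D.T, (u : S) ∈ fil S (D.n - 2) → ((α u : D.T) : S) ∈ fil S (D.n - 2)) :
    α ∈ stabW ((fil S (D.n - 2)).subgroupOf D.T) :=
  mem_stabW_of_le fun w hw => mem_subgroupOf.mpr (h w (mem_subgroupOf.mp hw))

/-- A `p'`-group of automorphisms fixing the last two layers commutes with the normalising elements. -/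
theorem commute_fixing (hp5 : 5 ≤ p) {K : Subgroup (MulAut D.T)} (hK : ¬ p ∣ Nat.card K) {x : S}
    (hfix : ∀ k ∈ K, ∀ u : D.T, (u : S) ∈ fil S (D.n - 2) → k u = u)
    (hx : D.cT x ∈ normalizer (K : Set (MulAut D.T))) : ∀ k ∈ K, D.cT x * k = k * D.cT x := by
  classical
  have hn := D.h4
  set E := omegaOne p D.T
  let Z : Submodule (ZMod p) (Vec p E) :=
    Submodule.span (ZMod p) {v | ∃ u : E, ((u : D.T) : S) ∈ fil S (D.n - 2) ∧ vec u = v}
  set G := stabW ((fil S (D.n - 2)).subgroupOf D.T)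
  let L : G →* Module.End (ZMod p) (Vec p E) := lin.comp ((resO p D.T).comp G.subtype)
  have hL : ∀ (g : G) (u : E), L g (vec u) = vec (resO p D.T g u) := fun g u => rfl
  have hinv : ∀ g : G, Z ≤ Z.comap (L g) := fun g => by
    rw [Submodule.span_le]
    rintro _ ⟨u, hu, rfl⟩
    exact Submodule.subset_span ⟨resO p D.T g u,
      mem_subgroupOf.mp ((g.2 (u : D.T)).mpr (mem_subgroupOf.mpr hu)), rfl⟩
  let σ : G →* Module.End (ZMod p) (Vec p E ⧸ Z) :=
    { toFun := fun g => Z.mapQ Z (L g) (hinv g)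
      map_one' := LinearMap.ext fun v => by
        obtain ⟨v, rfl⟩ := Submodule.Quotient.mk_surjective Z v
        simp
      map_mul' := fun a b => LinearMap.ext fun v => by
        obtain ⟨v, rfl⟩ := Submodule.Quotient.mk_surjective Z v
        simp }
  have hσ : ∀ (g : G) (v : Vec p E), σ g (Submodule.Quotient.mk v) = Submodule.Quotient.mk (L g v) := fun g v => rfl
  have hxG : D.cT x ∈ G := D.mem_stab_Z _ fun u hu => by
    rw [D.coe_cT]; exact (CfsgLib.PolySeq.fil_normal (G := S) _).conj_mem _ hu x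
  have hKG : K ≤ G := fun k hk => D.mem_stab_Z k fun u hu => by rw [hfix k hk u hu]; exact hu
  -- the degree
  let j₀ : ℕ := if p + 2 ≤ D.n then D.n - p + 1 else 1
  have hj₀ : 1 ≤ j₀ := by simp only [j₀]; split_ifs <;> omega
  have hE : ∀ u ∈ E, ((u : D.T) : S) ∈ D.Tf j₀ := by
    intro u hu
    have hle : E ≤ (D.Tf j₀).subgroupOf D.T := by
      rw [show E = omegaOne p D.T from rfl, omegaOne, closure_le]
      intro w hw
      show (w : S) ∈ D.Tf j₀
      simp only [j₀]
      split_ifs with h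
      · rw [D.Tf_of_two (by omega)]
        exact D.order_p_window (by omega) h w.2 (by rw [← SubmonoidClass.coe_pow, (hw : w ^ p = 1)]; rfl)
      · rw [D.Tf_of_le le_rfl]; exact w.2
    exact mem_subgroupOf.mp (hle hu)
  have hstep : ∀ (m : ℕ) (u : E), ∃ w : E, ((w : D.T) : S) ∈ D.Tf (j₀ + m) ∧
      ((L ⟨_, hxG⟩ - 1) ^ m) (vec u) = vec w := by
    intro m u
    induction m with
    | zero => exact ⟨u, by rw [Nat.add_zero]; exact hE _ u.2, by simp⟩
    | succ m ih =>
      obtain ⟨w, hw, he⟩ := ih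
      refine ⟨resO p D.T (D.cT x) w * w⁻¹, ?_, ?_⟩
      · have e : (((resO p D.T (D.cT x) w * w⁻¹ : E) : D.T) : S) = ⁅((w : D.T) : S), x⁆⁻¹ := by
          rw [Subgroup.coe_mul, Subgroup.coe_mul, Subgroup.coe_inv, Subgroup.coe_inv, resO_coe, D.coe_cT,
            commutatorElement_def]
          group
        rw [e, D.Tf_of_two (by omega), ← add_assoc]
        exact inv_mem (Frame.comm_mem_succ (D := D) (by omega) hw x)
      · rw [pow_succ', Module.End.mul_apply, he, LinearMap.sub_apply, Module.End.one_apply, hL,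
          MaxClassEssential.vec_mul, MaxClassEssential.vec_inv, sub_eq_add_neg]
  have hpow : (σ ⟨_, hxG⟩ - 1) ^ (p - 2) = 0 := by
    refine LinearMap.ext fun v => ?_
    obtain ⟨v, rfl⟩ := Submodule.Quotient.mk_surjective Z v
    have hq : ∀ (m : ℕ) (v : Vec p E), ((σ ⟨_, hxG⟩ - 1) ^ m) (Submodule.Quotient.mk v) =
        Submodule.Quotient.mk (((L ⟨_, hxG⟩ - 1) ^ m) v) := by
      intro m
      induction m with
      | zero => intro v; simp
      | succ m ih =>
        intro v
        rw [pow_succ', Module.End.mul_apply, ih, pow_succ', Module.End.mul_apply]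
        simp [hσ]
    obtain ⟨u, rfl⟩ := MaxClassEssential.vec_surjective v
    obtain ⟨w, hw, he⟩ := hstep (p - 2) u
    rw [hq, he, LinearMap.zero_apply, Submodule.Quotient.mk_eq_zero]
    refine Submodule.subset_span ⟨w, ?_, rfl⟩
    have hj : D.n - 2 ≤ j₀ + (p - 2) := by simp only [j₀]; split_ifs <;> omega
    exact fil_antitone hj (D.Tf_le_fil hw)
  -- Hall and Higman on the quotient
  haveI : Finite (Vec p E ⧸ Z) := Finite.of_surjective _ (Submodule.Quotient.mk_surjective Z)
  haveI : Finite (Module.End (ZMod p) (Vec p E ⧸ Z)) :=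
    Finite.of_injective (fun f => (f : Vec p E ⧸ Z → Vec p E ⧸ Z)) DFunLike.coe_injective
  let ψ := σ.toHomUnits
  have hKψ : ¬ p ∣ Nat.card ((K.subgroupOf G).map ψ) := fun hd => hK
    ((hd.trans (card_map_dvd _ _)).trans (Nat.card_congr (subgroupOfEquivOfLe hKG).toEquiv).dvd)
  have hxψ : ψ ⟨_, hxG⟩ ∈ normalizer ((K.subgroupOf G).map ψ : Set (Module.End (ZMod p) (Vec p E ⧸ Z))ˣ) := by
    refine le_normalizer_map ψ (mem_map_of_mem ψ ?_)
    exact mem_normalizer_iff.mpr fun g => mem_normalizer_iff.mp hx (g : MulAut D.T)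
  have hcomm := commute_of_sub_one_pow (p := p) hp5 (Units.coeHom _) Units.val_injective hKψ hxψ
    (by rw [Units.coeHom_apply]; exact hpow)
  intro k hk
  have h1 := hcomm (ψ ⟨k, hKG hk⟩) (mem_map_of_mem ψ (mem_subgroupOf.mpr hk))
  set c : MulAut D.T := D.cT x * k * (D.cT x)⁻¹ * k⁻¹ with hc
  have hcK : c ∈ K := mul_mem ((mem_normalizer_iff.mp hx k).mp hk) (inv_mem hk)
  have hσc : σ ⟨c, hKG hcK⟩ = 1 := by
    have h2 : ψ ⟨c, hKG hcK⟩ = 1 := by
      have e : (⟨c, hKG hcK⟩ : G) = ⟨_, hxG⟩ * ⟨k, hKG hk⟩ * (⟨_, hxG⟩ : G)⁻¹ * (⟨k, hKG hk⟩ : G)⁻¹ := rfl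
      rw [e, map_mul, map_mul, map_mul, map_inv, map_inv, h1, mul_inv_cancel_right, mul_inv_cancel]
    exact congrArg Units.val h2
  set A := L ⟨c, hKG hcK⟩ with hA
  have hZ0 : Z ≤ LinearMap.ker (A - 1) := by
    rw [Submodule.span_le]
    rintro _ ⟨u, hu, rfl⟩
    show (A - 1) (vec u) = 0
    rw [LinearMap.sub_apply, Module.End.one_apply, hA, hL, sub_eq_zero]
    exact congrArg vec (Subtype.ext (hfix c hcK _ hu))
  have hsq : (A - 1) ^ 2 = 0 := by
    refine LinearMap.ext fun v => ?_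
    rw [pow_two, Module.End.mul_apply, LinearMap.zero_apply]
    refine hZ0 ?_
    rw [← Submodule.Quotient.mk_eq_zero, LinearMap.sub_apply, Module.End.one_apply, Submodule.Quotient.mk_sub,
      ← hσ, hσc, Module.End.one_apply, sub_self]
  have hAp : A ^ p = 1 := MaxClassEssential.pow_prime_eq_one p (d := 2) (by omega) hsq
  have hco : (orderOf c).Coprime p :=
    ((hpf.out.coprime_iff_not_dvd.mpr hK).symm).coprime_dvd_left (Subgroup.orderOf_dvd_natCard K hcK)
  have hA1 : A = 1 := by
    have h1 : A ^ orderOf c = 1 := by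
      rw [hA, ← map_pow, show (⟨c, hKG hcK⟩ : G) ^ orderOf c = 1 from Subtype.ext (pow_orderOf_eq_one c), map_one]
    rw [← orderOf_eq_one_iff]
    exact Nat.eq_one_of_dvd_coprimes hco (orderOf_dvd_of_pow_eq_one h1) (orderOf_dvd_of_pow_eq_one hAp)
  have h3 : c = 1 := eq_one_of_lin_resO (p := p) (by omega) (D.hS.to_subgroup D.T) hco hA1
  rwa [hc, mul_inv_eq_one, mul_inv_eq_iff_eq_mul] at h3

end Frame

namespace HData

variable {p : ℕ} [hpf : Fact p.Prime] {S : Type*} [Group S] [Finite S] (D : HData p S)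

/-- The inner automorphisms of `T`. -/
def innT : Subgroup (MulAut D.T) := D.T.map D.cT

theorem innT_le_range : D.innT ≤ D.cT.range := map_le_range _ _

theorem isPGroup_range : IsPGroup p D.cT.range :=
  D.toFrame.hS.of_surjective D.cT.rangeRestrict D.cT.rangeRestrict_surjective

theorem relIndex_innT_dvd : D.innT.relIndex D.cT.range ∣ p := by
  have h : (D.innT.subgroupOf D.cT.range).index ∣ D.T.index := by
    have h1 := index_map_dvd D.T (f := D.cT.rangeRestrict) D.cT.rangeRestrict_surjective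
    convert h1 using 2
    ext ⟨a, ha⟩
    simp only [mem_subgroupOf, innT, mem_map]
    exact ⟨fun ⟨t, ht, e⟩ => ⟨t, ht, Subtype.ext e⟩, fun ⟨t, ht, e⟩ => ⟨t, ht, congrArg Subtype.val e⟩⟩
  rw [D.toFrame.T_index] at h
  exact h

/-- An automorphism of `H` of order prime to `p` fixing the last two layers is trivial. -/
theorem eq_one_of_fix {α : MulAut D.T} (hα : α ∈ D.H) (ho : (orderOf α).Coprime p)
    (hfix : ∀ u : D.T, (u : S) ∈ fil S (D.n - 2) → α u = u) : α = 1 := by
  classical
  have hn := D.h4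
  set K := D.H ⊓ fixW ((fil S (D.n - 2)).subgroupOf D.T) with hKdef
  have hmemfix : ∀ {k}, k ∈ fixW ((fil S (D.n - 2)).subgroupOf D.T) ↔
      ∀ u : D.T, (u : S) ∈ fil S (D.n - 2) → k u = u :=
    fun {k} => ⟨fun h u hu => h u (mem_subgroupOf.mpr hu), fun h u hu => h u (mem_subgroupOf.mp hu)⟩
  have hNK : D.innT ≤ K := by
    rintro _ ⟨t, ht, rfl⟩
    refine ⟨D.hSH t, hmemfix.mpr fun u hu => Subtype.ext ?_⟩
    rw [D.toFrame.coe_cT, ← D.toFrame.fil_last_central hu ht, mul_inv_cancel_right]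
  have hnorm : ∀ β : MulAut D.T, β ∈ normalizer (D.innT : Set (MulAut D.T)) := fun β => by
    have key : ∀ β : MulAut D.T, ∀ a ∈ D.innT, β * a * β⁻¹ ∈ D.innT := by
      rintro β _ ⟨t, ht, rfl⟩
      exact ⟨_, (β ⟨t, ht⟩).2, (D.toFrame.cT_conj_T β ⟨t, ht⟩).symm⟩
    refine mem_normalizer_iff.mpr fun a => ⟨key β a, fun h => ?_⟩
    have h' := key β⁻¹ _ h
    simpa [mul_assoc] using h'
  obtain ⟨x, hx⟩ := D.toFrame.exists_not_mem
  -- no Sylow subgroup of `H` fixes the last two layers
  have hIp : IsPGroup p D.innT := D.isPGroup_range.to_le D.innT_le_range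
  obtain ⟨a, ha⟩ := IsPGroup.iff_card.mp hIp
  have hndvd : ¬ p ∣ D.innT.relIndex K := by
    intro hd
    obtain ⟨Q, hQ⟩ := (hIp.comap_of_injective _ K.subtype_injective).exists_le_sylow
    have hQlt : Nat.card D.innT < Nat.card (Q : Subgroup K) := by
      have h1 : Nat.card D.innT * D.innT.relIndex K = Nat.card K := by
        have := (D.innT.subgroupOf K).card_mul_index
        rwa [Nat.card_congr (subgroupOfEquivOfLe hNK).toEquiv] at this
      obtain ⟨c, hc⟩ := hd
      have h2 : p ^ (a + 1) ∣ Nat.card K := ⟨c, by rw [← h1, ha, hc, pow_succ]; ring⟩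
      have h3 : p ^ (a + 1) ∣ Nat.card (Q : Subgroup K) := Q.pow_dvd_card_of_pow_dvd_card h2
      rw [ha]
      exact lt_of_lt_of_le (Nat.pow_lt_pow_right hpf.out.one_lt (Nat.lt_succ_self a))
        (Nat.le_of_dvd Nat.card_pos h3)
    let PS : Sylow p D.H := (show IsPGroup p (D.cT.range.subgroupOf D.H) from
      D.isPGroup_range.comap_of_injective _ D.H.subtype_injective).toSylow D.hSyl
    let j : K →* D.H := Subgroup.inclusion inf_le_left
    obtain ⟨R, hR⟩ := (Q.2.map j).exists_le_sylow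
    obtain ⟨h, hh⟩ := MulAction.exists_smul_eq D.H PS R
    have hle : ((Q : Subgroup K).map K.subtype) ≤ D.cT.range.map (MulAut.conj (h : MulAut D.T)).toMonoidHom := by
      rintro _ ⟨q, hq, rfl⟩
      have h1 : j q ∈ (R : Subgroup D.H) := hR (mem_map_of_mem j hq)
      rw [← hh] at h1
      obtain ⟨r, hr, e⟩ := h1
      exact ⟨(r : MulAut D.T), mem_subgroupOf.mp hr, congrArg Subtype.val e⟩
    have hcQ : Nat.card ((Q : Subgroup K).map K.subtype) = Nat.card (Q : Subgroup K) :=
      card_map_of_injective K.subtype_injective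
    have hcR : Nat.card (D.cT.range.map (MulAut.conj (h : MulAut D.T)).toMonoidHom) = Nat.card D.cT.range :=
      card_map_of_injective (MulAut.conj (h : MulAut D.T)).injective
    have heq : (Q : Subgroup K).map K.subtype = D.cT.range.map (MulAut.conj (h : MulAut D.T)).toMonoidHom := by
      refine eq_of_le_of_card_ge hle ?_
      rw [hcR, hcQ]
      obtain ⟨b, hb⟩ := IsPGroup.iff_card.mp Q.2
      have h4 : Nat.card D.innT * D.innT.relIndex D.cT.range = Nat.card D.cT.range := by
        have := (D.innT.subgroupOf D.cT.range).card_mul_index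
        rwa [Nat.card_congr (subgroupOfEquivOfLe D.innT_le_range).toEquiv] at this
      rw [← h4, hb]
      rw [hb, ha, Nat.pow_lt_pow_iff_right hpf.out.one_lt] at hQlt
      calc Nat.card D.innT * D.innT.relIndex D.cT.range ≤ p ^ a * p :=
            Nat.mul_le_mul ha.le (Nat.le_of_dvd hpf.out.pos D.relIndex_innT_dvd)
        _ = p ^ (a + 1) := (pow_succ p a).symm
        _ ≤ p ^ b := Nat.pow_le_pow_right hpf.out.pos hQlt
    -- then an element outside `T` fixes too much
    set Z := (fil S (D.n - 2)).subgroupOf D.T with hZ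
    have hcx : ∀ u ∈ Z, ((h : MulAut D.T)⁻¹ u : D.T) ∈ (centralizer ({x} : Set S)).subgroupOf D.T := by
      intro u hu
      have hm : (h : MulAut D.T) * D.cT x * (h : MulAut D.T)⁻¹ ∈ K := by
        have h5 : (MulAut.conj (h : MulAut D.T)) (D.cT x) ∈ (Q : Subgroup K).map K.subtype :=
          heq.ge (mem_map_of_mem _ ⟨x, rfl⟩)
        exact map_subtype_le _ h5
      have h6 := hm.2 u hu
      rw [MulAut.mul_apply, MulAut.mul_apply] at h6
      have h7 := congrArg (fun v => ((((h : MulAut D.T)⁻¹) v : D.T) : S)) h6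
      simp only [MulAut.inv_apply_self, D.toFrame.coe_cT] at h7
      rw [mem_subgroupOf, mem_centralizer_singleton_iff]
      exact (mul_inv_eq_iff_eq_mul.mp h7).symm
    have hcard : Nat.card Z ≤ Nat.card ((centralizer ({x} : Set S)).subgroupOf D.T) :=
      Nat.card_le_card_of_injective (fun u => (⟨_, hcx u u.2⟩ : (centralizer ({x} : Set S)).subgroupOf D.T))
        fun u v e => Subtype.ext ((h : MulAut D.T)⁻¹.injective (congrArg Subtype.val e))
    rw [hZ, Nat.card_congr (subgroupOfEquivOfLe (fun u hu => D.toFrame.fil_two_le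
      (fil_antitone (by omega) hu))).toEquiv, D.toFrame.card_fil (by omega) (by omega)] at hcard
    have hlt : Nat.card ((centralizer ({x} : Set S)).subgroupOf D.T) < p ^ 2 := by
      rw [← D.toFrame.good hx, ← card_map_of_injective D.T.subtype_injective, subgroupOf_map_subtype]
      refine lt_of_le_of_ne (card_le_of_le inf_le_left) fun e => hx ?_
      exact ((eq_of_le_of_card_ge inf_le_left e.ge).ge (mem_centralizer_singleton_iff.mpr rfl)).2
    rw [show D.n - (D.n - 2) = 2 by omega] at hcard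
    omega
  have hcop : (Nat.card D.innT).Coprime (D.innT.relIndex K) := by
    rw [ha]
    exact Nat.Coprime.pow_left a (hpf.out.coprime_iff_not_dvd.mpr hndvd)
  have hsol : Group.IsSolvable D.innT := by
    haveI := hIp.isNilpotent
    infer_instance
  obtain ⟨K₀, hK₀, hK₀c, hprod, hinvar⟩ := exists_invariant_complement hNK (fun k _ => hnorm k) hcop hsol
  have hK₀p : ¬ p ∣ Nat.card K₀ := by rw [hK₀c]; exact hndvd
  have hxK : D.cT x ∈ normalizer (K : Set (MulAut D.T)) := by
    have key : ∀ g : S, ∀ k ∈ K, D.cT g * k * (D.cT g)⁻¹ ∈ K := by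
      intro g k hk
      obtain ⟨hk1, hk2⟩ := mem_inf.mp hk
      refine mem_inf.mpr ⟨mul_mem (mul_mem (D.hSH g) hk1) (inv_mem (D.hSH g)), hmemfix.mpr fun u hu => ?_⟩
      have hu' : (((D.cT g)⁻¹ u : D.T) : S) ∈ fil S (D.n - 2) := by
        rw [← map_inv, D.toFrame.coe_cT]
        exact (CfsgLib.PolySeq.fil_normal (G := S) _).conj_mem _ hu _
      rw [MulAut.mul_apply, MulAut.mul_apply, hmemfix.mp hk2 _ hu', MulAut.apply_inv_self]
    refine mem_normalizer_iff.mpr fun k => ⟨key x k, fun h => ?_⟩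
    have h' := key x⁻¹ _ h
    simpa [map_inv, mul_assoc] using h'
  obtain ⟨e, ⟨t, ht, rfl⟩, hex⟩ := hinvar _ hxK (hnorm _)
  rw [← map_mul] at hex
  have hx' : t * x ∉ D.T := fun h => hx (by simpa using mul_mem (inv_mem ht) h)
  have hcomm := D.toFrame.commute_fixing D.hp hK₀p (fun k hk u hu => hmemfix.mp (hK₀ hk).2 u hu) hex
  have hK₀1 : ∀ k ∈ K₀, k = 1 := by
    intro k hk
    have hk' : k * D.cT (t * x) * k⁻¹ = D.cT (t * x) := by rw [← hcomm k hk, mul_inv_cancel_right]
    have hns := D.toFrame.normS_of hx' hk'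
    have hxw : D.toFrame.XWt k (t * x) 1 := ⟨1, one_mem _, by rw [pow_one, mul_one]; exact hk'⟩
    obtain ⟨b, hb⟩ := D.toFrame.exists_wt hns le_rfl
    have hf := D.toFrame.wt_formula hns hx' hxw hb
    have h1 : D.toFrame.HasWt k (D.n - 1) 1 := fun u hu => by
      rw [D.toFrame.Tf_of_two (by omega)] at hu
      rw [hmemfix.mp (hK₀ hk).2 u (fil_antitone (by omega) hu), pow_one, inv_mul_cancel]
      exact one_mem _
    have hb1 := D.toFrame.wt_unique (by omega) (by omega) (hf (D.n - 1) (by omega)) h1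
    rw [one_pow, mul_one] at hb1
    refine D.toFrame.eq_one_of_wt (((hpf.out.coprime_iff_not_dvd.mpr hK₀p).symm).coprime_dvd_left
      (Subgroup.orderOf_dvd_natCard K₀ hk)) fun i hi => ?_
    exact D.toFrame.wt_congr hi (by rw [one_pow, mul_one]; exact hb1) (hf i hi)
  obtain ⟨e, he, k₀, hk₀, rfl⟩ := hprod α ⟨hα, hmemfix.mpr hfix⟩
  rw [hK₀1 k₀ hk₀, mul_one] at ho ⊢
  exact eq_one_of_pGroup_of_coprime hIp he ho

end HData

end CfsgLib.MaxClassResidual
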