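import Cfsg.Agent.Lib.MaxClassResidual.Build
import Cfsg.Agent.Lib.MaxClassResidual.Omega
import Cfsg.Agent.Lib.MaxClassResidual.Window
import Cfsg.Agent.Lib.MaxClassResidual.PearlShape
import Cfsg.Agent.Lib.MaxClassEssential.IndexP
import Cfsg.Agent.Lib.TausskyTwo

/-!
The essential subgroups of a group of maximal class outside the residual configuration: those with an
element outside both two-step centralizers, and those in an abelian two-step centralizer.
-/

set_option autoImplicit false
set_option linter.unusedSectionVars false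
set_option linter.style.haveILetI false

namespace CfsgLib.MaxClassResidual

open Cfsg Cfsg.FusionSystem Subgroup
open scoped commutatorElement
open CfsgLib.PolySeq (fil fil_antitone fil_commutator_mem)
open CfsgLib.MaxClassGood (twoStep mem_twoStep)

variable {Ω : Type*} [Group Ω] {S : Subgroup Ω} [Finite S] {p : ℕ} [hpf : Fact p.Prime] {F : FusionSystem S}
  {n : ℕ}

/-- The shapes of a pearl. -/
def IsPearlShape (p : ℕ) (E : Subgroup Ω) : Prop :=
  (Nat.card E = p ^ 2 ∧ Cfsg.IsElementaryAbelian p E) ∨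
    (Nat.card E = p ^ 3 ∧ Cfsg.IsExtraspecial p E ∧ (p ≠ 2 → Monoid.exponent E = p) ∧
      (p = 2 → Nonempty (E ≃* QuaternionGroup 2)))

theorem IsPearlShape.card_le {E : Subgroup Ω} (h : IsPearlShape p E) : Nat.card E ≤ p ^ 3 := by
  rcases h with ⟨h, -⟩ | ⟨h, -⟩
  · exact h ▸ Nat.pow_le_pow_right hpf.out.pos (by norm_num)
  · exact h.le

/-- An essential subgroup with an element outside both two-step centralizers is a pearl. -/
theorem good_case (hS : IsPGroup p S) (hn : 3 ≤ n) (hG : Nat.card S = p ^ n)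
    (hc : Group.nilpotencyClass S = n - 1) (hF : F.IsSaturated p) {E : Subgroup Ω} (hE : F.IsEssential p E)
    {y : S} (hyE : (y : Ω) ∈ E) (hy2 : y ∉ fil S 2) (hy1 : y ∉ twoStep S 2) (hyl : y ∉ twoStep S (n - 2)) :
    IsPearlShape p E := by
  have hpp : p.Prime := hpf.out
  have hES := hE.1.1
  haveI : Finite E := FusionSystem.finite_of_le hES
  have hy : Nat.card (centralizer ({y} : Set S)) = p ^ 2 :=
    CfsgLib.MaxClassFusion.card_centralizer_eq hn hG hc hy2 fun _ => ⟨hy1, hyl⟩
  set H := E.subgroupOf S with hH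
  have hyH : y ∈ H := hyE
  have hcen : centralizer (H : Set S) ≤ H :=
    centralizer_le H (by rw [hH, subgroupOf_map_subtype, inf_eq_left.mpr hES]; exact hE.1)
  have hzH : fil S (n - 1) ≤ H := fun z hz => hcen (mem_centralizer_iff.mpr fun h _ => by
    have h1 := fil_commutator_mem hz (show h ∈ fil S 1 from mem_top _)
    rw [CfsgLib.MaxClassRank.fil_eq_bot hn hG hc (by omega), mem_bot] at h1
    exact (commutatorElement_eq_one_iff_mul_comm.mp h1).symm)
  have hCH : centralizer ({y} : Set S) ≤ H := by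
    have hle : zpowers y ⊔ fil S (n - 1) ≤ centralizer ({y} : Set S) := by
      refine sup_le (zpowers_le.mpr (mem_centralizer_singleton_iff.mpr rfl)) fun z hz => ?_
      have h1 := fil_commutator_mem hz (show y ∈ fil S 1 from mem_top _)
      rw [CfsgLib.MaxClassRank.fil_eq_bot hn hG hc (by omega), mem_bot] at h1
      exact mem_centralizer_singleton_iff.mpr (commutatorElement_eq_one_iff_mul_comm.mp h1)
    have hlt : fil S (n - 1) < zpowers y ⊔ fil S (n - 1) := lt_of_le_of_ne le_sup_right fun e =>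
      hy2 (fil_antitone (by omega) (e.ge (mem_sup_left (mem_zpowers y))))
    have h1 : Nat.card (fil S (n - 1)) < Nat.card ↥(zpowers y ⊔ fil S (n - 1)) :=
      lt_of_le_of_ne (card_le_of_le hlt.le) fun e => hlt.ne (eq_of_le_of_card_ge hlt.le e.ge)
    obtain ⟨r, -, hr⟩ := (Nat.dvd_prime_pow hpp).mp (hG ▸ card_subgroup_dvd_card (zpowers y ⊔ fil S (n - 1)))
    rw [hr, CfsgLib.MaxClassRank.card_fil hn hG hc (by omega) (by omega), Nat.pow_lt_pow_iff_right hpp.one_lt] at h1
    rw [← eq_of_le_of_card_ge hle (by rw [hy, hr]; exact Nat.pow_le_pow_right hpp.pos (by omega))]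
    exact sup_le (zpowers_le.mpr hyH) hzH
  obtain ⟨m, -, hm⟩ := (Nat.dvd_prime_pow hpp).mp (hG ▸ card_subgroup_dvd_card H)
  have hcardE : Nat.card E = p ^ m := by rw [← hm, hH, card_subgroupOf hES]
  have hm2 : 2 ≤ m := (Nat.pow_le_pow_iff_right hpp.one_lt).mp (hy ▸ hm ▸ card_le_of_le hCH)
  let ι : E →* S := Subgroup.inclusion hES
  have hyE' : Nat.card (centralizer ({(⟨y, hyE⟩ : E)} : Set E)) = p ^ 2 := by
    rw [← hy]
    refine Nat.card_congr (Equiv.ofBijective
      (fun e => (⟨ι e, mem_centralizer_singleton_iff.mpr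
        (Subtype.ext (congrArg Subtype.val (mem_centralizer_singleton_iff.mp e.2) :))⟩ : centralizer ({y} : Set S)))
      ⟨fun a b h => ?_, fun c => ?_⟩)
    · exact Subtype.ext (Subgroup.inclusion_injective hES (congrArg Subtype.val h))
    · refine ⟨⟨⟨((c : S) : Ω), hCH c.2⟩, mem_centralizer_singleton_iff.mpr (Subtype.ext ?_)⟩, Subtype.ext rfl⟩
      have h : (c : S) * y = y * (c : S) := mem_centralizer_singleton_iff.mp c.2
      exact (congrArg Subtype.val h :)
  rcases eq_or_lt_of_le hm2 with h | h3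
  · subst h
    obtain ⟨hab, hex⟩ := Cfsg.EssentialSmall.elementary_of_card_sq hS hF hE hcardE
    exact Or.inl ⟨hcardE, ⟨⟨hab⟩⟩, fun a ha => congrArg Subtype.val (hex ⟨a, ha⟩)⟩
  have hcE : Group.nilpotencyClass E = m - 1 := CfsgLib.MaximalClass.class_of_centralizer hcardE hyE'
  rcases eq_or_lt_of_le (show 3 ≤ m by omega) with h | h4
  · subst h
    have hnab : ¬ ∀ a b : E, a * b = b * a := fun hab => by
      obtain ⟨a, b, hne⟩ := CfsgLib.MaximalClass.exists_noncomm le_rfl hcardE hcE
      exact hne (hab a b)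
    refine Or.inr ⟨hcardE, (Cfsg.EssentialSmall.extraspecial_cube hcardE hnab).1, fun hp2 => ?_, fun hp2 => ?_⟩
    · refine ((Nat.dvd_prime hpp).mp (Monoid.exponent_dvd_of_forall_pow_eq_one fun x =>
        Cfsg.EssentialSmall.exponent_cube hS hF hE hcardE hnab hp2 x)).resolve_left fun h1 => ?_
      rw [Monoid.exp_eq_one_iff] at h1
      rw [@Nat.card_of_subsingleton E 1 h1] at hcardE
      exact absurd hcardE (Nat.one_lt_pow (by omega) hpp.one_lt).ne
    · subst hp2
      exact Cfsg.EssentialSmall.quaternion_cube hS hF hE hcardE hnab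
  exfalso
  have hn' : 3 ≤ m := by omega
  let C : Fin (m + 1) → Subgroup E := fun i =>
    if i.val + 2 ≤ m then fil E (m - i.val) else if i.val + 1 = m then twoStep E 2 else ⊤
  have htI := CfsgLib.MaxClassGood.twoStep_index hn' hcardE hcE (k := 2) le_rfl (by omega)
  have hf2I := CfsgLib.MaxClassDegree.fil_two_index hn' hcardE hcE
  refine Cfsg.EssentialSmall.false_of_series hS hF hE C ?_ ?_ ?_ ?_
  · show (if _ then _ else _) = ⊥
    rw [if_pos (by simp only [Fin.val_zero]; omega)]
    exact CfsgLib.MaxClassRank.fil_eq_bot hn' hcardE hcE (by simp)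
  · show (if _ then _ else _) = ⊤
    rw [if_neg (by simp only [Fin.val_last]; omega), if_neg (by simp only [Fin.val_last]; omega)]
  · intro α _ i x hx
    simp only [C] at hx ⊢
    split_ifs at hx ⊢ with h1 h2
    · exact CfsgLib.MaxClassDegree.map_fil_mem α hx
    · exact CfsgLib.MaxClassDegree.map_twoStep_mem α hx
    · trivial
  · intro i
    simp only [C, Fin.val_castSucc, Fin.val_succ]
    have hi := i.isLt
    split_ifs with a b c d e <;> first | omega | skip
    · set j := m - (i.val + 1) with hj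
      rw [show m - i.val = j + 1 by omega]
      have hle : fil E (j + 1) ≤ fil E j := fil_antitone (Nat.le_succ j)
      have h1 : Nat.card (fil E (j + 1)) * (fil E (j + 1)).relIndex (fil E j) = Nat.card (fil E j) := by
        rw [← relIndex_bot_left, ← relIndex_bot_left, relIndex_mul_relIndex _ _ _ bot_le hle]
      rw [CfsgLib.MaxClassRank.card_fil hn' hcardE hcE (by omega) (by omega),
        CfsgLib.MaxClassRank.card_fil hn' hcardE hcE (by omega) (by omega),
        show m - j = m - (j + 1) + 1 by omega, pow_succ] at h1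
      exact dvd_of_eq (Nat.eq_of_mul_eq_mul_left (pow_pos hpp.pos _) h1)
    · rw [show m - i.val = 2 by omega]
      have h1 := relIndex_mul_index (CfsgLib.MaxClassGood.fil_le_twoStep (S := E) 2)
      rw [htI, hf2I, pow_two] at h1
      exact dvd_of_eq (Nat.eq_of_mul_eq_mul_right hpp.pos h1)
    · rw [relIndex_top_right, htI]

/-- A self-centralizing subgroup of an abelian subgroup is the whole of it. -/
theorem eq_of_commutative {K T : Subgroup S} (hab : ∀ a ∈ T, ∀ b ∈ T, a * b = b * a) (hKT : K ≤ T)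
    (hcen : centralizer (K : Set S) ≤ K) : K = T :=
  le_antisymm hKT fun t ht => hcen (mem_centralizer_iff.mpr fun k hk => hab k (hKT hk) t ht)

/-- For `p = 2` the two-step centralizer is abelian. -/
theorem twoStep_comm_two [Fact (Nat.Prime 2)] (hn : 3 ≤ n) (h4 : 4 ≤ n) (hG : Nat.card S = 2 ^ n)
    (hc : Group.nilpotencyClass S = n - 1) : ∀ a ∈ twoStep S 2, ∀ b ∈ twoStep S 2, a * b = b * a := by
  have hf : fil S 2 = commutator S := Subgroup.top_lowerCentralSeries_one
  have h4' : (commutator S).index = 4 := by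
    rw [← hf, CfsgLib.MaxClassDegree.fil_two_index hn hG hc]; norm_num
  obtain ⟨a, ha⟩ := CfsgLib.TausskyTwo.exists_cyclic_index_two _ S rfl (IsPGroup.of_card hG) h4'
    (fun g => CfsgLib.MaximalClass.pow_mem_commutator hn hG hc g)
    (hG ▸ (show 8 ≤ 2 ^ n from le_trans (by norm_num) (Nat.pow_le_pow_right (by norm_num) hn)))
  have hAi : (zpowers a).index = 2 := by
    have h3 := (zpowers a).card_mul_index
    rw [Nat.card_zpowers, ← ha] at h3
    exact Nat.eq_of_mul_eq_mul_left (orderOf_pos a) h3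
  haveI := Subgroup.normal_of_index_eq_two hAi
  have hf2 : fil S 2 ≤ zpowers a := by
    rw [hf, commutator_def, commutator_le]
    intro u _ v _
    haveI : IsCyclic (S ⧸ zpowers a) := isCyclic_of_prime_card (p := 2) hAi
    rw [← QuotientGroup.eq_one_iff, ← QuotientGroup.mk'_apply, map_commutatorElement,
      commutatorElement_eq_one_iff_mul_comm]
    exact IsCyclic.isMulCommutative.is_comm.comm _ _
  have hle : zpowers a ≤ twoStep S 2 := zpowers_le.mpr (mem_twoStep.mpr fun w hw => by
    obtain ⟨i, rfl⟩ := hf2 hw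
    rw [commutatorElement_eq_one_iff_mul_comm.mpr ((Commute.refl a).zpow_left i).eq]
    exact one_mem _)
  have he : zpowers a = twoStep S 2 := by
    refine eq_of_le_of_card_ge hle (le_of_eq (Nat.eq_of_mul_eq_mul_right (show 0 < 2 by norm_num) ?_))
    have e1 := (zpowers a).card_mul_index
    have e2 := (twoStep S 2).card_mul_index
    rw [hAi] at e1
    rw [CfsgLib.MaxClassGood.twoStep_index hn hG hc le_rfl (by omega)] at e2
    omega
  rw [← he]
  rintro _ ⟨i, rfl⟩ _ ⟨j, rfl⟩
  exact ((Commute.refl a).zpow_zpow i j).eq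

/-- In order `p ^ 4` the two-step centralizer is abelian. -/
theorem Frame.comm_of_four {X : Type*} [Group X] [Finite X] (D : Frame p X) (h : D.n = 4) :
    ∀ a ∈ D.T, ∀ b ∈ D.T, a * b = b * a := by
  intro a ha b hb
  have hc2 : ∀ u ∈ fil X 2, ∀ t ∈ D.T, u * t = t * u := fun u hu t ht =>
    D.fil_last_central (by rwa [show D.n - 2 = 2 by omega]) ht
  by_cases ha2 : a ∈ fil X 2
  · exact hc2 a ha2 b hb
  have h1 : zpowers a ⊔ D.Tf 2 = D.Tf 1 := D.layer le_rfl (by omega) (by rwa [D.Tf_of_le le_rfl])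
    (by rwa [D.Tf_of_two le_rfl])
  rw [D.Tf_of_le le_rfl, D.Tf_of_two le_rfl] at h1
  have h2 : D.T ≤ centralizer ({a} : Set X) := h1 ▸ sup_le (zpowers_le.mpr (mem_centralizer_singleton_iff.mpr rfl))
    fun u hu => mem_centralizer_singleton_iff.mpr (hc2 u hu a ha)
  exact (mem_centralizer_singleton_iff.mp (h2 hb)).symm

/-- A `p`-element normalising an essential subgroup and centralising its elements of order `p` lies in it. -/
theorem false_of_omega_central (hS : IsPGroup p S) (hF : F.IsSaturated p) (hp2 : p ≠ 2) {K : Subgroup S}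
    (hK : F.IsEssential p (K.map S.subtype)) {g : S} (hg : g ∈ normalizer (K : Set S)) (hgK : g ∉ K)
    (hc : ∀ u ∈ K, u ^ p = 1 → g * u = u * g) : False := by
  have hpp : p.Prime := hpf.out
  haveI : Finite (MulAut K) := Finite.of_injective (fun f => (f : K → K)) DFunLike.coe_injective
  let Q : Subgroup (MulAut K) :=
    { carrier := {α | α ∈ autIn F K ∧ ∀ u : K, u ^ p = 1 → α u = u}
      one_mem' := ⟨one_mem _, fun _ _ => rfl⟩
      mul_mem' := fun {a b} ha hb => ⟨mul_mem ha.1 hb.1, fun u hu => by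
        rw [MulAut.mul_apply, hb.2 u hu, ha.2 u hu]⟩
      inv_mem' := fun {a} ha => ⟨inv_mem ha.1, fun u hu => a.injective (by rw [MulAut.apply_inv_self, ha.2 u hu])⟩ }
  have hmem : ∀ α : MulAut K, α ∈ Q ↔ α ∈ autIn F K ∧ ∀ u : K, u ^ p = 1 → α u = u := fun _ => Iff.rfl
  have key : ∀ b ∈ autIn F K, ∀ α ∈ Q, b * α * b⁻¹ ∈ Q := by
    intro b hb α hα
    refine (hmem _).mpr ⟨mul_mem (mul_mem hb hα.1) (inv_mem hb), fun u hu => ?_⟩
    rw [MulAut.mul_apply, MulAut.mul_apply, hα.2 _ (by rw [← map_pow, hu, map_one]), MulAut.apply_inv_self]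
  have hQn : autIn F K ≤ normalizer (Q : Set (MulAut K)) := fun b hb => mem_normalizer_iff.mpr fun α =>
    ⟨key b hb α, fun h => by simpa [mul_assoc] using key b⁻¹ (inv_mem hb) _ h⟩
  have hQp : IsPGroup p Q := by
    rintro ⟨α, hα⟩
    obtain ⟨a, r, hr, he⟩ := Nat.exists_eq_pow_mul_and_not_dvd (orderOf_pos α).ne' p hpp.ne_one
    refine ⟨a, Subtype.ext ?_⟩
    show α ^ p ^ a = 1
    refine aut_eq_one_of_fix_omega hp2 (hS.to_subgroup K) ?_ ((hmem _).mp (pow_mem hα _)).2
    rw [orderOf_pow_of_dvd (pow_pos hpp.pos a).ne' ⟨r, he⟩, he, Nat.mul_div_cancel_left _ (pow_pos hpp.pos a)]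
    exact ((Nat.Prime.coprime_iff_not_dvd hpp).mpr hr).symm
  have hgQ : K.normalizerMonoidHom ⟨g, hg⟩ ∈ Q := (hmem _).mpr ⟨conj_mem_autIn K _, fun u hu => Subtype.ext (by
    show g * (u : S) * g⁻¹ = (u : S)
    rw [hc u u.2 (by rw [← SubmonoidClass.coe_pow, hu]; rfl), mul_inv_cancel_right])⟩
  obtain ⟨e, he⟩ := radical_autIn hS hF hK (fun α hα => ((hmem α).mp hα).1) hQn hQp hgQ
  refine hgK ?_
  have hce : (e : S)⁻¹ * g ∈ centralizer (K : Set S) := mem_centralizer_iff.mpr fun y hy => by
    have h : (e : S) * y * (e : S)⁻¹ = g * y * g⁻¹ := congrArg (fun f : MulAut K => ((f ⟨y, hy⟩ : K) : S)) he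
    calc y * ((e : S)⁻¹ * g) = (e : S)⁻¹ * ((e : S) * y * (e : S)⁻¹) * g := by group
      _ = (e : S)⁻¹ * g * y := by rw [h]; group
  have h2 := centralizer_le K hK.1 hce
  have h3 := mul_mem e.2 h2
  rwa [mul_inv_cancel_left] at h3

/-- Normalizers grow inside a subgroup. -/
theorem exists_normalizer_step (hS : IsPGroup p S) {K T : Subgroup S} (hKT : K ≤ T) (hne : K ≠ T) :
    ∃ g ∈ T, g ∈ normalizer (K : Set S) ∧ g ∉ K := by
  haveI : Group.IsNilpotent T := (hS.to_subgroup T).isNilpotent
  have hlt : K.subgroupOf T < ⊤ := lt_top_iff_ne_top.mpr fun e => hne (le_antisymm hKT (subgroupOf_eq_top.mp e))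
  obtain ⟨g, hg, hgK⟩ := SetLike.exists_of_lt (Group.normalizerCondition_of_isNilpotent _ hlt)
  refine ⟨g, g.2, mem_normalizer_iff.mpr fun x => ⟨fun hx => ?_, fun hx => ?_⟩, fun h => hgK h⟩
  · exact mem_subgroupOf.mp ((mem_normalizer_iff.mp hg ⟨x, hKT hx⟩).mp (mem_subgroupOf.mpr hx))
  · have hxT : x ∈ T := by
      have h1 := mul_mem (mul_mem (T.inv_mem g.2) (hKT hx)) g.2
      simpa [mul_assoc] using h1
    exact mem_subgroupOf.mp ((mem_normalizer_iff.mp hg ⟨x, hxT⟩).mpr (mem_subgroupOf.mpr hx))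

/-- For `p = 3` the elements of order `3` of the two-step centralizer are central in it. -/
theorem eq_of_three (hS : IsPGroup p S) (hF : F.IsSaturated p) (hp : p = 3) (Fr : Frame p S) {K : Subgroup S}
    (hKT : K ≤ Fr.T) (hK : F.IsEssential p (K.map S.subtype)) : K = Fr.T := by
  have h4 := Fr.h4
  rcases eq_or_lt_of_le h4 with h | h5
  · exact eq_of_commutative (Fr.comm_of_four h.symm) hKT (centralizer_le K hK.1)
  by_contra hne
  obtain ⟨g, hgT, hgN, hgK⟩ := exists_normalizer_step hS hKT hne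
  refine false_of_omega_central hS hF (by omega) hK hgN hgK fun u hu hup => ?_
  refine (Fr.fil_last_central ?_ hgT).symm
  have h := Fr.order_p_window (by omega) (by omega) (hKT hu) hup
  exact fil_antitone (by omega) h

/-- A subgroup of the two-step centralizer which is not normal has order at least `p ^ 3`. -/
theorem card_ge_of_not_normal (hn : 3 ≤ n) (h4 : 4 ≤ n) (hG : Nat.card S = p ^ n)
    (hc : Group.nilpotencyClass S = n - 1)
    (hdata : twoStep S (n - 2) = twoStep S 2 ∨ LastData p n S) {K : Subgroup S} (hKT : K ≤ twoStep S 2)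
    (hcen : centralizer (K : Set S) ≤ K) (hnn : ¬ K.Normal) : p ^ 3 ≤ Nat.card K := by
  classical
  have hpp : p.Prime := hpf.out
  by_contra hlt
  push Not at hlt
  obtain ⟨m, -, hm⟩ := (Nat.dvd_prime_pow hpp).mp (hG ▸ card_subgroup_dvd_card K)
  rw [hm, Nat.pow_lt_pow_iff_right hpp.one_lt] at hlt
  have hcz : ∀ u ∈ fil S (n - 1), ∀ g : S, u * g = g * u := fun u hu g => by
    have h := fil_commutator_mem hu (show g ∈ fil S 1 from mem_top _)
    rw [CfsgLib.MaxClassRank.fil_eq_bot hn hG hc (by omega), mem_bot] at h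
    exact commutatorElement_eq_one_iff_mul_comm.mp h
  have hlast : ∀ hcomm : (∀ u ∈ fil S (n - 2), ∀ k ∈ K, u * k = k * u), False := fun hcomm => by
    have hle : fil S (n - 2) ≤ K := fun u hu => hcen (mem_centralizer_iff.mpr fun k hk => (hcomm u hu k hk).symm)
    have he : fil S (n - 2) = K := eq_of_le_of_card_ge hle (by
      rw [hm, CfsgLib.MaxClassRank.card_fil hn hG hc (by omega) (by omega)]
      exact Nat.pow_le_pow_right hpp.pos (by omega))
    exact hnn (he ▸ (inferInstanceAs ((⊤ : Subgroup S).lowerCentralSeries _).Normal))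
  by_cases hK2 : K ≤ fil S 2
  · refine hlast fun u hu k hk => ?_
    have h := fil_commutator_mem hu (hK2 hk)
    rw [CfsgLib.MaxClassRank.fil_eq_bot hn hG hc (by omega), mem_bot] at h
    exact commutatorElement_eq_one_iff_mul_comm.mp h
  rcases hdata with heq | D
  · refine hlast fun u hu k hk => ?_
    have h := mem_twoStep.mp (heq.ge (hKT hk)) u hu
    rw [CfsgLib.MaxClassRank.fil_eq_bot hn hG hc (by omega), mem_bot] at h
    exact commutatorElement_eq_one_iff_mul_comm.mp h
  obtain ⟨k, hk, hk2⟩ := SetLike.not_le_iff_exists.mp hK2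
  have hzK : fil S (n - 1) ≤ K := fun u hu => hcen (mem_centralizer_iff.mpr fun x _ => (hcz u hu x).symm)
  have hlt2 : fil S (n - 1) < zpowers k ⊔ fil S (n - 1) := lt_of_le_of_ne le_sup_right fun e =>
    hk2 (fil_antitone (by omega) (e.ge (mem_sup_left (mem_zpowers k))))
  have h1 := CfsgLib.MaxClassGood.card_grow hG hlt2
  rw [CfsgLib.MaxClassRank.card_fil hn hG hc (by omega) (by omega), ← pow_succ] at h1
  have hKeq : zpowers k ⊔ fil S (n - 1) = K := eq_of_le_of_card_ge (sup_le (zpowers_le.mpr hk) hzK) (by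
    rw [hm]; exact le_trans (Nat.pow_le_pow_right hpp.pos (by omega)) h1)
  have hKc : K ≤ centralizer ({k} : Set S) := hKeq ▸ sup_le (zpowers_le.mpr (mem_centralizer_singleton_iff.mpr rfl))
    fun u hu => mem_centralizer_singleton_iff.mpr (hcz u hu k)
  have hcK : centralizer ({k} : Set S) ≤ K := fun g hg => hcen (mem_centralizer_iff.mpr fun x hx => by
    have hle : K ≤ centralizer ({g} : Set S) := hKeq ▸ sup_le
      (zpowers_le.mpr (mem_centralizer_singleton_iff.mpr (mem_centralizer_singleton_iff.mp hg).symm))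
      fun u hu => mem_centralizer_singleton_iff.mpr (hcz u hu g)
    exact mem_centralizer_singleton_iff.mp (hle hx))
  have hck : Nat.card (centralizer ({k} : Set S)) = p ^ 2 := by
    rw [le_antisymm hcK hKc, hm]
    congr 1
    have h2 := le_trans h1 (le_of_eq (by rw [hKeq, hm]))
    rw [Nat.pow_le_pow_iff_right hpp.one_lt] at h2
    omega
  exact (D.not_mem_of_small hck).1 (hKT hk)

end CfsgLib.MaxClassResidual
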