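import Cfsg.Agent.Lib.MaxClassResidual.Main
import Cfsg.Agent.Lib.MaxClassResidual.ExcBuild
import Cfsg.Agent.S5270

/-!
The classification in the terms of the ambient group, given that the exceptional configuration is impossible.
-/

set_option autoImplicit false
set_option linter.unusedSectionVars false
set_option linter.style.haveILetI false

namespace CfsgLib.MaxClassResidual

open Cfsg Cfsg.FusionSystem Subgroup
open CfsgLib.PolySeq (fil fil_antitone fil_commutator_mem)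
open CfsgLib.MaxClassGood (twoStep mem_twoStep)

universe u

variable {Ω : Type u} [Group Ω] {S : Subgroup Ω} [Finite S] {p : ℕ} [hpf : Fact p.Prime]

/-- Pearls and the two named subgroups, if the exceptional configuration is impossible. -/
theorem essentials_of_impossible (hS : IsPGroup p S) (n : ℕ) (hG : Nat.card S = p ^ n) (h4 : 4 ≤ n)
    (hmax : Subgroup.lowerCentralSeries S (n - 2) ≠ ⊥) (F : FusionSystem S) (hF : F.IsSaturated p)
    (Γ₁ : Subgroup Ω) (hΓ₁ : ∀ x : Ω, x ∈ Γ₁ ↔ x ∈ S ∧ ∀ y ∈ Subgroup.lowerCentralSeries S 1,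
      x * y * x⁻¹ * y⁻¹ ∈ Subgroup.lowerCentralSeries S 3)
    (himp : ExcData p n S → False) :
    (∀ E : Subgroup Ω, F.IsEssential p E → IsPearlShape p E ∨ E = Γ₁ ∨
      E = S ⊓ centralizer (((Subgroup.upperCentralSeries ↥S 2).map S.subtype) : Set Ω)) ∧
    (Γ₁ ≠ S ⊓ centralizer (((Subgroup.upperCentralSeries ↥S 2).map S.subtype) : Set Ω) →
      ∀ E : Subgroup Ω, F.IsEssential p E → Nat.card E = p ^ 3 → Cfsg.IsExtraspecial p E → False) := by
  have hpp : p.Prime := hpf.out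
  haveI : Group.IsNilpotent S := hS.isNilpotent
  have hn3 : 3 ≤ n := by omega
  have hne' : (⊤ : Subgroup S).lowerCentralSeries (n - 2) ≠ ⊥ := by
    intro e
    apply hmax
    have h := Subgroup.map_lowerCentralSeries (⊤ : Subgroup S) S.subtype (n - 2)
    rw [e, Subgroup.map_bot, ← MonoidHom.range_eq_map, Subgroup.range_subtype] at h
    exact h.symm
  have hge : n - 1 ≤ Group.nilpotencyClass S := by
    by_contra h
    exact hne' (Subgroup.lowerCentralSeries_eq_bot_iff_nilpotencyClass_le.mpr (by omega))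
  have hc : Group.nilpotencyClass S = n - 1 :=
    le_antisymm (Cfsg.Agent.S5270.class_le n S hG (by omega)) hge
  have hcl := classify_of hS hG h4 hmax hc hF Γ₁ hΓ₁ fun D hp K hKT hKn hK hess =>
    himp (excDataOf hS hF hp D hKT hKn hK hess)
  have hone : ∀ x : Ω, x ∈ Γ₁ ↔ ∃ hx : x ∈ S, (⟨x, hx⟩ : S) ∈ twoStep S 2 := fun x => by
    rw [hΓ₁]
    exact ⟨fun ⟨hx, h⟩ => ⟨hx, (CfsgLib.MaxClassEssential.mem_twoStep_two_iff ⟨x, hx⟩).mpr h⟩,
      fun ⟨hx, h⟩ => ⟨hx, (CfsgLib.MaxClassEssential.mem_twoStep_two_iff ⟨x, hx⟩).mp h⟩⟩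
  have hlast : ∀ x : Ω, x ∈ S ⊓ centralizer (((Subgroup.upperCentralSeries ↥S 2).map S.subtype) : Set Ω) ↔
      ∃ hx : x ∈ S, (⟨x, hx⟩ : S) ∈ twoStep S (n - 2) := fun x =>
    ⟨fun ⟨hx, h⟩ => ⟨hx, (CfsgLib.MaxClassEssential.mem_last_iff hn3 hG hc h4 ⟨x, hx⟩).mpr h⟩,
      fun ⟨hx, h⟩ => ⟨hx, (CfsgLib.MaxClassEssential.mem_last_iff hn3 hG hc h4 ⟨x, hx⟩).mp h⟩⟩
  refine ⟨fun E hE => ?_, fun hne E hE hcard hex => ?_⟩
  · rcases hcl E hE with h | h | h
    · exact Or.inl h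
    · refine Or.inr (Or.inl (SetLike.ext fun x => ?_))
      rw [hone]
      exact ⟨fun hx => ⟨hE.1.1 hx, h.le (mem_subgroupOf.mpr hx)⟩,
        fun ⟨hx, h'⟩ => mem_subgroupOf.mp (h.ge h' : (⟨x, hx⟩ : S) ∈ E.subgroupOf S)⟩
    · refine Or.inr (Or.inr (SetLike.ext fun x => ?_))
      rw [hlast]
      exact ⟨fun hx => ⟨hE.1.1 hx, h.le (mem_subgroupOf.mpr hx)⟩,
        fun ⟨hx, h'⟩ => mem_subgroupOf.mp (h.ge h' : (⟨x, hx⟩ : S) ∈ E.subgroupOf S)⟩
  · refine false_of_cube_pearl hG h4 hc hF (fun e => hne (SetLike.ext fun x => ?_)) hcl hE hcard hex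
    rw [hone, hlast, e]

end CfsgLib.MaxClassResidual
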