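import Cfsg.Agent.Lib.Coprime
import Mathlib.GroupTheory.PGroup
import Mathlib.GroupTheory.SchurZassenhaus

/-!
Restrictions of automorphisms to invariant subgroups, and complements normalised by a coset element.
-/

set_option autoImplicit false
set_option linter.style.haveILetI false
set_option linter.unusedSectionVars false

namespace CfsgLib.MaxClassResidual

open Subgroup

section Restrict

variable {X : Type*} [Group X]

/-- The automorphisms leaving a subgroup invariant. -/
def stabW (W : Subgroup X) : Subgroup (MulAut X) where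
  carrier := {α | ∀ w, α w ∈ W ↔ w ∈ W}
  one_mem' := fun w => Iff.rfl
  mul_mem' := fun {a b} ha hb w => (ha (b w)).trans (hb w)
  inv_mem' := fun {a} ha w => by
    have h := ha (a⁻¹ w)
    rw [MulAut.apply_inv_self] at h
    exact h.symm

theorem mem_stabW_of_le [Finite X] {W : Subgroup X} {α : MulAut X} (h : ∀ w ∈ W, α w ∈ W) : α ∈ stabW W := by
  intro w
  refine ⟨fun hw => ?_, h w⟩
  have himg : W.map α.toMonoidHom = W := by
    refine eq_of_le_of_card_ge ?_ (le_of_eq (Nat.card_congr (W.equivMapOfInjective _ α.injective).toEquiv))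
    rintro _ ⟨y, hy, rfl⟩
    exact h y hy
  obtain ⟨y, hy, e⟩ := himg.ge hw
  rwa [← α.injective e]

/-- Restriction to an invariant subgroup. -/
def resW (W : Subgroup X) : stabW W →* MulAut W where
  toFun α :=
    { toFun := fun w => ⟨(α : MulAut X) w, (α.2 w).mpr w.2⟩
      invFun := fun w => ⟨(α : MulAut X).symm w, ((stabW W).inv_mem α.2 w).mpr w.2⟩
      left_inv := fun w => Subtype.ext ((α : MulAut X).symm_apply_apply w)
      right_inv := fun w => Subtype.ext ((α : MulAut X).apply_symm_apply w)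
      map_mul' := fun a b => Subtype.ext (map_mul (α : MulAut X) (a : X) (b : X)) }
  map_one' := MulEquiv.ext fun w => Subtype.ext rfl
  map_mul' α β := MulEquiv.ext fun w => Subtype.ext rfl

theorem resW_coe {W : Subgroup X} (α : stabW W) (w : W) : ((resW W α w : W) : X) = (α : MulAut X) w := rfl

theorem resW_eq_one {W : Subgroup X} {α : stabW W} : resW W α = 1 ↔ ∀ w ∈ W, (α : MulAut X) w = w := by
  constructor
  · intro h w hw
    exact congrArg Subtype.val (show resW W α ⟨w, hw⟩ = ⟨w, hw⟩ by rw [h]; rfl)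
  · intro h
    exact MulEquiv.ext fun w => Subtype.ext (h w w.2)

/-- The automorphisms fixing a subgroup pointwise. -/
def fixW (W : Subgroup X) : Subgroup (MulAut X) where
  carrier := {α | ∀ w ∈ W, α w = w}
  one_mem' := fun w _ => rfl
  mul_mem' := fun {a b} ha hb w hw => by rw [MulAut.mul_apply, hb w hw, ha w hw]
  inv_mem' := fun {a} ha w hw => by
    nth_rw 1 [← ha w hw]
    rw [MulAut.inv_apply_self]

theorem fixW_le_stabW (W : Subgroup X) : fixW W ≤ stabW W := fun α hα w => by
  refine ⟨fun h => ?_, fun h => by rw [hα w h]; exact h⟩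
  have e := (fixW W).inv_mem hα _ h
  rw [MulAut.inv_apply_self] at e
  rw [e]; exact h

end Restrict

section Complement

variable {G : Type*} [Group G] [Finite G]

theorem eq_one_of_pow_of_not_dvd {p : ℕ} [Fact p.Prime] {K : Subgroup G} (hK : ¬ p ∣ Nat.card K) {g : G}
    (hg : g ∈ K) {a : ℕ} (h : g ^ p ^ a = 1) : g = 1 := by
  rw [← orderOf_eq_one_iff]
  exact Nat.eq_one_of_dvd_coprimes (((Fact.out : p.Prime).coprime_iff_not_dvd.mpr hK).pow_left a)
    (orderOf_dvd_of_pow_eq_one h) (Subgroup.orderOf_dvd_natCard K hg)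

theorem eq_one_of_pGroup_of_coprime {p : ℕ} [Fact p.Prime] {P : Subgroup G} (hP : IsPGroup p P) {g : G}
    (hg : g ∈ P) (ho : (orderOf g).Coprime p) : g = 1 := by
  obtain ⟨a, ha⟩ := hP ⟨g, hg⟩
  rw [← orderOf_eq_one_iff]
  exact Nat.eq_one_of_dvd_coprimes (ho.pow_right a) dvd_rfl
    (orderOf_dvd_of_pow_eq_one (congrArg Subtype.val ha))

/-- A complement of a normal Hall subgroup is normalised by an element of each coset. -/
theorem exists_invariant_complement {N K : Subgroup G} (hNK : N ≤ K)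
    (hnK : K ≤ normalizer (N : Set G)) (hcop : (Nat.card N).Coprime (N.relIndex K))
    (hsol : Group.IsSolvable N) :
    ∃ K₀ : Subgroup G, K₀ ≤ K ∧ Nat.card K₀ = N.relIndex K ∧ (∀ k ∈ K, ∃ e ∈ N, ∃ k₀ ∈ K₀, k = e * k₀) ∧
      ∀ x, x ∈ normalizer (K : Set G) → x ∈ normalizer (N : Set G) → ∃ e ∈ N, e * x ∈ normalizer (K₀ : Set G) := by
  set N' := N.subgroupOf K with hN'
  haveI : N'.Normal := (normal_subgroupOf_iff_le_normalizer hNK).mpr hnK
  have hcN : Nat.card N' = Nat.card N := Nat.card_congr (subgroupOfEquivOfLe hNK).toEquiv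
  have hcop' : (Nat.card N').Coprime N'.index := by rw [hcN]; exact hcop
  obtain ⟨C, hC⟩ := exists_right_complement'_of_coprime hcop'
  have hsol' : Group.IsSolvable N' := by
    haveI := hsol
    exact Group.isSolvable_of_isSolvable_injective (f := (subgroupOfEquivOfLe hNK).toMonoidHom) (subgroupOfEquivOfLe hNK).injective
  set K₀ := C.map K.subtype with hK₀
  have hK₀c : Nat.card K₀ = N.relIndex K := by
    rw [hK₀, card_map_of_injective K.subtype_injective, ← hC.symm.index_eq_card]; rfl
  refine ⟨K₀, map_subtype_le C, hK₀c, fun k hk => ?_, fun x hxK hxN => ?_⟩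
  · obtain ⟨⟨e, c⟩, hec⟩ := (show Function.Surjective fun z : N' × C => (z.1 : K) * z.2 from hC.2) ⟨k, hk⟩
    exact ⟨_, mem_subgroupOf.mp e.2, _, mem_map_of_mem K.subtype c.2, (congrArg Subtype.val hec).symm⟩
  · set C₂ : Subgroup K := (K₀.map (MulAut.conj x).toMonoidHom).subgroupOf K with hC₂def
    have hle : K₀.map (MulAut.conj x).toMonoidHom ≤ K := by
      rintro _ ⟨c, hc, rfl⟩
      exact (mem_normalizer_iff.mp hxK c).mp (map_subtype_le C hc)
    have hC₂ : IsComplement' N' C₂ := CfsgLib.isComplement'_of_card hcop' (by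
      rw [hC₂def, Nat.card_congr (subgroupOfEquivOfLe hle).toEquiv,
        card_map_of_injective (f := (MulAut.conj x).toMonoidHom) (MulAut.conj x).injective, hK₀c]; rfl)
    obtain ⟨e, he, hec⟩ := CfsgLib.complements_conj_mem hcop' (Or.inl hsol') hC₂ hC
    refine ⟨e, mem_subgroupOf.mp he, ?_⟩
    have hfix : K₀.map (MulAut.conj ((e : G) * x)).toMonoidHom ≤ K₀ := by
      rintro _ ⟨c, hc, rfl⟩
      have hc2 : (⟨x * c * x⁻¹, hle ⟨c, hc, rfl⟩⟩ : K) ∈ C₂ := mem_subgroupOf.mpr ⟨c, hc, rfl⟩
      have h2 : MulAut.conj e (⟨x * c * x⁻¹, hle ⟨c, hc, rfl⟩⟩ : K) ∈ C := by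
        rw [← hec]
        exact smul_mem_pointwise_smul _ _ _ hc2
      refine ⟨_, h2, ?_⟩
      show ((e : G) * (x * c * x⁻¹) * (e : G)⁻¹ : G) = (e : G) * x * c * ((e : G) * x)⁻¹
      group
    refine mem_normalizer_iff.mpr fun y => ⟨fun hy => hfix ⟨y, hy, rfl⟩, fun hy => ?_⟩
    have heq := eq_of_le_of_card_ge hfix (le_of_eq (Nat.card_congr
      (K₀.equivMapOfInjective (MulAut.conj ((e : G) * x)).toMonoidHom (MulAut.conj ((e : G) * x)).injective).toEquiv))
    obtain ⟨z, hz, hze⟩ := heq.ge hy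
    rwa [← (MulAut.conj ((e : G) * x)).injective hze]

end Complement

end CfsgLib.MaxClassResidual
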