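import Cfsg.Agent.Lib.MaxClassResidual.Quadratic
import Cfsg.Agent.Lib.MaxClassResidual.Braid
import Cfsg.Agent.S0199
import Cfsg.Agent.Lib.MaxClassEssential.Pair

/-!
An automorphism of the two-step centralizer acting as a torus on the quadratic segments.
-/

set_option autoImplicit false
set_option linter.unusedSectionVars false
set_option linter.style.haveILetI false
set_option maxHeartbeats 400000

namespace CfsgLib.MaxClassResidual

open scoped commutatorElement
open Subgroup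
open CfsgLib.PolySeq (fil fil_antitone fil_commutator_mem)
open MaxClassEssential (Vec vec lin)

theorem torus_vectors {p : ℕ} [Fact p.Prime] {V : Type*} [AddCommGroup V] [Module (ZMod p) V]
    {a b : Module.End (ZMod p) V} (ha : a * a = 0) (hb : b * b = 0)
    (hc2 : (a * b + b * a) * (a * b + b * a) = -(a * b + b * a))
    (hout : a * (1 + (a * b + b * a)) = b * (1 + (a * b + b * a))) :
    ∃ e : Module.End (ZMod p) V, (a * b + b * a ≠ 0 → ∃ v, a (e v) ≠ 0) ∧
      (∀ v, a (a (e v)) = 0 ∧ b (b (a (e v))) = 0 ∧ a (b (a (e v))) = -a (e v)) ∧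
      (∀ v, b (v - e v) = a (v - e v) ∧ a (a (v - e v)) = 0 ∧ b (a (v - e v)) = 0) ∧
      (∀ v, a v = 0 → ∃ u, e v = a (e u)) ∧
      (∀ v, ∃ u u' : V, v = (v - e v) + a (e u) + b (a (e u'))) := by
  set c := a * b + b * a with hc
  have hca : c * a = a * c := by
    rw [hc, add_mul, mul_add, mul_assoc b, ha, mul_zero, add_zero, ← mul_assoc a a, ha, zero_mul, zero_add,
      mul_assoc]
  have hcb : c * b = b * c := by
    rw [hc, add_mul, mul_add, mul_assoc a, hb, mul_zero, zero_add, ← mul_assoc b b, hb, zero_mul, add_zero,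
      mul_assoc]
  set e : Module.End (ZMod p) V := -c with he
  have hce : c * e = -e := by rw [he, mul_neg, hc2]
  have hee : e * e = e := by rw [he, neg_mul_neg, hc2]
  have hea : e * a = a * e := by rw [he, neg_mul, mul_neg, hca]
  have heb : e * b = b * e := by rw [he, neg_mul, mul_neg, hcb]
  have hout' : a * (1 - e) = b * (1 - e) := by
    rw [he, sub_neg_eq_add]; exact hout
  have haba : a * b * a = c * a := by rw [hc, add_mul, mul_assoc b, ha, mul_zero, add_zero]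
  have hL : ∀ {f g : Module.End (ZMod p) V}, f = g → ∀ v, f v = g v := fun h v => by rw [h]
  refine ⟨e, fun hne => ?_, fun v => ⟨?_, ?_, ?_⟩, fun v => ⟨?_, ?_, ?_⟩, fun v hv => ?_, fun v => ?_⟩
  · by_contra hall
    push Not at hall
    have h0 : a * e = 0 := LinearMap.ext hall
    refine hne ?_
    have h1 : c * e = 0 := by
      rw [hc, add_mul, mul_assoc, mul_assoc, ← heb, ← mul_assoc a e b, h0, zero_mul, mul_zero, add_zero]
    rw [hce, he, neg_neg] at h1
    exact h1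
  · exact hL (show a * (a * e) = 0 by rw [← mul_assoc, ha, zero_mul]) v
  · exact hL (show b * (b * (a * e)) = 0 by rw [← mul_assoc, hb, zero_mul]) v
  · exact hL (show a * (b * (a * e)) = -(a * e) by
      rw [← mul_assoc, ← mul_assoc, haba, hca, mul_assoc, hce, mul_neg]) v
  · exact (hL hout' v).symm
  · exact hL (show a * (a * (1 - e)) = 0 by rw [← mul_assoc, ha, zero_mul]) v
  · exact hL (show b * (a * (1 - e)) = 0 by rw [hout', ← mul_assoc, hb, zero_mul]) v
  · refine ⟨-(b v), ?_⟩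
    have h1 : e v = -(a (b v)) := by
      rw [he, hc]
      simp [hv]
    have h2 : e (a (b v)) = a (e (b v)) := hL hea (b v)
    rw [map_neg, map_neg, ← h2, ← map_neg, ← h1]
    exact (hL hee v).symm
  · refine ⟨-(b v), -v, ?_⟩
    have h1 : e v = a (e (-(b v))) + b (a (e (-v))) := by
      have h2 : e = -(a * e * b) + -(b * a * e) := by
        rw [mul_assoc a e b, heb, ← mul_assoc, ← neg_add, ← add_mul, ← hc, hce, neg_neg]
      conv_lhs => rw [h2]
      simp
    rw [add_assoc, ← h1, sub_add_cancel]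

/-- The word in two quadratic elements acting as a torus. -/
theorem torus_word {p : ℕ} [Fact p.Prime] {V : Type*} [AddCommGroup V] [Module (ZMod p) V]
    {G : Type*} [Group G] (σ : Representation (ZMod p) G V) (hinj : Function.Injective σ) {z z' : G}
    {A B e : Module.End (ZMod p) V} (hA : σ z - 1 = A) (hB : σ z' - 1 = B) (hq : A * A = 0) (hq' : B * B = 0)
    (hsegA : ∀ v, A (A (e v)) = 0 ∧ B (B (A (e v))) = 0 ∧ A (B (A (e v))) = -A (e v))
    (houtv : ∀ v, B (v - e v) = A (v - e v) ∧ A (A (v - e v)) = 0 ∧ B (A (v - e v)) = 0)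
    (hkerA : ∀ v, A v = 0 → ∃ u, e v = A (e u))
    (hsplit : ∀ v, ∃ u u' : V, v = (v - e v) + A (e u) + B (A (e u')))
    (μ : ZMod p) (hμ : μ ≠ 0) :
    ∃ t : G, t ^ p = t ∧ (∀ v, σ t (A (e v)) = μ • A (e v)) ∧
      (∀ v, σ t (B (A (e v))) = μ⁻¹ • B (A (e v))) ∧ (∀ v, σ t (v - e v) = v - e v) ∧
      (∀ v, A v = 0 → σ t v = v + (μ - 1) • e v) ∧ ∀ v, A v = 0 → A (e v) = 0 := by
  have hpowA : ∀ (m : ℕ) (v : V), σ (z ^ m) v = v + (m : ZMod p) • A v := by
    intro m v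
    rw [MaxClassEssential.apply_pow (hA.symm ▸ hq), hA, LinearMap.add_apply, Module.End.one_apply,
      LinearMap.smul_apply, Nat.cast_smul_eq_nsmul]
  have hpowB : ∀ (m : ℕ) (v : V), σ (z' ^ m) v = v + (m : ZMod p) • B v := by
    intro m v
    rw [MaxClassEssential.apply_pow (hB.symm ▸ hq'), hB, LinearMap.add_apply, Module.End.one_apply,
      LinearMap.smul_apply, Nat.cast_smul_eq_nsmul]
  set y₁ : ZMod p := 1 - μ with hy₁
  set y₂ : ZMod p := (μ - 1) / μ with hy₂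
  set x₁ : ZMod p := -μ⁻¹ with hx₁
  set wd : G := z' ^ x₁.val * z ^ y₁.val * z' ^ (1 : ZMod p).val * z ^ y₂.val with hwd
  have hwd' : ∀ v, σ wd v = σ (z' ^ x₁.val) (σ (z ^ y₁.val) (σ (z' ^ (1 : ZMod p).val) (σ (z ^ y₂.val) v))) := by
    intro v; rw [hwd, map_mul, map_mul, map_mul]; rfl
  have hc1 : ∀ v, σ wd (A (e v)) = μ • A (e v) := by
    intro v
    obtain ⟨h1, h2, h3⟩ := hsegA v
    rw [hwd']
    simp only [hpowA, hpowB, ZMod.natCast_zmod_val, map_add, map_smul, h1, h2, h3, zero_add, smul_zero, add_zero,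
      smul_neg, map_neg, smul_add, map_zero]
    rw [hy₁, hx₁]
    match_scalars <;> field_simp <;> ring
  have hc2' : ∀ v, σ wd (B (A (e v))) = μ⁻¹ • B (A (e v)) := by
    intro v
    obtain ⟨h1, h2, h3⟩ := hsegA v
    rw [hwd']
    simp only [hpowA, hpowB, ZMod.natCast_zmod_val, map_add, map_smul, h1, h2, h3, zero_add, smul_zero, add_zero,
      smul_neg, map_neg, smul_add, map_zero]
    rw [hy₁, hy₂, hx₁]
    match_scalars <;> field_simp <;> ring
  have hc3 : ∀ v, σ wd (v - e v) = (v - e v) + (x₁ + y₁ + 1 + y₂) • A (v - e v) := by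
    intro v
    obtain ⟨h1, h2, h3⟩ := houtv v
    rw [hwd']
    generalize v - e v = u at h1 h2 h3 ⊢
    simp only [hpowA, hpowB, ZMod.natCast_zmod_val, map_add, map_smul, h1, h2, h3, zero_add, smul_zero, add_zero,
      smul_add, map_zero]
    match_scalars <;> ring
  set t := wd ^ p with ht
  have hpow1 : ∀ (m : ℕ) v, σ (wd ^ m) (A (e v)) = μ ^ m • A (e v) := by
    intro m v
    induction m with
    | zero => rw [pow_zero, map_one, pow_zero, one_smul]; rfl
    | succ m ih => rw [pow_succ', map_mul, Module.End.mul_apply, ih, map_smul, hc1, smul_smul, pow_succ]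
  have hpow2 : ∀ (m : ℕ) v, σ (wd ^ m) (B (A (e v))) = μ⁻¹ ^ m • B (A (e v)) := by
    intro m v
    induction m with
    | zero => rw [pow_zero, map_one, pow_zero, one_smul]; rfl
    | succ m ih => rw [pow_succ', map_mul, Module.End.mul_apply, ih, map_smul, hc2', smul_smul, pow_succ]
  have hpow3 : ∀ (m : ℕ) v, σ (wd ^ m) (v - e v) = (v - e v) + ((m : ZMod p) * (x₁ + y₁ + 1 + y₂)) • A (v - e v) := by
    intro m v
    have hAfix : σ wd (A (v - e v)) = A (v - e v) := by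
      obtain ⟨h1, h2, h3⟩ := houtv v
      rw [hwd']
      simp only [hpowA, hpowB, h2, h3, smul_zero, add_zero]
    induction m with
    | zero => rw [pow_zero, map_one]; simp
    | succ m ih =>
      rw [pow_succ', map_mul, Module.End.mul_apply, ih, map_add, map_smul, hc3, hAfix, Nat.cast_succ, add_mul,
        one_mul, add_smul]
      generalize A (v - e v) = w₀
      generalize v - e v = u₀
      module
  have ht1 : ∀ v, σ t (A (e v)) = μ • A (e v) := fun v => by rw [ht, hpow1, ZMod.pow_card]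
  have ht2 : ∀ v, σ t (B (A (e v))) = μ⁻¹ • B (A (e v)) := fun v => by rw [ht, hpow2, ZMod.pow_card]
  have ht3 : ∀ v, σ t (v - e v) = v - e v := fun v => by
    rw [ht, hpow3, ZMod.natCast_self, zero_mul, zero_smul, add_zero]
  have hteq : ∀ v, A v = 0 → σ t v = v + (μ - 1) • e v := by
    intro v hv
    obtain ⟨u, hu⟩ := hkerA v hv
    calc σ t v = σ t ((v - e v) + A (e u)) := by rw [← hu, sub_add_cancel]
      _ = (v - e v) + μ • e v := by rw [map_add, ht3, ht1, hu]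
      _ = _ := by rw [sub_smul, one_smul]; abel
  have hAe : ∀ v, A v = 0 → A (e v) = 0 := by
    intro v hv
    obtain ⟨u, hu⟩ := hkerA v hv
    rw [hu]; exact (hsegA u).1
  have htp : t ^ p = t := by
    refine hinj (LinearMap.ext fun v => ?_)
    obtain ⟨u, u', hv⟩ := hsplit v
    have hm1 : ∀ (m : ℕ) x, σ (t ^ m) (A (e x)) = μ ^ m • A (e x) := fun m x => by
      rw [ht, ← pow_mul, hpow1, pow_mul, ZMod.pow_card]
    have hm2 : ∀ (m : ℕ) x, σ (t ^ m) (B (A (e x))) = μ⁻¹ ^ m • B (A (e x)) := fun m x => by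
      rw [ht, ← pow_mul, hpow2, pow_mul, ZMod.pow_card]
    have hm3 : ∀ (m : ℕ) x, σ (t ^ m) (x - e x) = x - e x := fun m x => by
      rw [ht, ← pow_mul, hpow3, Nat.cast_mul, ZMod.natCast_self, zero_mul, zero_mul, zero_smul, add_zero]
    rw [hv, map_add, map_add, map_add, map_add, hm1, hm2, hm3, ht1, ht2, ht3, ZMod.pow_card, ZMod.pow_card]
  exact ⟨t, htp, ht1, ht2, ht3, hteq, hAe⟩

namespace Data

variable {p : ℕ} [hpf : Fact p.Prime] {S : Type*} [Group S] [Finite S] (D : Data p S)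

/-- The elements of order `p` of the centre, inside `E`. -/
abbrev Om : Subgroup D.E := D.omegaZ.subgroupOf D.E

instance fact_Om : Fact (IsPGroup p D.Om) := ⟨(D.toFrame.hS.to_subgroup D.E).to_subgroup _⟩

theorem mem_stabW_Om (η : MulAut D.E) : η ∈ stabW D.Om :=
  mem_stabW_of_le fun w hw => mem_subgroupOf.mpr (D.omegaZ_inv η (mem_subgroupOf.mp hw))

/-- The action on the elements of order `p` of the centre. -/
def omRep : MulAut D.E →* Module.End (ZMod p) (Vec p D.Om) :=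
  (lin (p := p) (E := D.Om)).comp
    ((resW D.Om).comp ((MonoidHom.id (MulAut D.E)).codRestrict _ D.mem_stabW_Om))

theorem omRep_vec (η : MulAut D.E) (m : D.Om) :
    D.omRep η (vec m) = vec (⟨η (m : D.E), (D.mem_stabW_Om η _).mpr m.2⟩ : D.Om) := rfl

theorem vecOm_injective : Function.Injective (vec : D.Om → Vec p D.Om) := fun x y h => by
  rw [MaxClassEssential.vec_eq_vec] at h
  have := CfsgLib.RankFrattini.frattini_le_of_elementary (p := p) (fact_Om D).out ⊥
    (fun u v => mem_bot.mpr (commutatorElement_eq_one_iff_mul_comm.mpr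
      (Subtype.ext (Subtype.ext ((mem_subgroupOf.mp u.2).2.2 _ (mem_subgroupOf.mp v.2).1)))))
    (fun u => mem_bot.mpr (Subtype.ext (Subtype.ext (mem_subgroupOf.mp u.2).2.1))) h
  exact mul_inv_eq_one.mp (mem_bot.mp this)

theorem omRep_inn {η : MulAut D.E} (h : η ∈ innE D.E) : D.omRep η = 1 := by
  obtain ⟨e, rfl⟩ := h
  refine LinearMap.ext fun v => ?_
  obtain ⟨m, rfl⟩ := MaxClassEssential.vec_surjective v
  rw [omRep_vec]
  refine congrArg vec (Subtype.ext (Subtype.ext ?_))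
  show (e : S) * ((m : D.E) : S) * (e : S)⁻¹ = _
  rw [← (mem_subgroupOf.mp m.2).2.2 _ e.2, mul_inv_cancel_right]

theorem mem_innE_of_omRep {η : MulAut D.E} (hη : η ∈ D.A) (h : D.omRep η = 1) : η ∈ innE D.E := by
  refine D.le_innE_of_fix (K := D.A ⊓ D.omRep.toHomUnits.ker) inf_le_left ?_ ?_
    (mem_inf.mpr ⟨hη, MonoidHom.mem_ker.mpr (Units.ext h)⟩)
  · intro γ hγ
    refine mem_normalizer_iff.mpr fun x => ?_
    have key : ∀ γ ∈ D.A, ∀ x ∈ D.A ⊓ D.omRep.toHomUnits.ker, γ * x * γ⁻¹ ∈ D.A ⊓ D.omRep.toHomUnits.ker :=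
      fun γ hγ x hx => mem_inf.mpr ⟨mul_mem (mul_mem hγ (mem_inf.mp hx).1) (inv_mem hγ),
        (MonoidHom.normal_ker _).conj_mem x (mem_inf.mp hx).2 γ⟩
    refine ⟨key γ hγ x, fun h => ?_⟩
    have := key _ (inv_mem hγ) _ h
    simpa [mul_assoc] using this
  · intro γ hγ u hu
    have h1 := congrArg Units.val (MonoidHom.mem_ker.mp (mem_inf.mp hγ).2)
    have h2 := LinearMap.congr_fun h1 (vec (⟨u, mem_subgroupOf.mpr (D.fil_last_le_omegaZ hu)⟩ : D.Om))
    exact congrArg (fun m : D.Om => (m : D.E)) (D.vecOm_injective h2)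

/-- The elements of order `p` of the centre of `T`. -/
theorem fil_last_invariant {α : MulAut D.T} {η : MulAut D.E}
    (hres : ∀ e : D.E, (((α ⟨(e : S), D.hET e.2⟩) : D.T) : S) = ((η e : D.E) : S)) {e : D.E}
    (he : (e : S) ∈ fil S (D.n - 2)) {g : S} (hg : g ∈ D.T) :
    g * ((η e : D.E) : S) = ((η e : D.E) : S) * g := by
  set t : D.T := ⟨(e : S), D.hET e.2⟩
  have h1 : α⁻¹ (⟨g, hg⟩ : D.T) * t = t * α⁻¹ ⟨g, hg⟩ :=
    Subtype.ext (D.toFrame.fil_last_central he (α⁻¹ ⟨g, hg⟩).2).symm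
  have h2 := congrArg α h1
  rw [map_mul, map_mul, MulAut.apply_inv_self] at h2
  rw [← hres]
  exact congrArg Subtype.val h2

/-- The linear group on the elements of order `p` of the centre. -/
def omHom : D.A →* (Module.End (ZMod p) (Vec p D.Om))ˣ := D.omRep.toHomUnits.comp D.A.subtype

/-- The image of the linear action. -/
abbrev omG : Subgroup (Module.End (ZMod p) (Vec p D.Om))ˣ := D.omHom.range

/-- The representation of the linear group. -/
def omS : Representation (ZMod p) D.omG (Vec p D.Om) := (Units.coeHom _).comp D.omHom.range.subtype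

instance finite_omG : Finite D.omG := Finite.of_surjective _ D.omHom.rangeRestrict_surjective

theorem omS_injective : Function.Injective D.omS := fun _ _ h => Subtype.ext (Units.ext h)

theorem omS_apply (η : D.A) : D.omS (D.omHom.rangeRestrict η) = D.omRep (η : MulAut D.E) := rfl

theorem omHom_eq_one (η : D.A) : D.omHom.rangeRestrict η = 1 ↔ (η : MulAut D.E) ∈ innE D.E :=
  ⟨fun h => D.mem_innE_of_omRep η.2 (congrArg (fun x : D.omG => ((x : (Module.End (ZMod p) (Vec p D.Om))ˣ) :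
    Module.End (ZMod p) (Vec p D.Om))) h), fun h => Subtype.ext (Units.ext (D.omRep_inn h))⟩

/-- Conjugation by the normalizer, inside the automorphism group. -/
def cA : normalizer (D.E : Set S) →* D.A := D.cE.codRestrict _ D.cE_mem

theorem coe_cA (g : normalizer (D.E : Set S)) : (D.cA g : MulAut D.E) = D.cE g := rfl

/-- The image of the inner Sylow subgroup. -/
noncomputable def omP : Sylow p D.omG :=
  ((show IsPGroup p (D.cE.range.subgroupOf D.A) from
    D.isPGroup_range_cE.comap_of_injective _ D.A.subtype_injective).toSylow D.hSylA).mapSurjective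
    D.omHom.rangeRestrict_surjective

theorem omS_fix {w : S} (hw : w ∈ normalizer (D.E : Set S)) (m : D.Om) :
    (D.omS (D.omHom.rangeRestrict (D.cA ⟨w, hw⟩)) - 1) (vec m) = 0 ↔
      w * ((m : D.E) : S) = ((m : D.E) : S) * w := by
  rw [omS_apply, LinearMap.sub_apply, Module.End.one_apply, omRep_vec, sub_eq_zero, D.vecOm_injective.eq_iff,
    Subtype.ext_iff, Subtype.ext_iff]
  exact mul_inv_eq_iff_eq_mul

theorem omS_sub_one {w : S} (hw : w ∈ normalizer (D.E : Set S)) (m : D.Om) :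
    (D.omS (D.omHom.rangeRestrict (D.cA ⟨w, hw⟩)) - 1) (vec m) =
      vec ((⟨D.cE ⟨w, hw⟩ (m : D.E), (D.mem_stabW_Om _ _).mpr m.2⟩ : D.Om) * m⁻¹) := by
  rw [omS_apply, LinearMap.sub_apply, Module.End.one_apply, omRep_vec, sub_eq_add_neg, ← MaxClassEssential.vec_inv,
    ← MaxClassEssential.vec_mul]
  rfl

theorem omS_comm {w : S} (hw : w ∈ normalizer (D.E : Set S)) (m : D.Om) :
    ∃ m' : D.Om, ((m' : D.E) : S) = ⁅w, ((m : D.E) : S)⁆ ∧
      (vec m' : Vec p D.Om) = (D.omS (D.omHom.rangeRestrict (D.cA ⟨w, hw⟩)) - 1) (vec m) := by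
  refine ⟨_, ?_, (D.omS_sub_one hw m).symm⟩
  rw [Subgroup.coe_mul, Subgroup.coe_mul, Subgroup.coe_inv, Subgroup.coe_inv, coe_cE, commutatorElement_def]

theorem omS_quadratic {w : S} (hw : w ∈ normalizer (D.E : Set S))
    (hwq : ∀ v ∈ D.omegaZ, w * ⁅w, v⁆ = ⁅w, v⁆ * w) :
    (D.omS (D.omHom.rangeRestrict (D.cA ⟨w, hw⟩)) - 1) *
      (D.omS (D.omHom.rangeRestrict (D.cA ⟨w, hw⟩)) - 1) = 0 := by
  refine LinearMap.ext fun v => ?_
  obtain ⟨m, rfl⟩ := MaxClassEssential.vec_surjective v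
  have hsub : ∀ (η : MulAut D.E) (m : D.Om), (D.omRep η - 1) (vec m) =
      vec ((⟨η (m : D.E), (D.mem_stabW_Om η _).mpr m.2⟩ : D.Om) * m⁻¹) := fun η m => by
    rw [LinearMap.sub_apply, Module.End.one_apply, omRep_vec, sub_eq_add_neg, ← MaxClassEssential.vec_inv,
      ← MaxClassEssential.vec_mul]
  rw [Module.End.mul_apply, omS_apply, hsub, ← omS_apply, LinearMap.zero_apply, D.omS_fix hw]
  have := hwq _ (mem_subgroupOf.mp m.2)
  simp only [commutatorElement_def] at this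
  exact this

/-- The local subgroups of the linear group are `p`-closed. -/
theorem omega_closed (Q : Subgroup D.omG) (hQ : IsPGroup p Q) (hQne : Q ≠ ⊥) :
    ∃ U : Subgroup D.omG, IsPGroup p U ∧
      ∀ u ∈ normalizer (Q : Set D.omG), (∃ a : ℕ, u ^ p ^ a = 1) → u ∈ U := by
  obtain ⟨P₁, hP₁⟩ := hQ.exists_le_sylow
  obtain ⟨h, rfl⟩ := MulAction.exists_smul_eq D.omG D.omP P₁
  refine ⟨_, (h • D.omP).2, fun u hu hpu => ?_⟩
  set Q' := Q.map (MulAut.conj h⁻¹).toMonoidHom with hQ'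
  set u' : D.omG := MulAut.conj h⁻¹ u with hu'
  have hQ'P : Q' ≤ (D.omP : Subgroup D.omG) := by
    rintro _ ⟨x, hx, rfl⟩
    obtain ⟨y, hy, e⟩ := hP₁ hx
    show MulAut.conj h⁻¹ x ∈ _
    have h1 : MulAut.conj h⁻¹ x = y := by
      rw [← e]; simp [mul_assoc]
    rw [h1]
    exact hy
  have hu'n : u' ∈ normalizer (Q' : Set D.omG) := le_normalizer_map _ (mem_map_of_mem _ hu)
  obtain ⟨η, hη⟩ := D.omHom.rangeRestrict_surjective u'
  have hmemP : ∀ x : D.A, D.omHom.rangeRestrict x ∈ (D.omP : Subgroup D.omG) → (x : MulAut D.E) ∈ D.cE.range := by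
    intro x hx
    rw [omP, Sylow.coe_mapSurjective] at hx
    obtain ⟨r, hr, hrx⟩ := hx
    have h1 : (r : MulAut D.E) ∈ D.cE.range := mem_subgroupOf.mp hr
    obtain ⟨e, he⟩ := (D.omHom_eq_one (r⁻¹ * x)).mp (by rw [map_mul, map_inv, hrx, inv_mul_cancel])
    have h2 : (r : MulAut D.E)⁻¹ * x ∈ D.cE.range :=
      ⟨⟨e, le_normalizer e.2⟩, (MulEquiv.ext fun y => Subtype.ext rfl : D.cE ⟨e, _⟩ = MulAut.conj e).trans he⟩
    simpa using mul_mem h1 h2
  set Qn : Subgroup (normalizer (D.E : Set S)) := Q'.comap (D.omHom.rangeRestrict.comp D.cA) with hQn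
  set Qs : Subgroup S := Qn.map (normalizer (D.E : Set S)).subtype with hQs
  have hEQ : D.E ≤ Qs := fun e he => ⟨⟨e, le_normalizer he⟩, by
    show D.omHom.rangeRestrict (D.cA ⟨e, le_normalizer he⟩) ∈ Q'
    rw [(D.omHom_eq_one _).mpr (D.cE_mem_innE.mpr he)]
    exact one_mem _, rfl⟩
  have hlt : D.E < Qs := by
    refine lt_of_le_of_ne hEQ fun e => hQne ?_
    rw [eq_bot_iff]
    intro x hx
    obtain ⟨y, hy⟩ := D.omHom.rangeRestrict_surjective (MulAut.conj h⁻¹ x)
    have hy' : D.omHom.rangeRestrict y ∈ Q' := hy ▸ mem_map_of_mem _ hx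
    obtain ⟨q, hq⟩ := hmemP y (hQ'P hy')
    have hqA : D.cA q = y := Subtype.ext hq
    have h1 : D.omHom.rangeRestrict y = 1 := (D.omHom_eq_one y).mpr (hq ▸ D.cE_mem_innE.mpr
      (e.ge ⟨q, show D.omHom.rangeRestrict (D.cA q) ∈ Q' by rw [hqA]; exact hy', rfl⟩))
    rw [hy] at h1
    exact (MulAut.conj h⁻¹).injective (h1.trans (map_one _).symm)
  obtain ⟨α, -, hres⟩ := D.ext (η : MulAut D.E) η.2 Qs hlt (map_subtype_le _) fun q hq => by
    have hqn : D.omHom.rangeRestrict (D.cA q) ∈ Q' :=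
      (mem_map_iff_mem (normalizer (D.E : Set S)).subtype_injective).mp hq
    have h1 := (mem_normalizer_iff.mp hu'n _).mp hqn
    rw [← hη, ← map_inv, ← map_mul, ← map_mul] at h1
    obtain ⟨q', hq'⟩ := hmemP _ (hQ'P h1)
    refine ⟨q', ⟨q', ?_, rfl⟩, hq'.symm⟩
    show D.omHom.rangeRestrict (D.cA q') ∈ Q'
    rw [show D.cA q' = η * D.cA q * η⁻¹ from Subtype.ext hq']
    exact h1
  have hnorm : ∀ x ∈ (D.omP : Subgroup D.omG), u' * x * u'⁻¹ ∈ (D.omP : Subgroup D.omG) := by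
    intro x hx
    obtain ⟨y, rfl⟩ := D.omHom.rangeRestrict_surjective x
    obtain ⟨q, hq⟩ := hmemP y hx
    have hmem : ((η * y * η⁻¹ : D.A) : MulAut D.E) ∈ D.fixLast := by
      refine mem_inf.mpr ⟨(η * y * η⁻¹).2, fun e he => ?_⟩
      rw [Subgroup.coe_mul, Subgroup.coe_mul, Subgroup.coe_inv, MulAut.mul_apply, MulAut.mul_apply, ← hq]
      have hres' : ∀ e : D.E, (((α⁻¹ ⟨(e : S), D.hET e.2⟩) : D.T) : S) = (((η : MulAut D.E)⁻¹ e : D.E) : S) := by
        intro e
        have h2 := hres ((η : MulAut D.E)⁻¹ e)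
        rw [MulAut.apply_inv_self] at h2
        have h3 : α⁻¹ ⟨(e : S), D.hET e.2⟩ = ⟨(((η : MulAut D.E)⁻¹ e : D.E) : S), D.hET ((η : MulAut D.E)⁻¹ e).2⟩ := by
          rw [show (⟨(e : S), D.hET e.2⟩ : D.T) = α ⟨(((η : MulAut D.E)⁻¹ e : D.E) : S),
            D.hET ((η : MulAut D.E)⁻¹ e).2⟩ from Subtype.ext h2.symm, MulAut.inv_apply_self]
        rw [h3]
      have h5 : D.cE q ((η : MulAut D.E)⁻¹ e) = (η : MulAut D.E)⁻¹ e := Subtype.ext (by
        rw [D.coe_cE, D.fil_last_invariant hres' (mem_subgroupOf.mp he) (D.normalizer_le_T q.2),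
          mul_inv_cancel_right])
      rw [h5, MulAut.apply_inv_self]
    rw [D.fixLast_eq] at hmem
    rw [← hη, ← map_inv, ← map_mul, ← map_mul, omP, Sylow.coe_mapSurjective]
    exact mem_map_of_mem _ (mem_subgroupOf.mpr hmem)
  have hu'N : u' ∈ normalizer ((D.omP : Subgroup D.omG) : Set D.omG) := by
    refine mem_normalizer_iff.mpr fun x => ⟨hnorm x, fun hx => ?_⟩
    have hinjP : Function.Injective (fun y : (D.omP : Subgroup D.omG) =>
        (⟨u' * y * u'⁻¹, hnorm y y.2⟩ : (D.omP : Subgroup D.omG))) :=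
      fun x y e => Subtype.ext (mul_left_cancel (mul_right_cancel (congrArg Subtype.val e)))
    obtain ⟨y, hy⟩ := (Finite.injective_iff_surjective.mp hinjP) ⟨_, hx⟩
    rw [← mul_left_cancel (mul_right_cancel (congrArg Subtype.val hy))]
    exact y.2
  obtain ⟨a, ha⟩ := hpu
  have hup : IsPGroup p (zpowers u') := IsPGroup.of_card_dvd_pow (n := a) (by
    rw [Nat.card_zpowers]; exact orderOf_dvd_of_pow_eq_one (by rw [hu', ← map_pow, ha, map_one]))
  have h6 : u' ∈ (D.omP : Subgroup D.omG) :=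
    ((IsPGroup.inf_normalizer_sylow hup D.omP).le ⟨mem_zpowers u', hu'N⟩).2
  refine ⟨u', h6, ?_⟩
  simp [hu', mul_assoc]

/-- Baer and Suzuki: some conjugate does not generate a `p`-group. -/
theorem exists_conj_not_pGroup {w : S} (hw : w ∈ normalizer (D.E : Set S)) (hwE : w ∉ D.E)
    {z : D.omG} (hz : z = D.omHom.rangeRestrict (D.cA ⟨w, hw⟩)) (hzp : z ^ p = 1) :
    ∃ g : D.omG, ¬ IsPGroup p (closure ({z, g * z * g⁻¹} : Set D.omG)) := by
  by_contra hall
  push Not at hall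
  have hzG : IsPGroup p (zpowers z) := IsPGroup.of_card_dvd_pow (n := 1) (by
    rw [pow_one, Nat.card_zpowers]; exact orderOf_dvd_of_pow_eq_one hzp)
  obtain ⟨N, hN, hNp, hle⟩ := Cfsg.Agent.S0199.result (zpowers z) hzG fun g => by
    have e : zpowers z ⊔ (zpowers z).map (MulAut.conj g).toMonoidHom = closure {z, g * z * g⁻¹} := by
      rw [MonoidHom.map_zpowers, zpowers_eq_closure, zpowers_eq_closure, ← Subgroup.closure_union,
        Set.singleton_union]
      rfl
    rw [e]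
    exact hall g
  let K : Subgroup (MulAut D.E) := (N.comap D.omHom.rangeRestrict).map D.A.subtype
  have hKp : IsPGroup p (N.comap D.omHom.rangeRestrict) := by
    refine hNp.comap_of_ker_isPGroup _ ?_
    intro x
    obtain ⟨j, hj⟩ := D.isPGroup_innE ⟨_, (D.omHom_eq_one (x : D.A)).mp x.2⟩
    exact ⟨j, Subtype.ext (Subtype.ext (congrArg Subtype.val hj :))⟩
  have hKn : D.A ≤ normalizer (K : Set (MulAut D.E)) :=
    (normal_subgroupOf_iff_le_normalizer (map_subtype_le _)).mp (by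
      rw [subgroupOf, comap_map_eq_self_of_injective D.A.subtype_injective]
      exact hN.comap D.omHom.rangeRestrict)
  exact hwE (D.cE_mem_innE.mp (D.hrad K (map_subtype_le _) hKn (hKp.map _)
    ⟨D.cA ⟨w, hw⟩, (hz ▸ hle (mem_zpowers z) :), rfl⟩))

set_option maxHeartbeats 1200000 in
/-- The torus automorphism. -/
theorem exists_torus (μ : ZMod p) (hμ : μ ≠ 0) :
    ∃ w ∈ fil S D.i, w ∉ D.E ∧ (∀ v ∈ D.omegaZ, w * ⁅w, v⁆ = ⁅w, v⁆ * w) ∧ ∃ α ∈ D.H, (orderOf α).Coprime p ∧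
      (∀ u : D.T, (u : S) ∈ D.E → ((α u : D.T) : S) ∈ D.E) ∧
      (∀ v : D.T, (v : S) ∈ D.omegaZ → w * v = v * w → ∃ q : D.T, (q : S) ∈ D.omegaZ ∧
        α q = q ^ μ.val ∧ α (v * q⁻¹) = v * q⁻¹) ∧
      ∃ v : D.T, (v : S) ∈ D.omegaZ ∧ w * v ≠ v * w ∧ α v = v ^ (μ⁻¹).val ∧
        ∃ q : D.T, (q : S) ∈ D.omegaZ ∧ (q : S) = ⁅w, (v : S)⁆ ∧ α q = q ^ μ.val := by
  classical
  have hpp : p.Prime := hpf.out
  have hp5 := D.hp
  obtain ⟨w, hw, hwE, hwq⟩ := D.exists_quadratic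
  refine ⟨w, hw, hwE, hwq, ?_⟩
  set g₀ : normalizer (D.E : Set S) := ⟨w, D.fil_i_le_normalizer hw⟩ with hg₀
  have hwT : w ∈ D.T := D.normalizer_le_T g₀.2
  haveI : FiniteDimensional (ZMod p) (Vec p D.Om) := Module.Finite.of_finite
  set z : D.omG := D.omHom.rangeRestrict (D.cA g₀) with hz
  have hfix : ∀ m : D.Om, (D.omS z - 1) (vec m) = 0 ↔ w * ((m : D.E) : S) = ((m : D.E) : S) * w :=
    fun m => D.omS_fix g₀.2 m
  have hq : (D.omS z - 1) * (D.omS z - 1) = 0 := D.omS_quadratic g₀.2 hwq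
  have hzp : z ^ p = 1 := D.omS_injective (by
    rw [map_pow, map_one]
    exact MaxClassEssential.pow_prime_eq_one p (d := 2) (by omega) (by rw [pow_two]; exact hq))
  obtain ⟨g, hg⟩ := D.exists_conj_not_pGroup g₀.2 hwE hz hzp
  obtain ⟨k, hrel, hne⟩ := exists_braid_pair hp5 D.omS D.omS_injective hq hg D.omega_closed
  set z' := k * z * k⁻¹ with hz'
  have hq' : (D.omS z' - 1) * (D.omS z' - 1) = 0 := by
    have e : D.omS z' - 1 = D.omS k * (D.omS z - 1) * D.omS k⁻¹ := by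
      rw [hz', map_mul, map_mul, mul_sub, sub_mul, mul_one, ← map_mul D.omS k k⁻¹, mul_inv_cancel, map_one]
    rw [e, mul_assoc (D.omS k * (D.omS z - 1)), ← mul_assoc (D.omS k⁻¹), ← mul_assoc (D.omS k⁻¹), ← map_mul D.omS k⁻¹,
      inv_mul_cancel, map_one, one_mul, mul_assoc, ← mul_assoc (D.omS z - 1) (D.omS z - 1), hq, zero_mul, mul_zero]
  generalize hA : D.omS z - 1 = A at hq hne hfix
  generalize hB : D.omS z' - 1 = B at hq' hne
  have eA : D.omS z = 1 + A := by rw [← hA]; abel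
  have eB : D.omS z' = 1 + B := by rw [← hB]; abel
  rw [hA, hB, eA, eB] at hrel
  obtain ⟨hc2, hout⟩ := braid_algebra hq hq' hrel
  obtain ⟨e, hex, hsegA, houtv, hkerA, hsplit⟩ := torus_vectors hq hq' hc2 hout
  -- the torus element
  obtain ⟨t, htp, ht1, ht2, ht3, hteq, hAe⟩ :=
    torus_word D.omS D.omS_injective hA hB hq hq' hsegA houtv hkerA hsplit μ hμ
  -- the automorphism
  obtain ⟨η, hη⟩ := D.omHom.rangeRestrict_surjective t
  set C₀ : Subgroup S := D.omegaZ ⊓ centralizer ({w} : Set S) with hC₀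
  have hC₀mem : ∀ m : D.Om, ((m : D.E) : S) ∈ C₀ ↔ A (vec m) = 0 := by
    intro m
    rw [hfix]
    exact ⟨fun h => (mem_centralizer_singleton_iff.mp h.2).symm,
      fun h => ⟨mem_subgroupOf.mp m.2, mem_centralizer_singleton_iff.mpr h.symm⟩⟩
  have hC₀pres : ∀ e₁ : D.E, (e₁ : S) ∈ C₀ → (((η : MulAut D.E) e₁ : D.E) : S) ∈ C₀ := by
    intro e₁ he₁
    set m : D.Om := ⟨e₁, mem_subgroupOf.mpr he₁.1⟩
    have h1 : A (vec m) = 0 := (hC₀mem m).mp he₁
    refine (hC₀mem ⟨(η : MulAut D.E) e₁, (D.mem_stabW_Om _ _).mpr m.2⟩).mpr ?_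
    show A (D.omRep (η : MulAut D.E) (vec m)) = 0
    rw [← D.omS_apply, hη, hteq _ h1, map_add,
      map_smul, h1, hAe _ h1, smul_zero, add_zero]
  have hC₀pres' : ∀ e₁ : D.E, (e₁ : S) ∈ C₀ → ((((η : MulAut D.E))⁻¹ e₁ : D.E) : S) ∈ C₀ := by
    intro e₁ he₁
    have hst : (η : MulAut D.E) ∈ stabW (C₀.subgroupOf D.E) :=
      mem_stabW_of_le fun x hx => mem_subgroupOf.mpr (hC₀pres x (mem_subgroupOf.mp hx))
    exact mem_subgroupOf.mp ((((stabW _).inv_mem hst) e₁).mpr (mem_subgroupOf.mpr he₁))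
  set Q : Subgroup S := normalizer (D.E : Set S) ⊓ centralizer (C₀ : Set S) with hQ
  have hCE : ∀ c ∈ C₀, ∀ y ∈ D.E, c * y = y * c := fun c hc y hy => hc.1.2.2 y hy
  have hlt : D.E < Q := by
    refine lt_of_le_of_ne (fun y hy => ⟨le_normalizer hy, mem_centralizer_iff.mpr fun c hc => hCE c hc y hy⟩) ?_
    intro e₁
    exact hwE (e₁.ge ⟨g₀.2, mem_centralizer_iff.mpr fun c hc => (mem_centralizer_singleton_iff.mp hc.2)⟩)
  obtain ⟨α, hαH, hres⟩ := D.ext (η : MulAut D.E) η.2 Q hlt inf_le_left fun q hq => by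
    have hfix0 : ∀ e₁ : D.E, (e₁ : S) ∈ C₀ → D.cE q e₁ = e₁ := fun e₁ he₁ => Subtype.ext (by
      rw [D.coe_cE, ← mem_centralizer_iff.mp hq.2 _ he₁, mul_inv_cancel_right])
    have hfix1 : ∀ e₁ : D.E, (e₁ : S) ∈ C₀ →
        ((η : MulAut D.E) * D.cE q * (η : MulAut D.E)⁻¹) e₁ = e₁ := fun e₁ he₁ => by
      rw [MulAut.mul_apply, MulAut.mul_apply, hfix0 _ (hC₀pres' e₁ he₁), MulAut.apply_inv_self]
    have hmem : (η : MulAut D.E) * D.cE q * (η : MulAut D.E)⁻¹ ∈ D.fixLast :=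
      mem_inf.mpr ⟨mul_mem (mul_mem η.2 (D.cE_mem q)) (inv_mem η.2), fun u hu => hfix1 u
        ⟨D.fil_last_le_omegaZ (mem_subgroupOf.mp hu),
          mem_centralizer_singleton_iff.mpr (D.toFrame.fil_last_central (mem_subgroupOf.mp hu) hwT)⟩⟩
    rw [D.fixLast_eq] at hmem
    obtain ⟨q', hq'⟩ := hmem
    refine ⟨q', ⟨q'.2, mem_centralizer_iff.mpr fun c hc => ?_⟩, hq'.symm⟩
    have h1 := congrArg Subtype.val (hfix1 ⟨c, hc.1.1⟩ hc)
    rw [← hq', D.coe_cE] at h1
    exact (mul_inv_eq_iff_eq_mul.mp h1).symm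
  haveI : Finite (MulAut D.T) := Finite.of_injective (fun f => (f : D.T → D.T)) DFunLike.coe_injective
  obtain ⟨a, r, hr, hord⟩ := Nat.exists_eq_pow_mul_and_not_dvd (orderOf_pos α).ne' p hpp.ne_one
  refine ⟨α ^ p ^ a, pow_mem hαH _, ?_, ?_, ?_, ?_⟩
  · rw [orderOf_pow' α (pow_ne_zero a hpp.ne_zero), hord, Nat.gcd_mul_right_left,
      Nat.mul_div_cancel_left r (pow_pos hpp.pos a)]
    exact (hpp.coprime_iff_not_dvd.mpr hr).symm
  all_goals
    have hpow : ∀ (l : ℕ) (e₁ : D.E), (α ^ l) ⟨(e₁ : S), D.hET e₁.2⟩ =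
        ⟨((((η : MulAut D.E) ^ l) e₁ : D.E) : S), D.hET (((η : MulAut D.E) ^ l) e₁).2⟩ := by
      intro l
      induction l with
      | zero => intro e₁; rfl
      | succ l ih =>
        intro e₁
        simp only [pow_succ, MulAut.mul_apply]
        rw [← ih]
        exact congrArg (fun v => (α ^ l) v) (Subtype.ext (hres e₁))
    have htpow : ∀ l : ℕ, t ^ p ^ l = t := by
      intro l
      induction l with
      | zero => rw [pow_zero, pow_one]
      | succ l ih => rw [pow_succ, pow_mul, ih, htp]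
    have hrep : ∀ m : D.Om, (α ^ p ^ a) ⟨((m : D.E) : S), D.hET (m : D.E).2⟩ =
        ⟨(((((η : MulAut D.E) ^ p ^ a) (m : D.E)) : D.E) : S), D.hET (((η : MulAut D.E) ^ p ^ a) (m : D.E)).2⟩ ∧
        (vec (⟨((η : MulAut D.E) ^ p ^ a) (m : D.E), (D.mem_stabW_Om _ _).mpr m.2⟩ : D.Om) : Vec p D.Om) =
          D.omS t (vec m) := fun m => ⟨hpow _ _, by
      rw [← htpow a, ← hη, ← map_pow, D.omS_apply, Subgroup.coe_pow]; rfl⟩
    have hback : ∀ (m : D.Om) (l : ℕ), D.omS t (vec m) = vec (m ^ l) →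
        (α ^ p ^ a) ⟨((m : D.E) : S), D.hET (m : D.E).2⟩ = (⟨((m : D.E) : S), D.hET (m : D.E).2⟩ : D.T) ^ l := by
      intro m l hm
      obtain ⟨h1, h2⟩ := hrep m
      have h3 := congrArg (fun x : D.Om => ((x : D.E) : S)) (D.vecOm_injective (h2.trans hm))
      refine h1.trans (Subtype.ext ?_)
      simpa using h3
  · intro u hu
    have h1 := congrArg Subtype.val (hpow (p ^ a) ⟨u, hu⟩)
    exact h1 ▸ (((η : MulAut D.E) ^ p ^ a) ⟨u, hu⟩).2
  · intro v hv hwv
    set m : D.Om := ⟨⟨v, hv.1⟩, mem_subgroupOf.mpr hv⟩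
    have h1 : A (vec m) = 0 := (hfix m).mpr hwv
    obtain ⟨q, hq⟩ := MaxClassEssential.vec_surjective (e (vec m))
    obtain ⟨u, hu⟩ := hkerA _ h1
    refine ⟨⟨((q : D.E) : S), D.hET (q : D.E).2⟩, mem_subgroupOf.mp q.2, ?_, ?_⟩
    · refine hback q μ.val ?_
      rw [hq, MaxClassEssential.vec_pow, hq, ← Nat.cast_smul_eq_nsmul (ZMod p), ZMod.natCast_zmod_val, hu, ht1]
    · have h3 := hback (m * q⁻¹) 1 (by
        rw [pow_one, MaxClassEssential.vec_mul, MaxClassEssential.vec_inv, hq, ← sub_eq_add_neg]; exact ht3 _)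
      rw [pow_one] at h3
      exact h3
  · obtain ⟨v₀, hv₀⟩ := hex hne
    obtain ⟨m, hm⟩ := MaxClassEssential.vec_surjective (B (A (e v₀)))
    refine ⟨⟨((m : D.E) : S), D.hET (m : D.E).2⟩, mem_subgroupOf.mp m.2, fun h => hv₀ ?_, ?_⟩
    · have h1 := (hfix m).mpr h
      rw [hm, (hsegA v₀).2.2, neg_eq_zero] at h1
      exact h1
    · refine ⟨hback m _ ?_, ?_⟩
      · rw [hm, MaxClassEssential.vec_pow, hm, ← Nat.cast_smul_eq_nsmul (ZMod p), ZMod.natCast_zmod_val, ht2]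
      · obtain ⟨m', hm', hv'⟩ := D.omS_comm g₀.2 m
        have hv'' : (vec m' : Vec p D.Om) = -A (e v₀) := by
          rw [← (hsegA v₀).2.2, ← hm, ← hA]
          exact hv'
        refine ⟨⟨((m' : D.E) : S), D.hET (m' : D.E).2⟩, mem_subgroupOf.mp m'.2, hm', hback m' μ.val ?_⟩
        rw [hv'', MaxClassEssential.vec_pow, hv'', ← Nat.cast_smul_eq_nsmul (ZMod p), ZMod.natCast_zmod_val,
          map_neg, ht1, smul_neg]

end Data

end CfsgLib.MaxClassResidual
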