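import Cfsg.Agent.Lib.MaxClassResidual.Block
import Cfsg.Agent.Lib.MaxClassResidual.Klein
import Cfsg.Agent.Lib.Dickson.QuadraticPair
import Mathlib.LinearAlgebra.Matrix.Charpoly.Coeff

/-!
An element with two eigenvalues in a group with one Jordan block normalises the block.
-/

set_option autoImplicit false
set_option linter.unusedSectionVars false
set_option linter.style.haveILetI false
set_option maxHeartbeats 400000

namespace CfsgLib.MaxClassResidual

open Subgroup

variable {p : ℕ} [hpf : Fact p.Prime]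

section plane

variable {K : Type*} [Field K] {V : Type*} [AddCommGroup V] [Module K V]

/-- An eigenvector of the invariant of two idempotents spans, with its partner, a plane. -/
theorem exists_pair_plane {A B : Module.End K V} (hA : A * A = A) (hB : B * B = B) {lam : K} {v : V}
    (hv : v ≠ 0) (h0 : lam ≠ 0) (h1 : lam ≠ 1) (hc : (A + B - A * B - B * A) v = lam • v) :
    ∃ v₁ v₂ : V, LinearIndependent K ![v₁, v₂] ∧ A v₁ = v₁ ∧ A v₂ = 0 ∧
      B v₁ = (1 - lam) • v₁ + v₂ ∧ B v₂ = (lam * (1 - lam)) • v₁ + lam • v₂ ∧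
      (A + B - A * B - B * A) v₁ = lam • v₁ ∧ (A + B - A * B - B * A) v₂ = lam • v₂ := by
  have hA' : ∀ w, A (A w) = A w := fun w => by rw [← Module.End.mul_apply, hA]
  have hB' : ∀ w, B (B w) = B w := fun w => by rw [← Module.End.mul_apply, hB]
  set c := A + B - A * B - B * A with hcdef
  have hcA : ∀ w, c (A w) = A (c w) := fun w => by simp [hcdef, hA']; abel
  have hcB : ∀ w, c (B w) = B (c w) := fun w => by simp [hcdef, hB']; abel
  have hcap : ∀ w, c w = A w + B w - A (B w) - B (A w) := fun w => by simp [hcdef]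
  obtain ⟨v₁, hv₁, hAv₁, hcv₁⟩ : ∃ v₁, v₁ ≠ 0 ∧ A v₁ = v₁ ∧ c v₁ = lam • v₁ := by
    by_cases hAv : A v = 0
    · refine ⟨A (B v), fun h => ?_, hA' _, by rw [hcA, hcB, hc, map_smul, map_smul]⟩
      rw [hcap, hAv, h, map_zero, zero_add, sub_zero, sub_zero] at hc
      have h2 : B (B v) = lam • B v := by conv_lhs => rw [hc, map_smul]
      rw [hB', hc, smul_smul] at h2
      have h3 : (lam * lam - lam) • v = 0 := by rw [sub_smul, ← h2, sub_self]
      rcases smul_eq_zero.mp h3 with h4 | h4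
      · rcases mul_eq_zero.mp (show lam * (lam - 1) = 0 by rw [mul_sub, mul_one]; exact h4) with h5 | h5
        · exact h0 h5
        · exact h1 (sub_eq_zero.mp h5)
      · exact hv h4
    · exact ⟨A v, hAv, hA' v, by rw [hcA, hc, map_smul]⟩
  refine ⟨v₁, B v₁ - A (B v₁), ?_⟩
  have hABv : A (B v₁) = (1 - lam) • v₁ := by
    have h2 := hcap v₁
    rw [hcv₁, hAv₁] at h2
    rw [sub_smul, one_smul, h2]; abel
  have hv2 : B v₁ - A (B v₁) ≠ 0 := by
    intro h
    rw [sub_eq_zero, hABv] at h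
    have h2 := hB' v₁
    rw [h, map_smul, h, smul_smul] at h2
    have h3 : ((1 - lam) * (1 - lam) - (1 - lam)) • v₁ = 0 := by rw [sub_smul, h2, sub_self]
    rcases mul_eq_zero.mp (show (1 - lam) * lam = 0 by
      linear_combination -(smul_eq_zero.mp h3).resolve_right hv₁) with h4 | h4
    · exact h1 (sub_eq_zero.mp h4).symm
    · exact h0 h4
  refine ⟨?_, hAv₁, by rw [map_sub, hA', sub_self], by rw [hABv]; abel, ?_, hcv₁, ?_⟩
  · rw [LinearIndependent.pair_iff]
    intro s t hst
    have h2 := congrArg A hst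
    rw [map_add, map_smul, map_smul, hAv₁, map_sub, hA', sub_self, smul_zero, add_zero, map_zero] at h2
    have hs : s = 0 := (smul_eq_zero.mp h2).resolve_right hv₁
    rw [hs, zero_smul, zero_add] at hst
    exact ⟨hs, (smul_eq_zero.mp hst).resolve_right hv2⟩
  · rw [map_sub, hB', hABv, map_smul]
    module
  · rw [map_sub, hcB, hcA, hcB, hcv₁, map_smul, map_smul, smul_sub]

/-- The matrices of the two generators. -/
def gA (μ : K) : Matrix (Fin 2) (Fin 2) K := !![μ, 0; 0, 1]

/-- The matrices of the two generators. -/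
def gB (μ lam : K) : Matrix (Fin 2) (Fin 2) K :=
  !![1 + (μ - 1) * (1 - lam), (μ - 1) * (lam * (1 - lam)); μ - 1, 1 + (μ - 1) * lam]

/-- The action on the plane. -/
theorem exists_plane_hom {G : Type*} [Group G] [Finite G] (τ : G →* Module.End K V) {t u : G}
    (hgen : closure ({t, u} : Set G) = ⊤) {A B : Module.End K V} {μ lam : K}
    (ht : τ t = 1 + (μ - 1) • A) (hu : τ u = 1 + (μ - 1) • B) {v₁ v₂ : V}
    (hli : LinearIndependent K ![v₁, v₂]) (hA1 : A v₁ = v₁) (hA2 : A v₂ = 0)
    (hB1 : B v₁ = (1 - lam) • v₁ + v₂) (hB2 : B v₂ = (lam * (1 - lam)) • v₁ + lam • v₂) :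
    ∃ Φ : G →* Matrix (Fin 2) (Fin 2) K, Φ t = gA μ ∧ Φ u = gB μ lam ∧
      ∀ g, τ g v₁ = Φ g 0 0 • v₁ + Φ g 1 0 • v₂ ∧ τ g v₂ = Φ g 0 1 • v₁ + Φ g 1 1 • v₂ := by
  classical
  let R : G → Matrix (Fin 2) (Fin 2) K → Prop := fun g T =>
    τ g v₁ = T 0 0 • v₁ + T 1 0 • v₂ ∧ τ g v₂ = T 0 1 • v₁ + T 1 1 • v₂
  have huniq : ∀ g T T', R g T → R g T' → T = T' := by
    rintro g T T' ⟨h1, h2⟩ ⟨h1', h2'⟩
    have e1 := (LinearIndependent.pair_iff.mp hli) (T 0 0 - T' 0 0) (T 1 0 - T' 1 0) (by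
      rw [sub_smul, sub_smul]; linear_combination (norm := module) (h1.symm.trans h1'))
    have e2 := (LinearIndependent.pair_iff.mp hli) (T 0 1 - T' 0 1) (T 1 1 - T' 1 1) (by
      rw [sub_smul, sub_smul]; linear_combination (norm := module) (h2.symm.trans h2'))
    ext i j
    fin_cases i <;> fin_cases j <;> simp [sub_eq_zero.mp e1.1, sub_eq_zero.mp e1.2, sub_eq_zero.mp e2.1, sub_eq_zero.mp e2.2]
  have hone : R 1 1 := by simp [R]
  have hmul : ∀ g h T U, R g T → R h U → R (g * h) (T * U) := by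
    rintro g h T U ⟨h1, h2⟩ ⟨k1, k2⟩
    refine ⟨?_, ?_⟩ <;>
      simp only [map_mul, Module.End.mul_apply, k1, k2, map_add, map_smul, h1, h2, Matrix.mul_apply,
        Fin.sum_univ_two] <;> module
  have htR : R t (gA μ) := by
    constructor <;> simp [R, gA, ht, hA1, hA2] <;> module
  have huR : R u (gB μ lam) := by
    constructor <;> simp [R, gB, hu, hB1, hB2] <;> module
  have hall : ∀ g, ∃ T, R g T := by
    intro g
    have hg : g ∈ Submonoid.closure ({t, u} : Set G) := by
      rw [← Subgroup.closure_toSubmonoid_of_finite, hgen]; trivial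
    induction hg using Submonoid.closure_induction with
    | mem y hy =>
      rcases hy with rfl | hy
      · exact ⟨_, htR⟩
      · rw [Set.mem_singleton_iff.mp hy]; exact ⟨_, huR⟩
    | one => exact ⟨1, hone⟩
    | mul a b _ _ iha ihb =>
      obtain ⟨T, hT⟩ := iha; obtain ⟨U, hU⟩ := ihb; exact ⟨_, hmul a b T U hT hU⟩
  choose Φ hΦ using hall
  exact ⟨{ toFun := Φ, map_one' := huniq _ _ _ (hΦ 1) hone,
           map_mul' := fun a b => huniq _ _ _ (hΦ _) (hmul a b _ _ (hΦ a) (hΦ b)) },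
    huniq _ _ _ (hΦ t) htR, huniq _ _ _ (hΦ u) huR, hΦ⟩

/-- No line is fixed by both generators. -/
theorem eq_zero_of_common {μ lam : K} (hμ : μ ≠ 1) (h0 : lam ≠ 0) (h1 : lam ≠ 1) {f : Fin 2 → K}
    {a b : K} (ha : (gA μ).mulVec f = a • f) (hb : (gB μ lam).mulVec f = b • f) : f = 0 := by
  have a0 := congrFun ha 0
  have a1 := congrFun ha 1
  have b0 := congrFun hb 0
  have b1 := congrFun hb 1
  simp [gA, gB, Matrix.mulVec, dotProduct, Fin.sum_univ_two] at a0 a1 b0 b1
  have hμ' : μ - 1 ≠ 0 := sub_ne_zero.mpr hμ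
  by_cases hf : f 0 = 0
  · rw [hf] at b0
    simp [mul_eq_zero, hμ', h0, sub_eq_zero, Ne.symm h1] at b0
    funext i; fin_cases i <;> assumption
  · have : μ = a := by rcases a0 with h | h; exacts [h, absurd h hf]
    subst this
    have hf1 : f 1 = 0 := by
      refine (mul_eq_zero.mp (show (μ - 1) * f 1 = 0 from ?_)).resolve_left hμ'
      linear_combination -a1
    rw [hf1] at b1
    simp [mul_eq_zero, hμ', hf] at b1

end plane

section main

variable {V : Type*} [AddCommGroup V] [Module (ZMod p) V] [Finite V] {X : Type*} [Group X] [Finite X]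
  {σ : X →* Module.End (ZMod p) V} {x : X} {d : ℕ}

/-- The powers of a map with two eigenvalues. -/
theorem two_eigen_pow {R : Type*} [Ring R] [Algebra (ZMod p) R] {A : R} (hA : A * A = A) (μ : ZMod p) (m : ℕ) :
    (1 + (μ - 1) • A) ^ m = 1 + (μ ^ m - 1) • A := by
  induction m with
  | zero => simp
  | succ m ih =>
    rw [pow_succ, ih, pow_succ]
    simp only [mul_add, add_mul, one_mul, mul_one, smul_mul_smul_comm, hA]
    module

theorem OneBlock.pow_card_sub_one (O : OneBlock σ x d) {t : X} {A : Module.End (ZMod p) V} (hA : A * A = A)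
    {μ : ZMod p} (hμ : μ ≠ 0) (ht : σ t = 1 + (μ - 1) • A) : t ^ (p - 1) = 1 := O.inj (by
  rw [map_pow, map_one, ht, two_eigen_pow hA, ZMod.pow_card_sub_one_eq_one hμ, sub_self, zero_smul, add_zero])

/-- The invariant of two idempotents avoids having only the values zero and one. -/
theorem OneBlock.not_nilpotent (O : OneBlock σ x d) (hd : 3 ≤ d) {t u : X} {A B : Module.End (ZMod p) V}
    (hA : A * A = A) (hB : B * B = B) {μ : ZMod p} (hμ0 : μ ≠ 0) (hμ : μ ^ 2 ≠ 1)
    (ht : σ t = 1 + (μ - 1) • A) (hu : σ u = 1 + (μ - 1) • B) (hne : t * u ≠ u * t) :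
    ¬ IsNilpotent ((A + B - A * B - B * A) * (A + B - A * B - B * A) - (A + B - A * B - B * A)) := by
  intro hnil
  set N := A * B - B * A with hN
  have hA' : ∀ w, A (A w) = A w := fun w => by rw [← Module.End.mul_apply, hA]
  have hB' : ∀ w, B (B w) = B w := fun w => by rw [← Module.End.mul_apply, hB]
  have hN2 : N * N = (A + B - A * B - B * A) * (A + B - A * B - B * A) - (A + B - A * B - B * A) :=
    LinearMap.ext fun w => by simp [hN, hA', hB']; abel
  obtain ⟨m, hm⟩ : IsNilpotent N := by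
    obtain ⟨m, hm⟩ := hnil
    exact ⟨2 * m, by rw [pow_mul, pow_two, hN2, hm]⟩
  have hNA : ∀ w, A (N w) = N (w - A w) := fun w => by simp [hN, hA']
  have hNB : ∀ w, B (N w) = N (w - B w) := fun w => by simp [hN, hB']
  have hrA : ∀ (k : ℕ) v, ∃ z, A ((N ^ k) v) = (N ^ k) z ∧ ∃ z', B ((N ^ k) v) = (N ^ k) z' := by
    intro k
    induction k with
    | zero => exact fun v => ⟨A v, rfl, B v, rfl⟩
    | succ k ih =>
      intro v
      obtain ⟨z, hz, z', hz'⟩ := ih v
      refine ⟨v - z, ?_, v - z', ?_⟩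
      · rw [pow_succ', Module.End.mul_apply, Module.End.mul_apply, hNA, hz, ← map_sub]
      · rw [pow_succ', Module.End.mul_apply, Module.End.mul_apply, hNB, hz', ← map_sub]
  -- the elements trivial on the series
  let Good : X → Prop := fun g => ∀ (k : ℕ) v, ∃ z, σ g ((N ^ k) v) - (N ^ k) v = (N ^ (k + 1)) z
  have hGmul : ∀ g h, Good g → Good h → Good (g * h) := by
    intro g h hg hh k v
    obtain ⟨z, hz⟩ := hh k v
    obtain ⟨z', hz'⟩ := hg (k + 1) z
    obtain ⟨z'', hz''⟩ := hg k v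
    refine ⟨N z' + z + z'', ?_⟩
    rw [sub_eq_iff_eq_add] at hz hz' hz''
    rw [map_mul, Module.End.mul_apply, hz, map_add, hz', hz'', map_add, map_add, pow_succ _ (k + 1),
      Module.End.mul_apply]
    abel
  let P₀ : Subgroup X :=
    { carrier := {g | Good g}
      one_mem' := fun k v => ⟨0, by simp⟩
      mul_mem' := fun {a b} ha hb => hGmul a b ha hb
      inv_mem' := fun {a} ha => by
        have hpos : ∀ i : ℕ, Good (a ^ i) := fun i => by
          induction i with
          | zero => intro k v; exact ⟨0, by simp⟩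
          | succ i ih => rw [pow_succ]; exact hGmul _ _ ih ha
        show Good a⁻¹
        rw [show a⁻¹ = a ^ (orderOf a - 1) from inv_eq_of_mul_eq_one_right (by
          rw [← pow_succ', Nat.sub_add_cancel (orderOf_pos a), pow_orderOf_eq_one])]
        exact hpos _ }
  have hP₀ : IsPGroup p P₀ := by
    intro ⟨g, hg⟩
    refine ⟨m, Subtype.ext (O.inj ?_)⟩
    haveI := O.nontriv
    haveI : CharP (Module.End (ZMod p) V) p :=
      charP_of_injective_algebraMap (FaithfulSMul.algebraMap_injective (ZMod p) (Module.End (ZMod p) V)) p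
    have hz : ∀ k v, ∃ z, ((σ g - 1) ^ k) v = (N ^ k) z := by
      intro k
      induction k with
      | zero => exact fun v => ⟨v, rfl⟩
      | succ k ih =>
        intro v
        obtain ⟨z, hz⟩ := ih v
        obtain ⟨z', hz'⟩ := hg k z
        exact ⟨z', by rw [pow_succ', Module.End.mul_apply, hz, LinearMap.sub_apply, Module.End.one_apply, hz']⟩
    have h0 : (σ g - 1) ^ m = 0 := LinearMap.ext fun v => by
      obtain ⟨z, hz⟩ := hz m v; rw [hz, hm, LinearMap.zero_apply, LinearMap.zero_apply]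
    have h1 := pow_eq_zero_of_le (Nat.lt_pow_self hpf.out.one_lt).le h0
    rw [sub_pow_char_pow_of_commute p m (Commute.one_right _), one_pow, sub_eq_zero] at h1
    show σ (g ^ p ^ m) = σ 1
    rw [map_pow, map_one, h1]
  -- the generators normalise it
  have hcomb : ∀ (C : Module.End (ZMod p) V) (ν : ZMod p), (∀ k v, ∃ z, C ((N ^ k) v) = (N ^ k) z) →
      ∀ k v, ∃ z, (1 + ν • C) ((N ^ k) v) = (N ^ k) z := by
    intro C ν hC k v
    obtain ⟨z, hz⟩ := hC k v
    exact ⟨v + ν • z, by simp [hz]⟩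
  have hinvT : ∀ {w : X} {C : Module.End (ZMod p) V}, C * C = C → σ w = 1 + (μ - 1) • C →
      σ w⁻¹ = 1 + (μ⁻¹ - 1) • C := by
    intro w C hC hw
    have h1 : σ w * (1 + (μ⁻¹ - 1) • C) = 1 := by
      rw [hw]
      simp only [mul_add, add_mul, one_mul, mul_one, smul_mul_smul_comm, hC]
      match_scalars <;> field_simp <;> ring
    calc σ w⁻¹ = σ w⁻¹ * (σ w * (1 + (μ⁻¹ - 1) • C)) := by rw [h1, mul_one]
      _ = _ := by rw [← mul_assoc, ← map_mul, inv_mul_cancel, map_one, one_mul]
  have hcon : ∀ g, Good g → Good (t * g * t⁻¹) := by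
    intro g hg k v
    obtain ⟨z, hz⟩ := hcomb A (μ⁻¹ - 1) (fun k v => ⟨_, (hrA k v).choose_spec.1⟩) k v
    obtain ⟨z', hz'⟩ := hg k z
    obtain ⟨z'', hz''⟩ := hcomb A (μ - 1) (fun k v => ⟨_, (hrA k v).choose_spec.1⟩) (k + 1) z'
    refine ⟨z'', ?_⟩
    have e : σ t (σ t⁻¹ ((N ^ k) v)) = (N ^ k) v := by
      rw [← Module.End.mul_apply, ← map_mul, mul_inv_cancel, map_one, Module.End.one_apply]
    rw [map_mul, map_mul, Module.End.mul_apply, Module.End.mul_apply]
    conv_lhs => arg 2; rw [← e]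
    rw [← map_sub, hinvT hA ht, hz, hz', ht, hz'']
  set g₀ := t * u * t⁻¹ * u⁻¹ with hg₀
  have hg₀P : g₀ ∈ P₀ := by
    intro k v
    obtain ⟨z, hz⟩ := hcomb B (μ⁻¹ - 1) (fun k v => ⟨_, (hrA k v).choose_spec.2.choose_spec⟩) k v
    obtain ⟨z', hz'⟩ := hcomb A (μ⁻¹ - 1) (fun k v => ⟨_, (hrA k v).choose_spec.1⟩) k z
    refine ⟨((μ - 1) * (μ - 1)) • z', ?_⟩
    rw [← hinvT hB hu] at hz
    rw [← hinvT hA ht] at hz'
    have hw : (N ^ k) z' = σ t⁻¹ (σ u⁻¹ ((N ^ k) v)) := by rw [hz, hz']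
    have e : σ u (σ t ((N ^ k) z')) = (N ^ k) v := by
      rw [hw, ← Module.End.mul_apply (σ t), ← map_mul, mul_inv_cancel, map_one, Module.End.one_apply,
        ← Module.End.mul_apply, ← map_mul, mul_inv_cancel, map_one, Module.End.one_apply]
    rw [hg₀, map_mul, map_mul, map_mul, Module.End.mul_apply, Module.End.mul_apply, Module.End.mul_apply, ← hw]
    conv_lhs => arg 2; rw [← e]
    rw [map_smul, pow_succ', Module.End.mul_apply, ht, hu]
    simp only [hN, LinearMap.add_apply, LinearMap.smul_apply, Module.End.one_apply, map_add, map_smul,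
      LinearMap.sub_apply, Module.End.mul_apply]
    module
  have hg₀1 : g₀ ≠ 1 := fun h => hne (by
    rw [hg₀, mul_inv_eq_one, mul_inv_eq_iff_eq_mul] at h; exact h)
  obtain ⟨h, hh⟩ := O.syl P₀ hP₀
  obtain ⟨y, hy, ey⟩ := hh hg₀P
  obtain ⟨l, rfl⟩ := (mem_powers_iff_mem_zpowers.mpr hy : y ∈ Submonoid.powers x)
  simp only [MulEquiv.coe_toMonoidHom, MulAut.conj_apply] at ey
  have hl : ¬ p ∣ l := fun ⟨c, hc⟩ => hg₀1 (by rw [← ey, hc, pow_mul, O.x_pow, one_pow, mul_one, mul_inv_cancel])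
  obtain ⟨l', hl'0, hl'⟩ := Nat.exists_mul_mod_eq_one_of_coprime (hpf.out.coprime_iff_not_dvd.mpr hl).symm
    hpf.out.one_lt
  have hxl : (x ^ l) ^ l' = x := by
    rw [← pow_mul, ← Nat.div_add_mod (l * l') p, hl', pow_add, pow_mul, O.x_pow, one_pow, one_mul, pow_one]
  obtain ⟨a, hga⟩ : ∃ a : ℕ, t * g₀ * t⁻¹ = g₀ ^ a := by
    obtain ⟨y, hy, e⟩ := hh (hcon g₀ hg₀P)
    obtain ⟨b, rfl⟩ := (mem_powers_iff_mem_zpowers.mpr hy : y ∈ Submonoid.powers x)
    simp only [MulEquiv.coe_toMonoidHom, MulAut.conj_apply] at e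
    refine ⟨l' * b, ?_⟩
    rw [← e, ← ey, conj_pow, pow_mul, hxl]
  -- the weights
  set M := σ g₀ - 1 with hM
  set M₀ := σ x - 1 with hM₀
  obtain ⟨e₀, he₀⟩ := O.top
  have hgeom : ∀ (Q : Module.End (ZMod p) V) (i : ℕ), ∃ R, (1 + Q) ^ i - 1 = Q * ((i : ZMod p) • 1 + Q * R) ∧
      R * Q = Q * R := by
    intro Q i
    induction i with
    | zero => exact ⟨0, by simp, by simp⟩
    | succ i ih =>
      obtain ⟨R, hR, hRc⟩ := ih
      refine ⟨R + (i : ZMod p) • 1 + Q * R, ?_, ?_⟩
      · rw [pow_succ, mul_add, mul_one, sub_eq_iff_eq_add.mp hR, Nat.cast_succ, add_smul, one_smul]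
        simp only [add_mul, mul_add, mul_assoc, hRc, one_mul, mul_one, smul_one_mul, mul_smul_one, smul_mul_assoc,
          mul_smul_comm]
        abel
      · simp only [add_mul, mul_add, mul_assoc, hRc, one_mul, mul_one, smul_mul_assoc, mul_smul_comm]
  obtain ⟨R, hR, hRc⟩ := hgeom M₀ l
  have hMtop : (M ^ (d - 1)) (σ h e₀) ≠ 0 := by
    have hcomm : Commute M₀ ((l : ZMod p) • 1 + M₀ * R) := by
      refine Commute.add_right (Commute.smul_right (Commute.one_right _) _) ?_
      exact (Commute.refl M₀).mul_right hRc.symm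
    have hlow : ∀ j, M₀ ^ (d - 1) * ((l : ZMod p) • 1 + M₀ * R) ^ j = (l : ZMod p) ^ j • M₀ ^ (d - 1) := by
      intro j
      induction j with
      | zero => simp
      | succ j ih =>
        rw [pow_succ, ← mul_assoc, ih, smul_mul_assoc, mul_add, ← mul_assoc, ← pow_succ,
          show d - 1 + 1 = d by have := O.two_le; omega, O.nil, zero_mul, add_zero, mul_smul_comm, mul_one,
          smul_smul, ← pow_succ]
    have hsx : σ (x ^ l) - 1 = M₀ * ((l : ZMod p) • 1 + M₀ * R) := by
      rw [← hR, map_pow, hM₀, add_sub_cancel]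
    have hMh : ∀ j v, (M ^ j) (σ h v) = σ h (((σ (x ^ l) - 1) ^ j) v) := by
      intro j
      induction j with
      | zero => simp
      | succ j ih =>
        intro v
        rw [pow_succ', Module.End.mul_apply, ih, pow_succ', Module.End.mul_apply, hM, ← ey, map_mul, map_mul,
          LinearMap.sub_apply, Module.End.mul_apply, Module.End.mul_apply, ← Module.End.mul_apply (σ h⁻¹),
          ← map_mul σ h⁻¹, inv_mul_cancel, map_one, Module.End.one_apply, Module.End.one_apply,
          LinearMap.sub_apply, map_sub, Module.End.one_apply]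
    rw [hMh, hsx, hcomm.mul_pow, hlow, LinearMap.smul_apply, map_smul]
    refine smul_ne_zero (pow_ne_zero _ fun h0 => hl ((ZMod.natCast_eq_zero_iff _ _).mp h0)) fun h0 => he₀ ?_
    have := congrArg (σ h⁻¹) h0
    rwa [← Module.End.mul_apply, ← map_mul, inv_mul_cancel, map_one, Module.End.one_apply, map_zero] at this
  have hMd : M ^ d = 0 := by
    have h1 : (σ (x ^ l) - 1) ^ d = 0 := by
      rw [show σ (x ^ l) - 1 = M₀ * ((l : ZMod p) • 1 + M₀ * R) by rw [← hR, map_pow, hM₀, add_sub_cancel],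
        (Commute.add_right (Commute.smul_right (Commute.one_right _) _)
          ((Commute.refl M₀).mul_right hRc.symm)).mul_pow, O.nil, zero_mul]
    have e : M = σ h * (σ (x ^ l) - 1) * σ h⁻¹ := by
      rw [hM, ← ey, map_mul, map_mul, mul_sub, sub_mul, mul_one, ← map_mul σ h h⁻¹, mul_inv_cancel, map_one]
    have hpw : ∀ j, M ^ j = σ h * (σ (x ^ l) - 1) ^ j * σ h⁻¹ := fun j => by
      induction j with
      | zero => rw [pow_zero, pow_zero, mul_one, ← map_mul, mul_inv_cancel, map_one]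
      | succ j ih =>
        rw [pow_succ, ih, e, mul_assoc, mul_assoc, ← mul_assoc (σ h⁻¹), ← mul_assoc (σ h⁻¹), ← map_mul σ h⁻¹,
          inv_mul_cancel, map_one, one_mul, pow_succ]
        simp only [mul_assoc]
    rw [hpw, h1, mul_zero, zero_mul]
  obtain ⟨e, ε, he, hε, hεv⟩ : ∃ (e : V) (ε : ZMod p), (M ^ (d - 1)) e ≠ 0 ∧ σ t e = ε • e ∧ (ε = 1 ∨ ε = μ) := by
    by_cases h1 : (M ^ (d - 1)) (A (σ h e₀)) = 0
    · refine ⟨σ h e₀ - A (σ h e₀), 1, by rwa [map_sub, h1, sub_zero], ?_, Or.inl rfl⟩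
      simp [ht, hA']
    · refine ⟨A (σ h e₀), μ, h1, ?_, Or.inr rfl⟩
      simp [ht, hA']
      module
  obtain ⟨Ra, hRa, hRac⟩ := hgeom M a
  have htM : ∀ v, σ t (M v) = M (((a : ZMod p) • 1 + M * Ra) (σ t v)) := by
    intro v
    rw [← Module.End.mul_apply M, ← hRa, hM, add_sub_cancel, ← map_pow, ← hga, LinearMap.sub_apply, map_sub,
      LinearMap.sub_apply, Module.End.one_apply, Module.End.one_apply, ← Module.End.mul_apply, ← map_mul,
      ← Module.End.mul_apply, ← map_mul, show t * g₀ * t⁻¹ * t = t * g₀ by group]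
  have hrM : ∀ j v, ∃ z, σ t ((M ^ j) v) = (a : ZMod p) ^ j • (M ^ j) (σ t v) + (M ^ (j + 1)) z := by
    intro j
    induction j with
    | zero => exact fun v => ⟨0, by simp⟩
    | succ j ih =>
      intro v
      obtain ⟨z, hz⟩ := ih v
      refine ⟨(a : ZMod p) • z + Ra ((a : ZMod p) ^ j • (σ t v) + M z), ?_⟩
      have hc1 : ∀ w, Ra (M w) = M (Ra w) := fun w => by rw [← Module.End.mul_apply, hRac, Module.End.mul_apply]
      have hc2 : ∀ i w, Ra ((M ^ i) w) = (M ^ i) (Ra w) := fun i w => by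
        rw [← Module.End.mul_apply, (Commute.pow_right hRac i).eq, Module.End.mul_apply]
      have hc3 : ∀ i w, (M ^ i) (M w) = M ((M ^ i) w) := fun i w => by
        rw [← Module.End.mul_apply, ← pow_succ, pow_succ', Module.End.mul_apply]
      rw [pow_succ', Module.End.mul_apply, htM, hz]
      simp only [LinearMap.add_apply, LinearMap.smul_apply, Module.End.one_apply, Module.End.mul_apply, map_add,
        map_smul, hc2, pow_succ', hc1, hc3]
      module
  have hval : ∀ j, j ≤ 2 → ε * (a : ZMod p) ^ j = 1 ∨ ε * (a : ZMod p) ^ j = μ := by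
    intro j hj
    obtain ⟨z, hz⟩ := hrM j e
    rw [hε, map_smul, smul_smul, mul_comm] at hz
    obtain ⟨z', hz'⟩ := hrM (j + 1) z
    set τ := ε * (a : ZMod p) ^ j
    set w := (M ^ j) e with hw
    have h0 : σ t (σ t w) - (1 + μ) • σ t w + μ • w = 0 := by
      have hs : ∀ y, A (A y) = A y := hA'
      simp [ht, hs]
      module
    have h1 := congrArg (M ^ (d - 1 - j)) h0
    have hkill : ∀ y, (M ^ (d - 1 - j)) ((M ^ (j + 1)) y) = 0 := fun y => by
      rw [← Module.End.mul_apply, ← pow_add, pow_eq_zero_of_le (by have := O.two_le; omega) hMd, LinearMap.zero_apply]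
    have hkill2 : ∀ y, (M ^ (d - 1 - j)) ((M ^ (j + 1 + 1)) y) = 0 := fun y => by
      rw [← Module.End.mul_apply, ← pow_add, pow_eq_zero_of_le (by have := O.two_le; omega) hMd, LinearMap.zero_apply]
    rw [hz] at h1
    simp only [map_add, map_smul, map_sub, hz, hz', hkill, hkill2, smul_zero, add_zero, map_zero, smul_add,
      smul_smul] at h1
    have htop : (M ^ (d - 1 - j)) w ≠ 0 := by
      rw [hw, ← Module.End.mul_apply, ← pow_add, show d - 1 - j + j = d - 1 by omega]
      exact he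
    have h2 : ((τ - 1) * (τ - μ)) • (M ^ (d - 1 - j)) w = 0 := by
      rw [← h1]; module
    rcases mul_eq_zero.mp ((smul_eq_zero.mp h2).resolve_right htop) with h3 | h3
    · exact Or.inl (sub_eq_zero.mp h3)
    · exact Or.inr (sub_eq_zero.mp h3)
  have ha : (a : ZMod p) = 1 := by
    have hμ1 : μ ≠ 1 := fun h => hμ (by rw [h, one_pow])
    have hμm : μ ≠ -1 := fun h => hμ (by rw [h, neg_one_sq])
    have v1 := hval 1 (by omega)
    have v2 := hval 2 le_rfl
    rw [pow_one] at v1
    by_contra hane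
    rcases hεv with rfl | rfl
    · rw [one_mul] at v1 v2
      have hμa : (a : ZMod p) = μ := v1.resolve_left hane
      rw [hμa] at v2
      rcases v2 with h | h
      · exact hμ h
      · exact hμ1 (by field_simp at h; exact h)
    · have hμa : ε * (a : ZMod p) = 1 := v1.resolve_right fun h => hane (by
        exact (mul_eq_left₀ hμ0).mp h)
      have hε2 : ε * (a : ZMod p) ^ 2 = a := by rw [pow_two, ← mul_assoc, hμa, one_mul]
      rw [hε2] at v2
      rcases v2 with h | h
      · exact hane h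
      · rw [h, ← pow_two] at hμa; exact hμ hμa
  have hga1 : t * g₀ * t⁻¹ = g₀ := by
    have hord : g₀ ^ p = 1 := by
      rw [← ey, conj_pow, ← pow_mul, mul_comm l p, pow_mul, O.x_pow, one_pow, mul_one, mul_inv_cancel]
    rw [hga]
    conv_rhs => rw [← pow_one g₀]
    refine pow_eq_pow_iff_modEq.mpr (Nat.ModEq.of_dvd (orderOf_dvd_of_pow_eq_one hord) ?_)
    exact (ZMod.natCast_eq_natCast_iff _ _ _).mp (by rw [ha, Nat.cast_one])
  set t' := h⁻¹ * t * h with ht'
  have hct : x * t' = t' * x := by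
    have h1 : Commute (x ^ l) t' := by
      have h2 : t * g₀ = g₀ * t := by rwa [mul_inv_eq_iff_eq_mul] at hga1
      rw [← ey] at h2
      show x ^ l * (h⁻¹ * t * h) = h⁻¹ * t * h * x ^ l
      calc x ^ l * (h⁻¹ * t * h) = h⁻¹ * (h * x ^ l * h⁻¹ * t) * h := by group
        _ = h⁻¹ * (t * (h * x ^ l * h⁻¹)) * h := by rw [h2]
        _ = _ := by group
    have h3 := h1.pow_left l'
    rwa [hxl] at h3
  have hco : (orderOf t').Coprime p := Nat.Coprime.coprime_dvd_left (orderOf_dvd_of_pow_eq_one (by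
      rw [ht', show h⁻¹ * t * h = h⁻¹ * t * h⁻¹⁻¹ by rw [inv_inv], conj_pow, O.pow_card_sub_one hA hμ0 ht,
        mul_one, mul_inv_cancel]))
    (Nat.Coprime.symm (hpf.out.coprime_iff_not_dvd.mpr fun hd => by
      have := Nat.le_of_dvd (by have := O.hp; omega) hd; omega))
  obtain ⟨η, hη⟩ := O.scalar_of_commute hco hct
  refine hne (O.inj ?_)
  have hst : σ t = η • 1 := by
    rw [show t = h * t' * h⁻¹ by rw [ht']; group, map_mul, map_mul, hη, mul_smul_comm, mul_one, smul_mul_assoc,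
      ← map_mul, mul_inv_cancel, map_one]
  rw [map_mul, map_mul, hst, smul_one_mul, mul_smul_one]

end main

end CfsgLib.MaxClassResidual
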