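import Cfsg.Agent.Lib.MaxClassResidual.TwoEigen
import Mathlib.FieldTheory.IsAlgClosed.AlgebraicClosure

/-!
The irreducible case of two elements with two eigenvalues, and the normalisation of the block.
-/

set_option autoImplicit false
set_option linter.unusedSectionVars false
set_option linter.style.haveILetI false
set_option maxHeartbeats 400000

namespace CfsgLib.MaxClassResidual

open Subgroup

variable {p : ℕ} [hpf : Fact p.Prime]

section matrices

variable {K : Type*} [Field K]

/-- Cayley and Hamilton in size two. -/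
theorem cayley_two (M : Matrix (Fin 2) (Fin 2) K) : M * M - M.trace • M + M.det • 1 = 0 := by
  ext i j
  fin_cases i <;> fin_cases j <;>
    simp [Matrix.mul_apply, Fin.sum_univ_two, Matrix.trace_fin_two, Matrix.det_fin_two] <;> ring

/-- A root of a monic quadratic. -/
theorem exists_quad_root [IsAlgClosed K] (h2 : (2 : K) ≠ 0) (a b : K) : ∃ r, r * r - a * r + b = 0 := by
  obtain ⟨z, hz⟩ := IsAlgClosed.exists_eq_mul_self (a ^ 2 / 4 - b)
  have h4 : (4 : K) ≠ 0 := by rw [show (4 : K) = 2 * 2 by norm_num]; exact mul_ne_zero h2 h2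
  refine ⟨a / 2 + z, ?_⟩
  field_simp at hz ⊢
  linear_combination (norm := ring_nf) -hz

/-- The powers of a map with two eigenvalues. -/
theorem two_eigen_pow' {R : Type*} [Ring R] [Algebra K R] {A : R} (hA : A * A = A) (μ : K) (m : ℕ) :
    (1 + (μ - 1) • A) ^ m = 1 + (μ ^ m - 1) • A := by
  induction m with
  | zero => simp
  | succ m ih =>
    rw [pow_succ, ih, pow_succ]
    simp only [mul_add, add_mul, one_mul, mul_one, smul_mul_smul_comm, hA]
    module

/-- The lines of the plane fixed by a matrix. -/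
theorem line_fixed_iff (M : Matrix (Fin 2) (Fin 2) K) {v : Fin 2 → K} (hv : v ≠ 0)
    (hM : Function.Injective M.mulVec) :
    (Submodule.span K {v}).map M.mulVecLin = Submodule.span K {v} ↔ ∃ e : K, M.mulVec v = e • v := by
  rw [Submodule.map_span, Set.image_singleton, Matrix.mulVecLin_apply]
  constructor
  · intro h
    obtain ⟨e, he⟩ := Submodule.mem_span_singleton.mp (h.le (Submodule.mem_span_singleton_self _))
    exact ⟨e, he.symm⟩
  · rintro ⟨e, he⟩
    rw [he]
    refine Submodule.span_singleton_smul_eq (IsUnit.mk0 e fun h => hv (hM ?_)) v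
    rw [he, h, zero_smul, Matrix.mulVec_zero]

/-- Vectors independent in the plane span it. -/
theorem eq_combination {f g : Fin 2 → K} (h : LinearIndependent K ![f, g]) (z : Fin 2 → K) :
    ∃ a b : K, z = a • f + b • g := by
  have htop : Submodule.span K (Set.range ![f, g]) = ⊤ := h.span_eq_top_of_card_eq_finrank (by simp)
  have hz : z ∈ Submodule.span K (Set.range ![f, g]) := by rw [htop]; trivial
  rw [show Set.range ![f, g] = {f, g} by simp [Matrix.range_cons, Set.pair_comm]] at hz
  obtain ⟨a, b, e⟩ := Submodule.mem_span_pair.mp hz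
  exact ⟨a, b, e.symm⟩

/-- A semisimple non-scalar matrix of size two has exactly two eigenlines. -/
theorem exists_two_lines [IsAlgClosed K] [CharP K p] (hp2 : p ≠ 2) {M : Matrix (Fin 2) (Fin 2) K} {r : ℕ}
    (hr : ¬ p ∣ r) (hM : M ^ r = 1) (hns : ∀ e : K, M ≠ e • 1) :
    ∃ w₁ w₂ : Fin 2 → K, LinearIndependent K ![w₁, w₂] ∧ (∃ e : K, M.mulVec w₁ = e • w₁) ∧
      (∃ e : K, M.mulVec w₂ = e • w₂) ∧
      ∀ (z : Fin 2 → K) (e : K), M.mulVec z = e • z → (∃ a : K, z = a • w₁) ∨ ∃ a : K, z = a • w₂ := by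
  have h2 : (2 : K) ≠ 0 := Ring.two_ne_zero (by rwa [ringChar.eq K p])
  obtain ⟨e₁, he₁⟩ := exists_quad_root h2 M.trace M.det
  set e₂ := M.trace - e₁ with he₂
  have hprod : (M - e₁ • 1) * (M - e₂ • 1) = 0 ∧ (M - e₂ • 1) * (M - e₁ • 1) = 0 := by
    have hc := cayley_two M
    have hdet : M.det = e₁ * e₂ := by rw [he₂]; linear_combination he₁
    rw [hdet, show M.trace = e₁ + e₂ by rw [he₂]; ring] at hc
    constructor <;> rw [← hc] <;>
      simp only [mul_sub, sub_mul, smul_mul_assoc, mul_smul_comm, one_mul, mul_one, smul_smul] <;> module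
  have hne : e₁ ≠ e₂ := by
    intro he
    haveI : CharP (Matrix (Fin 2) (Fin 2) K) p :=
      charP_of_injective_algebraMap (FaithfulSMul.algebraMap_injective K (Matrix (Fin 2) (Fin 2) K)) p
    have h0 : (M - e₁ • 1) ^ p = 0 := pow_eq_zero_of_le hpf.out.two_le (by rw [pow_two]; have h := hprod.1; rw [← he] at h; exact h)
    rw [sub_pow_char_of_commute p (Commute.smul_right (Commute.one_right M) e₁), smul_pow, one_pow, sub_eq_zero] at h0
    have hr1 : 1 < r := by
      rcases Nat.lt_or_ge 1 r with h | h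
      · exact h
      · interval_cases r
        · exact absurd (dvd_zero p) hr
        · exact absurd (by simpa using hM) (hns 1)
    obtain ⟨s, -, hs⟩ := Nat.exists_mul_mod_eq_one_of_coprime (hpf.out.coprime_iff_not_dvd.mpr hr) hr1
    refine hns ((e₁ ^ p) ^ s) ?_
    calc M = (M ^ p) ^ s := by
          rw [← pow_mul, ← Nat.div_add_mod (p * s) r, hs, pow_add, pow_mul, hM, one_pow, one_mul, pow_one]
      _ = _ := by rw [h0, smul_pow, one_pow]
  obtain ⟨z₁, hz₁⟩ : ∃ z, (M - e₂ • 1).mulVec z ≠ 0 := by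
    by_contra h
    push Not at h
    exact hns e₂ (sub_eq_zero.mp (Matrix.ext_iff_mulVec.mpr fun z => by rw [h, Matrix.zero_mulVec]))
  obtain ⟨z₂, hz₂⟩ : ∃ z, (M - e₁ • 1).mulVec z ≠ 0 := by
    by_contra h
    push Not at h
    exact hns e₁ (sub_eq_zero.mp (Matrix.ext_iff_mulVec.mpr fun z => by rw [h, Matrix.zero_mulVec]))
  set w₁ := (M - e₂ • 1).mulVec z₁ with hw₁
  set w₂ := (M - e₁ • 1).mulVec z₂ with hw₂
  have hev : M.mulVec w₁ = e₁ • w₁ ∧ M.mulVec w₂ = e₂ • w₂ := by
    constructor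
    · rw [← sub_eq_zero, show M.mulVec w₁ - e₁ • w₁ = (M - e₁ • 1).mulVec w₁ by
        rw [Matrix.sub_mulVec, Matrix.smul_mulVec, Matrix.one_mulVec], hw₁, Matrix.mulVec_mulVec, hprod.1,
        Matrix.zero_mulVec]
    · rw [← sub_eq_zero, show M.mulVec w₂ - e₂ • w₂ = (M - e₂ • 1).mulVec w₂ by
        rw [Matrix.sub_mulVec, Matrix.smul_mulVec, Matrix.one_mulVec], hw₂, Matrix.mulVec_mulVec, hprod.2,
        Matrix.zero_mulVec]
  have hli : LinearIndependent K ![w₁, w₂] := by
    rw [LinearIndependent.pair_iff]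
    intro a b hab
    have h1 := congrArg M.mulVec hab
    rw [Matrix.mulVec_add, Matrix.mulVec_smul, Matrix.mulVec_smul, hev.1, hev.2, Matrix.mulVec_zero] at h1
    have h3 : ((e₁ - e₂) * a) • w₁ = 0 := by linear_combination (norm := module) h1 - e₂ • hab
    have ha : a = 0 := (mul_eq_zero.mp ((smul_eq_zero.mp h3).resolve_right hz₁)).resolve_left (sub_ne_zero.mpr hne)
    rw [ha, zero_smul, zero_add] at hab
    exact ⟨ha, (smul_eq_zero.mp hab).resolve_right hz₂⟩
  refine ⟨w₁, w₂, hli, ⟨e₁, hev.1⟩, ⟨e₂, hev.2⟩, fun z e hze => ?_⟩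
  obtain ⟨a, b, rfl⟩ := eq_combination hli z
  rw [Matrix.mulVec_add, Matrix.mulVec_smul, Matrix.mulVec_smul, hev.1, hev.2] at hze
  obtain ⟨ha, hb⟩ := (LinearIndependent.pair_iff.mp hli) (a * (e₁ - e)) (b * (e₂ - e)) (by
    linear_combination (norm := module) hze)
  rcases mul_eq_zero.mp ha with h | h
  · exact Or.inr ⟨b, by rw [h, zero_smul, zero_add]⟩
  · refine Or.inl ⟨a, ?_⟩
    have hb0 : b = 0 := (mul_eq_zero.mp hb).resolve_right fun h' =>
      hne ((sub_eq_zero.mp h).trans (sub_eq_zero.mp h').symm)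
    rw [hb0, zero_smul, add_zero]

/-- A group of order prime to `p` of matrices containing two such generators is impossible. -/
theorem false_of_coprime [IsAlgClosed K] [CharP K p] (h7 : 7 ≤ p) {G : Type*} [Group G] [Finite G]
    (Φ : G →* Matrix (Fin 2) (Fin 2) K) (hcard : ¬ p ∣ Nat.card Φ.toHomUnits.range) {t u : G} {μ lam : K}
    (hμ : orderOf μ = p - 1) (h0 : lam ≠ 0) (h1 : lam ≠ 1) (ht : Φ t = gA μ) (hu : Φ u = gB μ lam) : False := by
  classical
  have hμ1 : μ ≠ 1 := fun h => by rw [h, orderOf_one] at hμ; omega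
  have hμm : μ ≠ -1 := fun h => by
    have := orderOf_dvd_of_pow_eq_one (show μ ^ 2 = 1 by rw [h, neg_one_sq])
    rw [hμ] at this
    have := Nat.le_of_dvd (by norm_num) this
    omega
  have hinv : ∀ g, Φ g * Φ g⁻¹ = 1 := fun g => by rw [← map_mul, mul_inv_cancel, map_one]
  have hinj : ∀ g, Function.Injective (Φ g).mulVec := fun g a b h => by
    have := congrArg (Φ g⁻¹).mulVec h
    rwa [Matrix.mulVec_mulVec, Matrix.mulVec_mulVec, ← map_mul, inv_mul_cancel, map_one, Matrix.one_mulVec,
      Matrix.one_mulVec] at this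
  have hord : ∀ g, Φ g ^ Nat.card Φ.toHomUnits.range = 1 := fun g => by
    have h := pow_card_eq_one' (G := Φ.toHomUnits.range) (x := Φ.toHomUnits.rangeRestrict g)
    exact congrArg Units.val (congrArg Subtype.val h)
  let P := {l : Submodule K (Fin 2 → K) // ∃ v : Fin 2 → K, v ≠ 0 ∧ l = Submodule.span K {v}}
  have hmap : ∀ g (l : P), ∃ v : Fin 2 → K, v ≠ 0 ∧ l.1.map (Φ g).mulVecLin = Submodule.span K {v} := by
    rintro g ⟨l, v, hv, rfl⟩
    refine ⟨(Φ g).mulVec v, fun h => hv (hinj g (by rw [h, Matrix.mulVec_zero])), ?_⟩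
    show (Submodule.span K {v}).map _ = _
    rw [Submodule.map_span, Set.image_singleton, Matrix.mulVecLin_apply]
  letI : MulAction G P :=
    { smul := fun g l => ⟨l.1.map (Φ g).mulVecLin, hmap g l⟩
      one_smul := fun l => Subtype.ext (show l.1.map (Φ 1).mulVecLin = l.1 by
        rw [map_one, Matrix.mulVecLin_one, Submodule.map_id])
      mul_smul := fun g h l => Subtype.ext (show l.1.map (Φ (g * h)).mulVecLin = (l.1.map (Φ h).mulVecLin).map (Φ g).mulVecLin by
        rw [map_mul, Matrix.mulVecLin_mul, Submodule.map_comp]) }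
  let ρ : G →* Equiv.Perm P := MulAction.toPermHom G P
  let line : ∀ v : Fin 2 → K, v ≠ 0 → P := fun v hv => ⟨Submodule.span K {v}, v, hv, rfl⟩
  have hfix : ∀ g v hv, g • line v hv = line v hv ↔ ∃ e : K, (Φ g).mulVec v = e • v := fun g v hv => by
    rw [← line_fixed_iff (Φ g) hv (hinj g), Subtype.ext_iff]
    rfl
  have hnsc : ∀ g, ρ g ≠ 1 → ∀ e : K, Φ g ≠ e • 1 := by
    intro g hg e he
    refine hg (Equiv.ext fun ⟨l, v, hv, hl⟩ => ?_)
    subst hl
    exact (hfix g v hv).mpr ⟨e, by rw [he, Matrix.smul_mulVec, Matrix.one_mulVec]⟩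
  -- the hypotheses of Klein's count
  have h2fix : ∀ g : ρ.range, g ≠ 1 → (MulAction.fixedBy P g).ncard = 2 := by
    rintro ⟨_, g, rfl⟩ hg
    obtain ⟨w₁, w₂, hli, he₁, he₂, hall⟩ := exists_two_lines (p := p) (by omega) hcard (hord g)
      (hnsc g fun h => hg (Subtype.ext h))
    have hw₁ : w₁ ≠ 0 := hli.ne_zero 0
    have hw₂ : w₂ ≠ 0 := hli.ne_zero 1
    refine Set.ncard_eq_two.mpr ⟨line w₁ hw₁, line w₂ hw₂, fun h => ?_, Set.ext fun l => ⟨fun hl => ?_, ?_⟩⟩
    · obtain ⟨a, ha⟩ := Submodule.mem_span_singleton.mp ((congrArg Subtype.val h).le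
        (Submodule.mem_span_singleton_self w₁))
      exact one_ne_zero ((LinearIndependent.pair_iff.mp hli) 1 (-a) (by rw [neg_smul, ha, one_smul, add_neg_cancel])).1
    · obtain ⟨l, v, hv, rfl⟩ := l
      obtain ⟨e, he⟩ := (hfix g v hv).mp hl
      rcases hall v e he with ⟨a, ha⟩ | ⟨a, ha⟩
      · left
        refine Subtype.ext ?_
        show Submodule.span K {v} = Submodule.span K {w₁}
        rw [ha]
        exact Submodule.span_singleton_smul_eq (IsUnit.mk0 a fun h => hv (by rw [ha, h, zero_smul])) w₁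
      · right
        refine Subtype.ext ?_
        show Submodule.span K {v} = Submodule.span K {w₂}
        rw [ha]
        exact Submodule.span_singleton_smul_eq (IsUnit.mk0 a fun h => hv (by rw [ha, h, zero_smul])) w₂
    · rintro (rfl | rfl)
      · exact (hfix g w₁ hw₁).mpr he₁
      · exact (hfix g w₂ hw₂).mpr he₂
  have hcomm : ∀ a : P, ∀ g ∈ MulAction.stabilizer ρ.range a, ∀ h ∈ MulAction.stabilizer ρ.range a, g * h = h * g := by
    rintro ⟨l, v, hv, rfl⟩ ⟨_, g, rfl⟩ hg ⟨_, h, rfl⟩ hh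
    obtain ⟨e, he⟩ := (hfix g v hv).mp hg
    obtain ⟨f, hf⟩ := (hfix h v hv).mp hh
    set c := g * h * g⁻¹ * h⁻¹ with hc
    have hdet : (Φ c).det = 1 := by
      rw [hc, map_mul, map_mul, map_mul]
      simp only [Matrix.det_mul]
      have hg' : (Φ g).det * (Φ g⁻¹).det = 1 := by rw [← Matrix.det_mul, hinv, Matrix.det_one]
      have hh' : (Φ h).det * (Φ h⁻¹).det = 1 := by rw [← Matrix.det_mul, hinv, Matrix.det_one]
      linear_combination (Φ h).det * (Φ h⁻¹).det * hg' + hh'
    have hcv : (Φ c).mulVec v = v := by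
      have e1 : (Φ (g * h)).mulVec v = (Φ (h * g)).mulVec v := by
        rw [map_mul, map_mul, ← Matrix.mulVec_mulVec, ← Matrix.mulVec_mulVec, hf, he, Matrix.mulVec_smul,
          Matrix.mulVec_smul, he, hf, smul_comm]
      have e2 : (Φ (h * g)⁻¹).mulVec ((Φ (h * g)).mulVec v) = v := by
        rw [Matrix.mulVec_mulVec, ← map_mul, inv_mul_cancel, map_one, Matrix.one_mulVec]
      have e3 : (Φ (h * g)⁻¹).mulVec ((Φ (g * h)).mulVec v) = v := by rw [e1]; exact e2
      have e4 : (Φ (g * h)).mulVec ((Φ (h * g)⁻¹).mulVec ((Φ (g * h)).mulVec v)) = (Φ (g * h)).mulVec v := by rw [e3]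
      rw [Matrix.mulVec_mulVec, ← map_mul, show g * h * (h * g)⁻¹ = c by rw [hc]; group] at e4
      have hs : (Φ (g * h)).mulVec v = (e * f) • v := by
        rw [map_mul, ← Matrix.mulVec_mulVec, hf, Matrix.mulVec_smul, he, smul_smul, mul_comm]
      rw [hs, Matrix.mulVec_smul] at e4
      refine smul_right_injective _ ?_ e4
      intro h0'
      refine hv (hinj (g * h) ?_)
      rw [hs, h0', zero_smul, Matrix.mulVec_zero]
    have htr : (Φ c).trace = 2 := by
      have h1 := congrArg (fun M => M.mulVec v) (cayley_two (Φ c))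
      simp only [Matrix.add_mulVec, Matrix.sub_mulVec, Matrix.smul_mulVec, ← Matrix.mulVec_mulVec, hcv,
        Matrix.one_mulVec, Matrix.zero_mulVec, hdet, one_smul] at h1
      have h2 : (2 - (Φ c).trace) • v = 0 := by linear_combination (norm := module) h1
      exact ((sub_eq_zero.mp ((smul_eq_zero.mp h2).resolve_right hv))).symm
    have hsq : (Φ c - 1) * (Φ c - 1) = 0 := by
      rw [← cayley_two (Φ c), htr, hdet]
      simp only [mul_sub, sub_mul, one_mul, mul_one, one_smul]
      module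
    haveI : CharP (Matrix (Fin 2) (Fin 2) K) p :=
      charP_of_injective_algebraMap (FaithfulSMul.algebraMap_injective K (Matrix (Fin 2) (Fin 2) K)) p
    have hcp : Φ c ^ p = 1 := by
      have := pow_eq_zero_of_le (M₀ := Matrix (Fin 2) (Fin 2) K) hpf.out.two_le (show (Φ c - 1) ^ 2 = 0 by rw [pow_two, hsq])
      rwa [sub_pow_char_of_commute p (Commute.one_right _), one_pow, sub_eq_zero] at this
    have hc1 : Φ c = 1 := by
      have := pow_gcd_eq_one.mpr ⟨hcp, hord c⟩
      rwa [(hpf.out.coprime_iff_not_dvd.mpr hcard).gcd_eq_one, pow_one] at this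
    refine Subtype.ext ?_
    show ρ g * ρ h = ρ h * ρ g
    rw [← map_mul, ← map_mul]
    refine Equiv.ext fun l => Subtype.ext ?_
    show l.1.map (Φ (g * h)).mulVecLin = l.1.map (Φ (h * g)).mulVecLin
    rw [show g * h = c * (h * g) by rw [hc]; group, map_mul, hc1, one_mul]
  haveI : Finite ρ.range := Finite.of_surjective _ ρ.rangeRestrict_surjective
  -- the orders of the generators
  have hlow : ∀ (g : G) (v : Fin 2 → K) (hv : v ≠ 0), (∀ k : ℕ, (∃ e : K, (Φ g ^ k).mulVec v = e • v) → μ ^ k = 1) →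
      6 ≤ orderOf (ρ.rangeRestrict g) := by
    intro g v hv hk
    set m := orderOf (ρ.rangeRestrict g)
    have h1 : ρ (g ^ m) = 1 := by
      have h := congrArg Subtype.val (pow_orderOf_eq_one (ρ.rangeRestrict g))
      rw [map_pow]
      exact h
    have h2 : g ^ m • line v hv = line v hv := Equiv.congr_fun h1 _
    have h3 := (hfix _ v hv).mp h2
    rw [map_pow] at h3
    have h4 := orderOf_dvd_of_pow_eq_one (hk m h3)
    rw [hμ] at h4
    have hm : 0 < m := orderOf_pos _
    have := Nat.le_of_dvd hm h4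
    omega
  have hAi : ∀ k : ℕ, gA μ ^ k = gA (μ ^ k) := fun k => by
    induction k with
    | zero => rw [pow_zero, pow_zero]; ext i j; fin_cases i <;> fin_cases j <;> simp [gA]
    | succ k ih => rw [pow_succ, ih, pow_succ]; ext i j; fin_cases i <;> fin_cases j <;> simp [gA]
  set Bm : Matrix (Fin 2) (Fin 2) K := !![1 - lam, lam * (1 - lam); 1, lam] with hBm
  have hgB : ∀ ν, gB ν lam = 1 + (ν - 1) • Bm := fun ν => by
    ext i j; fin_cases i <;> fin_cases j <;> simp [gB, hBm]
  have hBm2 : Bm * Bm = Bm := by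
    ext i j; fin_cases i <;> fin_cases j <;> simp [hBm, Matrix.mul_apply, Fin.sum_univ_two] <;> ring
  have hot : 6 ≤ orderOf (ρ.rangeRestrict t) := by
    refine hlow t ![1, 1] (fun h => one_ne_zero (congrFun h 0)) fun k ⟨e, he⟩ => ?_
    rw [ht, hAi] at he
    have e0 := congrFun he 0
    have e1 := congrFun he 1
    simp [gA, Matrix.mulVec, dotProduct, Fin.sum_univ_two] at e0 e1
    rw [e0, ← e1]
  have hou : 6 ≤ orderOf (ρ.rangeRestrict u) := by
    refine hlow u ![1, 0] (fun h => one_ne_zero (congrFun h 0)) fun k ⟨e, he⟩ => ?_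
    rw [hu, hgB, two_eigen_pow' hBm2, ← hgB] at he
    have e1 := congrFun he 1
    simp [gB, Matrix.mulVec, dotProduct, Fin.sum_univ_two, sub_eq_zero] at e1
    exact e1
  have hc := congrArg Subtype.val (commute_of_two_fixed h2fix hcomm hot hou)
  -- the contradiction
  have himg : ∀ (v : Fin 2 → K) (hv : v ≠ 0), (∃ e : K, (gA μ).mulVec v = e • v) →
      ((gB μ lam).mulVec v) 0 = 0 ∨ ((gB μ lam).mulVec v) 1 = 0 := by
    intro v hv he
    have hv' : (Φ u).mulVec v ≠ 0 := fun h => hv (hinj u (by rw [h, Matrix.mulVec_zero]))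
    have h1 : t • line v hv = line v hv := (hfix t v hv).mpr (by rw [ht]; exact he)
    have hline : u • line v hv = line _ hv' := Subtype.ext (show (Submodule.span K {v}).map _ = _ by
      rw [Submodule.map_span, Set.image_singleton, Matrix.mulVecLin_apply])
    have h2 : t • line _ hv' = line _ hv' := by
      have e : ρ t (ρ u (line v hv)) = ρ u (ρ t (line v hv)) := Equiv.congr_fun hc _
      have e' : ρ t (line v hv) = line v hv := h1
      rw [e'] at e
      rw [← hline]
      exact e
    obtain ⟨f, hf⟩ := (hfix t _ hv').mp h2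
    rw [hu, ht] at hf
    generalize (gB μ lam).mulVec v = w at hf ⊢
    have e0 := congrFun hf 0
    have e1 := congrFun hf 1
    simp [gA, Matrix.mulVec, dotProduct, Fin.sum_univ_two] at e0 e1
    by_contra hh
    push Not at hh
    have hf1 : f = 1 := sub_eq_zero.mp ((mul_eq_zero.mp (show (f - 1) * w 1 = 0 by
      first
      | linear_combination e1
      | linear_combination -e1)).resolve_right hh.2)
    subst hf1
    rcases e0 with h' | h'
    · exact hμ1 h'
    · exact hh.1 h'
  have hA0 := himg ![1, 0] (fun h => one_ne_zero (congrFun h 0))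
    ⟨μ, by funext i; fin_cases i <;> simp [gA, Matrix.mulVec, dotProduct, Fin.sum_univ_two]⟩
  have hA1 := himg ![0, 1] (fun h => one_ne_zero (congrFun h 1))
    ⟨1, by funext i; fin_cases i <;> simp [gA, Matrix.mulVec, dotProduct, Fin.sum_univ_two]⟩
  simp [gB, Matrix.mulVec, dotProduct, Fin.sum_univ_two, sub_eq_zero, hμ1, h0, Ne.symm h1] at hA0 hA1
  exact hμm (by linear_combination hA0 + hA1)

end matrices

end CfsgLib.MaxClassResidual
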