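import Cfsg.Agent.Lib.MaxClassResidual.Frame
import Cfsg.Agent.Lib.Fusion.Normal

/-!
Automorphisms of the two-step centralizer normalising the image of the whole group: weights on the layers.
-/

set_option autoImplicit false
set_option linter.unusedSectionVars false

namespace CfsgLib.MaxClassResidual

open scoped commutatorElement
open Subgroup
open CfsgLib.PolySeq (fil fil_antitone fil_commutator_mem)

namespace Frame

variable {p : ℕ} [hp : Fact p.Prime] {S : Type*} [Group S] [Finite S] (D : Frame p S)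

/-- Conjugation on `T`. -/
def cT : S →* MulAut D.T := MulAut.conjNormal

theorem coe_cT (g : S) (u : D.T) : ((D.cT g u : D.T) : S) = g * u * g⁻¹ := MulAut.conjNormal_apply g u

/-- Normalising the image of the group. -/
def NormS (α : MulAut D.T) : Prop := ∀ g : S, ∃ g' : S, α * D.cT g * α⁻¹ = D.cT g'

variable {D}

theorem coe_comm {α : MulAut D.T} {g g' : S} (h : α * D.cT g * α⁻¹ = D.cT g') (u : D.T)
    (hc : ⁅(u : S), g⁆ ∈ D.T) : ((α ⟨_, hc⟩ : D.T) : S) = ⁅((α u : D.T) : S), g'⁆ := by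
  have e : (⟨_, hc⟩ : D.T) = u * D.cT g u⁻¹ := Subtype.ext (by
    show ⁅(u : S), g⁆ = _
    rw [Subgroup.coe_mul, D.coe_cT, Subgroup.coe_inv, commutatorElement_def]; group)
  have e2 : α (D.cT g u⁻¹) = D.cT g' (α u⁻¹) := by
    rw [← h]; simp [MulAut.mul_apply]
  rw [e, map_mul, e2, Subgroup.coe_mul, D.coe_cT, map_inv, Subgroup.coe_inv, commutatorElement_def]
  group

theorem comm_mem_T (u : D.T) (g : S) : ⁅(u : S), g⁆ ∈ D.T :=
  D.fil_two_le (fil_commutator_mem (i := 1) (j := 1) (mem_top _) (mem_top g))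

theorem comm_mem_succ {k : ℕ} (_h1 : 1 ≤ k) {u : S} (hu : u ∈ D.Tf k) (g : S) : ⁅u, g⁆ ∈ fil S (k + 1) :=
  fil_commutator_mem (D.Tf_le_fil hu) (show g ∈ fil S 1 from mem_top g)

theorem fil_succ_eq {k : ℕ} (h1 : 1 ≤ k) : fil S (k + 1) = ⁅D.Tf k, (⊤ : Subgroup S)⁆ := by
  rcases eq_or_lt_of_le h1 with rfl | h
  · rw [D.Tf_of_le le_rfl, ← D.fil_two_eq]
  · rw [D.Tf_of_two h, CfsgLib.MaxClassRank.fil_succ h1]

theorem NormS.pres {α : MulAut D.T} (hα : D.NormS α) : ∀ k, ∀ u : D.T, (u : S) ∈ D.Tf k → ((α u : D.T) : S) ∈ D.Tf k := by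
  intro k
  induction k with
  | zero => intro u _; rw [D.Tf_of_le (Nat.zero_le 1)]; exact (α u).2
  | succ k ih =>
    intro u hu
    rcases Nat.lt_or_ge k 1 with hk | hk
    · rw [D.Tf_of_le (by omega)]; exact (α u).2
    rw [D.Tf_of_two (by omega)] at hu ⊢
    let M : Subgroup S := (((fil S (k + 1)).comap (D.T.subtype.comp α.toMonoidHom))).map D.T.subtype
    have hle : fil S (k + 1) ≤ M := by
      rw [fil_succ_eq (D := D) hk, commutator_le]
      intro a ha g _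
      obtain ⟨g', hg'⟩ := hα g
      refine ⟨⟨_, comm_mem_T ⟨a, D.Tf_le_T k ha⟩ g⟩, ?_, rfl⟩
      show ((α _ : D.T) : S) ∈ fil S (k + 1)
      rw [coe_comm hg' ⟨a, D.Tf_le_T k ha⟩]
      exact comm_mem_succ hk (ih _ ha) g'
    obtain ⟨v, hv, e⟩ := hle hu
    rw [show u = v from Subtype.ext e.symm]
    exact hv

variable (D)

/-- The weight `c` on layer `k`. -/
def HasWt (α : MulAut D.T) (k c : ℕ) : Prop :=
  ∀ u : D.T, (u : S) ∈ D.Tf k → (((u : S) ^ c)⁻¹ * ((α u : D.T) : S)) ∈ D.Tf (k + 1)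

/-- The weight `a` on `x` modulo `T`. -/
def XWt (α : MulAut D.T) (x : S) (a : ℕ) : Prop :=
  ∃ t ∈ D.T, α * D.cT x * α⁻¹ = D.cT (x ^ a * t)

theorem exists_xwt {α : MulAut D.T} (hα : D.NormS α) {x : S} (hx : x ∉ D.T) : ∃ a, D.XWt α x a := by
  obtain ⟨g', hg'⟩ := hα x
  obtain ⟨a, ha⟩ := CfsgLib.MaxClassDegree.pow_mem_of_not_mem D.hn3 D.hG D.hc D.T_index hx g'
  exact ⟨a, _, ha, by rw [mul_inv_cancel_left]; exact hg'⟩

theorem exists_wt {α : MulAut D.T} (hα : D.NormS α) {k : ℕ} (h1 : 1 ≤ k) : ∃ c, D.HasWt α k c := by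
  by_cases hk : k < D.n
  · obtain ⟨u, hu, hu'⟩ := D.exists_exact h1 hk
    set u' : D.T := ⟨u, D.Tf_le_T k hu⟩
    obtain ⟨c, hc⟩ := D.layer_pow h1 hk hu hu' (hα.pres k u' hu)
    refine ⟨c, fun v hv => ?_⟩
    obtain ⟨i, hi⟩ := D.layer_pow h1 hk hu hu' hv
    set w : D.T := (u' ^ i)⁻¹ * v
    have hw : (w : S) ∈ D.Tf (k + 1) := by simpa [w, u'] using hi
    have hv' : v = u' ^ i * w := by simp [w]
    set q := QuotientGroup.mk' (D.Tf (k + 1))
    have h0 : ∀ {z : S}, z ∈ D.Tf (k + 1) → q z = 1 := fun hz => (QuotientGroup.eq_one_iff _).mpr hz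
    refine (QuotientGroup.eq_one_iff _).mp ?_
    show q _ = 1
    have hcu : q ((α u' : D.T) : S) = q u ^ c := by
      have := h0 hc
      rwa [map_mul, map_inv, map_pow, inv_mul_eq_one, eq_comm] at this
    have e1 : q (v : S) = q u ^ i := by
      have := h0 hi
      rwa [map_mul, map_inv, map_pow, inv_mul_eq_one, eq_comm] at this
    have e2 : q ((α v : D.T) : S) = (q u ^ c) ^ i := by
      rw [hv', map_mul α, map_pow α, Subgroup.coe_mul, map_mul, Subgroup.coe_pow, map_pow,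
        h0 (hα.pres _ w hw), hcu, mul_one]
    rw [map_mul, map_inv, map_pow, e1, e2, ← pow_mul, ← pow_mul, mul_comm, inv_mul_eq_one]
  · refine ⟨0, fun u hu => ?_⟩
    rw [D.Tf_bot (by omega), mem_bot] at hu
    rw [show u = 1 from Subtype.ext hu, map_one]
    simp

theorem pow_mem_next {k : ℕ} (h1 : 1 ≤ k) {u : S} (hu : u ∈ D.Tf k) : u ^ p ∈ D.Tf (k + 1) := by
  rw [D.Tf_of_two (by omega)]
  rcases eq_or_lt_of_le h1 with rfl | h
  · show u ^ p ∈ fil S 2
    rw [show fil S 2 = _root_.commutator S from Subgroup.top_lowerCentralSeries_one]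
    exact CfsgLib.MaximalClass.pow_mem_commutator D.hn3 D.hG D.hc u
  · rw [D.Tf_of_two h] at hu
    exact CfsgLib.MaxClassRank.pow_mem_fil_succ D.hn3 D.hG D.hc h hu

theorem pow_mem_iff {k : ℕ} (h1 : 1 ≤ k) {u : S} (hu : u ∈ D.Tf k) (hu' : u ∉ D.Tf (k + 1)) (c : ℕ) :
    u ^ c ∈ D.Tf (k + 1) ↔ (c : ZMod p) = 0 := by
  have ho : orderOf (QuotientGroup.mk' (D.Tf (k + 1)) u) = p :=
    orderOf_eq_prime (by rw [← map_pow]; exact (QuotientGroup.eq_one_iff _).mpr (D.pow_mem_next h1 hu))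
      (fun h => hu' ((QuotientGroup.eq_one_iff _).mp h))
  rw [← QuotientGroup.eq_one_iff (N := D.Tf (k + 1)), ZMod.natCast_eq_zero_iff]
  show QuotientGroup.mk' (D.Tf (k + 1)) (u ^ c) = 1 ↔ _
  rw [map_pow, ← orderOf_dvd_iff_pow_eq_one, ho]

theorem wt_unique {α : MulAut D.T} {k c c' : ℕ} (h1 : 1 ≤ k) (hk : k < D.n) (h : D.HasWt α k c)
    (h' : D.HasWt α k c') : (c : ZMod p) = c' := by
  obtain ⟨u, hu, hu'⟩ := D.exists_exact h1 hk
  set q := QuotientGroup.mk' (D.Tf (k + 1))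
  have e1 := (QuotientGroup.eq_one_iff _).mpr (h ⟨u, D.Tf_le_T k hu⟩ hu)
  have e2 := (QuotientGroup.eq_one_iff _).mpr (h' ⟨u, D.Tf_le_T k hu⟩ hu)
  change q _ = 1 at e1
  change q _ = 1 at e2
  rw [map_mul, map_inv, map_pow, inv_mul_eq_one] at e1 e2
  have e3 : q u ^ c = q u ^ c' := e1.trans e2.symm
  have ho : orderOf (q u) = p :=
    orderOf_eq_prime (by rw [← map_pow]; exact (QuotientGroup.eq_one_iff _).mpr (D.pow_mem_next h1 hu))
      (fun h => hu' ((QuotientGroup.eq_one_iff _).mp h))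
  rw [pow_eq_pow_iff_modEq, ho] at e3
  exact (ZMod.natCast_eq_natCast_iff _ _ _).mpr e3

theorem wt_congr {α : MulAut D.T} {k c c' : ℕ} (h1 : 1 ≤ k) (hc : (c : ZMod p) = c') (h : D.HasWt α k c) :
    D.HasWt α k c' := by
  intro u hu
  have hmod : c ≡ c' [MOD p] := (ZMod.natCast_eq_natCast_iff _ _ _).mp hc
  set q := QuotientGroup.mk' (D.Tf (k + 1))
  have e1 := (QuotientGroup.eq_one_iff _).mpr (h u hu)
  change q _ = 1 at e1
  refine (QuotientGroup.eq_one_iff _).mp ?_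
  show q _ = 1
  rw [map_mul, map_inv, map_pow] at e1 ⊢
  have : q (u : S) ^ c' = q (u : S) ^ c := by
    rw [pow_eq_pow_iff_modEq]
    refine (hmod.of_dvd ?_).symm
    refine orderOf_dvd_of_pow_eq_one ?_
    rw [← map_pow]
    exact (QuotientGroup.eq_one_iff _).mpr (D.pow_mem_next h1 hu)
  rw [this, e1]

/-- The weights follow a geometric progression. -/
theorem wt_succ {α : MulAut D.T} (hα : D.NormS α) {x : S} (hx : x ∉ D.T) {a : ℕ} (ha : D.XWt α x a) {k c : ℕ}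
    (h1 : 1 ≤ k) (hc : D.HasWt α k c) : D.HasWt α (k + 1) (c * a) := by
  intro v hv
  rw [D.Tf_of_two (by omega)] at hv
  rw [D.Tf_of_two (by omega)]
  by_cases hk : k + 1 < D.n
  swap
  · rw [show v = 1 from Subtype.ext (D.eq_one_of_fil (by omega) hv), map_one]
    simp
  obtain ⟨t, ht, hat⟩ := ha
  obtain ⟨u, hu, hu'⟩ := D.exists_exact h1 (by omega)
  set q := QuotientGroup.mk' (fil S (k + 2))
  have h0 : ∀ {z : S}, z ∈ fil S (k + 2) → q z = 1 := fun hz => (QuotientGroup.eq_one_iff _).mpr hz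
  have hcen : ∀ {z : S}, z ∈ fil S (k + 1) → ∀ g : S, Commute (q z) (q g) := fun {z} hz g =>
    CfsgLib.MaxClassRank.mk_comm_iff.mpr (fil_commutator_mem (j := 1) hz (mem_top g))
  have hB : ∀ {y : S}, y ∈ D.Tf k → ∀ g, ⁅y, g⁆ ∈ fil S (k + 1) := fun hy g => comm_mem_succ h1 hy g
  have hleft : ∀ {y y' : S}, y ∈ D.Tf k → y' ∈ D.Tf k → ∀ g, q ⁅y * y', g⁆ = q ⁅y, g⁆ * q ⁅y', g⁆ := by
    intro y y' hy hy' g
    have e : ⁅y * y', g⁆ = y * ⁅y', g⁆ * y⁻¹ * ⁅y, g⁆ := by simp only [commutatorElement_def]; group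
    rw [e, map_mul, map_mul, map_mul, map_inv, ← (hcen (hB hy' g) y).eq, mul_inv_cancel_right,
      (hcen (hB hy' g) _).eq]
  have hright : ∀ {y : S}, y ∈ D.Tf k → ∀ g g', q ⁅y, g * g'⁆ = q ⁅y, g⁆ * q ⁅y, g'⁆ := by
    intro y hy g g'
    have e : ⁅y, g * g'⁆ = ⁅y, g⁆ * (g * ⁅y, g'⁆ * g⁻¹) := by simp only [commutatorElement_def]; group
    rw [e, map_mul, map_mul, map_mul, map_inv, ← (hcen (hB hy g') g).eq, mul_inv_cancel_right]
  have hpl : ∀ {y : S}, y ∈ D.Tf k → ∀ g, ∀ m : ℕ, q ⁅y ^ m, g⁆ = q ⁅y, g⁆ ^ m := by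
    intro y hy g m
    induction m with
    | zero => simp
    | succ m ih => rw [pow_succ, hleft (pow_mem hy m) hy, ih, pow_succ]
  have hpr : ∀ {y : S}, y ∈ D.Tf k → ∀ g, ∀ m : ℕ, q ⁅y, g ^ m⁆ = q ⁅y, g⁆ ^ m := by
    intro y hy g m
    induction m with
    | zero => simp
    | succ m ih => rw [pow_succ, hright hy, ih, pow_succ]
  set uT : D.T := ⟨u, D.Tf_le_T k hu⟩
  set e₀ : D.T := ⟨_, comm_mem_T uT x⟩
  have hkey : q ((α e₀ : D.T) : S) = q ⁅u, x⁆ ^ (c * a) := by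
    set w := (u ^ c)⁻¹ * ((α uT : D.T) : S) with hwdef
    have hw : w ∈ D.Tf (k + 1) := hc uT hu
    have hwk : w ∈ D.Tf k := D.Tf_anti (Nat.le_succ k) hw
    rw [coe_comm hat uT, show ((α uT : D.T) : S) = u ^ c * w by rw [hwdef, mul_inv_cancel_left],
      hright (mul_mem (pow_mem hu c) hwk), h0 (D.comm_Tf k 1 h1 le_rfl _ (mul_mem (pow_mem hu c) hwk) t
        (by rw [D.Tf_of_le le_rfl]; exact ht)), mul_one,
      hpr (mul_mem (pow_mem hu c) hwk), hleft (pow_mem hu c) hwk,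
      h0 (comm_mem_succ (by omega) hw x), mul_one, hpl hu, ← pow_mul]
  have hα' : ∀ {z : D.T}, (z : S) ∈ fil S (k + 1) → ((α z : D.T) : S) ∈ fil S (k + 1) := fun {z} hz => by
    have := hα.pres (k + 1) z (by rwa [D.Tf_of_two (by omega)])
    rwa [D.Tf_of_two (by omega)] at this
  have he₀ : ((e₀ : D.T) : S) ∈ D.Tf (k + 1) := by rw [D.Tf_of_two (by omega)]; exact comm_mem_succ h1 hu x
  have he₀' : ((e₀ : D.T) : S) ∉ D.Tf (k + 1 + 1) := by
    rw [D.Tf_of_two (by omega)]; exact D.comm_exact hx h1 hk hu hu'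
  obtain ⟨i, hi⟩ := D.layer_pow (by omega) hk he₀ he₀' (show (v : S) ∈ D.Tf (k + 1) by rwa [D.Tf_of_two (by omega)])
  set r : D.T := (e₀ ^ i)⁻¹ * v
  have hr : (r : S) ∈ fil S (k + 2) := by
    rw [D.Tf_of_two (by omega)] at hi; simpa [r] using hi
  have hαr : ((α r : D.T) : S) ∈ fil S (k + 2) := by
    have := hα.pres (k + 2) r (by rwa [D.Tf_of_two (by omega)])
    rwa [D.Tf_of_two (by omega)] at this
  refine (QuotientGroup.eq_one_iff _).mp ?_
  show q _ = 1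
  have e1 : q (v : S) = q ⁅u, x⁆ ^ i := by
    rw [show v = e₀ ^ i * r by simp [r], Subgroup.coe_mul, map_mul, Subgroup.coe_pow, map_pow, h0 hr, mul_one]
  have e2 : q ((α v : D.T) : S) = (q ⁅u, x⁆ ^ (c * a)) ^ i := by
    rw [show v = e₀ ^ i * r by simp [r], map_mul α, map_pow α, Subgroup.coe_mul, map_mul, Subgroup.coe_pow,
      map_pow, h0 hαr, hkey, mul_one]
  rw [map_mul, map_inv, map_pow, e1, e2, ← pow_mul, ← pow_mul, mul_comm, inv_mul_eq_one]

theorem wt_formula {α : MulAut D.T} (hα : D.NormS α) {x : S} (hx : x ∉ D.T) {a : ℕ} (ha : D.XWt α x a) {b : ℕ}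
    (hb : D.HasWt α 1 b) : ∀ k, 1 ≤ k → D.HasWt α k (b * a ^ (k - 1)) := by
  intro k hk
  induction k, hk using Nat.le_induction with
  | base => simpa using hb
  | succ k hk ih =>
    have h := D.wt_succ hα hx ha hk ih
    rwa [mul_assoc, ← pow_succ, show k - 1 + 1 = k + 1 - 1 by omega] at h

/-- An automorphism of order prime to `p` with all weights one is trivial. -/
theorem eq_one_of_wt {α : MulAut D.T} (ho : (orderOf α).Coprime p)
    (h : ∀ k, 1 ≤ k → D.HasWt α k 1) : α = 1 := by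
  have hn := D.h4
  refine Cfsg.mulAut_eq_one_of_stabilises (D.hS.to_subgroup D.T) (n := D.n - 1)
    (fun i => (D.Tf (D.n - i)).subgroupOf D.T) ?_ ?_ ho ?_
  · simp only [Fin.val_zero, Nat.sub_zero, D.Tf_bot le_rfl, bot_subgroupOf]
  · simp only [Fin.val_last]
    rw [show D.n - (D.n - 1) = 1 by omega, D.Tf_of_le le_rfl, subgroupOf_self]
  · intro i u hu
    simp only [Fin.val_succ, mem_subgroupOf] at hu
    simp only [Fin.val_castSucc, mem_subgroupOf]
    have h1 := h (D.n - (i.val + 1)) (by have := i.isLt; omega) u hu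
    rw [show D.n - (i.val + 1) + 1 = D.n - i.val by have := i.isLt; omega, pow_one] at h1
    simpa using h1

end Frame

end CfsgLib.MaxClassResidual
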